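import Cfsg.Agent.H18.Form2
import Cfsg.Agent.H18.Wedder

/-!
Interface for the determination of the quasisimple absolutely irreducible subgroups of `SL₃(F)`.
-/

set_option autoImplicit false

namespace Cfsg.Agent.H18.Mi

open Cfsg.Geo Matrix

variable {F : Type*} [Field F]

/-- The image of `P` modulo scalars. -/
abbrev PQ (P : Subgroup (GL (Fin 3) F)) := P ⧸ (scalars (Fin 3) F).subgroupOf P

/-- A perfect absolutely irreducible subgroup of `SL₃(F)` that is simple modulo scalars. -/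
structure Core (P : Subgroup (GL (Fin 3) F)) : Prop where
  le : P ≤ specialLinear (Fin 3) F
  perfect : ⁅P, P⁆ = P
  simple : IsSimpleGroup (PQ P)
  nonab : ¬ IsMulCommutative (PQ P)
  absIrred : ActsAbsolutelyIrreducibly (matrixSet P)

/-- `P` contains a transvection. -/
def HasTv (P : Subgroup (GL (Fin 3) F)) : Prop :=
  ∃ g ∈ P, g ≠ 1 ∧ ((g : Matrix (Fin 3) (Fin 3) F) - 1) * ((g : Matrix (Fin 3) (Fin 3) F) - 1) = 0

/-- The trace of an invertible matrix. -/
def trc (g : GL (Fin 3) F) : F := (g : Matrix (Fin 3) (Fin 3) F).trace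

/-- The conclusion when there is no transvection (odd characteristic). -/
def NConcl (P : Subgroup (GL (Fin 3) F)) : Prop :=
  (∀ g ∈ P, trc g⁻¹ = trc g) ∨ Nonempty (PQ P ≃* ProjectiveSpecialLinearGroup (Fin 3) (ZMod 2)) ∨
    Nonempty (PQ P ≃* alternatingGroup (Fin 6)) ∨
    ((5 : F) = 0 ∧ Nonempty (PQ P ≃* alternatingGroup (Fin 7)))

/-- The full list of possibilities. -/
def MConcl (P : Subgroup (GL (Fin 3) F)) : Prop :=
  specialLinear (Fin 3) F ≤ P ∨ (∃ F₀ : Subfield F, F₀ ≠ ⊤ ∧ RealisableOver F₀ (matrixSet P)) ∨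
    (∃ (σ : F ≃+* F) (f : (Fin 3 → F) → (Fin 3 → F) → F), IsUnitaryForm σ f ∧
      FixesForm (matrixSet P) f ∧ ∀ g ∈ specialLinear (Fin 3) F,
        (∀ u v, f (g.1 *ᵥ u) (g.1 *ᵥ v) = f u v) → g ∈ P) ∨ NConcl P

theorem Core.of_residual {H P : Subgroup (GL (Fin 3) F)} (h : IsResidualCore H P)
    (hH : H ≤ specialLinear (Fin 3) F) : Core P :=
  ⟨h.le.trans hH, h.perfect, h.simple, h.nonabelian, h.absIrred⟩

theorem span_of_absIrr [Finite F] {ι : Type} [Fintype ι] [DecidableEq ι] [Nonempty ι]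
    {P : Subgroup (GL ι F)} (h : ActsAbsolutelyIrreducibly (matrixSet P)) : spanAlg F P = ⊤ := by
  classical
  have := Fintype.ofFinite F
  let A := spanAlg F P
  have hI : Irr P := (irr_iff P).2 h.1
  have e : ∀ (a : A) (x : ι → F), a • x = a.1 *ᵥ x := fun _ _ => rfl
  haveI : IsSimpleModule A (ι → F) := isSimpleModule_iff_toSpanSingleton_surjective.mpr
    ⟨inferInstance, fun x hx y => by
      let l : Matrix ι ι F →ₗ[F] (ι → F) :=
        { toFun := fun X : Matrix ι ι F => X *ᵥ x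
          map_add' := fun X Y => Matrix.add_mulVec _ _ _
          map_smul' := fun c X => Matrix.smul_mulVec _ _ _ }
      let W : Submodule F (ι → F) := A.toSubmodule.map l
      obtain ⟨a, ha, h1⟩ := ((hI W (by
        rintro g hg _ ⟨a, ha, rfl⟩
        exact ⟨_, A.mul_mem (coe_mem_spanAlg hg) ha, (Matrix.mulVec_mulVec _ _ _).symm⟩)).resolve_left
          fun H => hx (H.le ⟨1, A.one_mem, Matrix.one_mulVec x⟩)).ge (Submodule.mem_top (x := y))
      exact ⟨⟨a, ha⟩, h1⟩⟩
  refine eq_top_iff.mpr fun θ _ => ?_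
  obtain ⟨a, ha⟩ := jacobson_density (R := A) (M := ι → F) ⟨(Matrix.toLin' θ).toAddHom, fun φ x => by
    let φ' : (ι → F) →ₗ[F] (ι → F) := ⟨φ.toAddHom, fun c w => by
      have := φ.map_smul (algebraMap F A c) w
      simpa [e, Algebra.algebraMap_eq_smul_one, Matrix.smul_mulVec] using this⟩
    obtain ⟨c, hc⟩ := h.2 (LinearMap.toMatrix' φ') (by
      rintro _ ⟨g, hg, rfl⟩
      refine Matrix.toLin'.injective (LinearMap.ext fun w => ?_)
      have : φ' (g.1 *ᵥ w) = g.1 *ᵥ φ' w := φ.map_smul ⟨_, coe_mem_spanAlg hg⟩ w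
      simpa [Matrix.toLin'_mul] using this)
    have hc' : ∀ w, φ' w = c • w := fun w => by
      have := congrArg (fun X => Matrix.toLin' X w) hc
      simpa using this
    exact (congrArg (Matrix.toLin' θ) (hc' x)).trans
      (((Matrix.toLin' θ).map_smul c x).trans (hc' _).symm)⟩ Finset.univ
  have : θ = a.1 := Matrix.toLin'.injective (LinearMap.ext fun x => ha x (Finset.mem_univ x))
  exact this ▸ a.2

theorem Core.span [Finite F] {P : Subgroup (GL (Fin 3) F)} (h : Core P) : spanAlg F P = ⊤ :=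
  span_of_absIrr h.absIrred

theorem Core.irr {P : Subgroup (GL (Fin 3) F)} (h : Core P) : Irr P := (irr_iff P).2 h.absIrred.1

end Cfsg.Agent.H18.Mi
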