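import Cfsg.Agent.H18.Transv

/-! Block monomial coordinates for stabilisers of decompositions. -/

set_option autoImplicit false

namespace Cfsg.Agent.H18

open Cfsg.Geo
open scoped MatrixGroups Matrix Kronecker

variable {ι : Type} [Fintype ι] [DecidableEq ι] {F : Type*} [Field F]

lemma exists_eP_of_basis {κ : Type} [Fintype κ] [DecidableEq κ] (b : Module.Basis κ F (ι → F)) :
    ∃ (e : ι ≃ κ) (P : GL ι F), ∀ c : κ → F, (P : Matrix ι ι F) *ᵥ (c ∘ e) = ∑ k, c k • b k := by
  have h : Fintype.card ι = Fintype.card κ := by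
    simpa using Module.finrank_eq_card_basis b
  let e := Fintype.equivOfCardEq h
  refine ⟨e, glOfLinearEquiv ((LinearEquiv.funCongrLeft F F e).symm.trans b.equivFun.symm),
    fun c => ?_⟩
  rw [glOfLinearEquiv_mulVec, LinearEquiv.trans_apply, ← b.equivFun_symm_apply]
  congr 1
  exact (LinearEquiv.funCongrLeft F F e).symm_apply_apply c

section block

variable {α τ : Type} [Fintype α] [DecidableEq α] [Fintype τ] [DecidableEq τ]

/-- block monomial matrices -/
def blockMon (ρ : Equiv.Perm τ) (a : τ → Matrix α α F) : Matrix (α × τ) (α × τ) F :=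
  ((1 : Matrix α α F) ⊗ₖ ρ.permMatrix F) * Matrix.blockDiagonal a

lemma blockMon_apply (ρ : Equiv.Perm τ) (a : τ → Matrix α α F) (p q : α × τ) :
    blockMon ρ a p q = if ρ p.2 = q.2 then a q.2 p.1 q.1 else 0 := by
  rw [blockMon, Matrix.mul_apply, Finset.sum_eq_single (p.1, ρ p.2)]
  · simp only [Matrix.kroneckerMap_apply, Matrix.one_apply_eq, PEquiv.toMatrix_apply,
      Equiv.toPEquiv_apply, Option.mem_def, if_true, mul_one, one_mul, Matrix.blockDiagonal_apply]
    split_ifs with h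
    · rw [h]
    · rfl
  · rintro ⟨x, i⟩ _ hne
    by_cases hx : p.1 = x
    · have : ρ p.2 ≠ i := fun h => hne (by rw [hx, h])
      simp [this]
    · simp [hx]
  · simp

lemma det_blockMon (ρ : Equiv.Perm τ) (a : τ → Matrix α α F) :
    (blockMon ρ a).det = ((Equiv.Perm.sign ρ : ℤ) : F) ^ Fintype.card α * ∏ j, (a j).det := by
  rw [blockMon, Matrix.det_mul, Matrix.det_kronecker, Matrix.det_blockDiagonal,
    Matrix.det_permutation]
  simp

lemma blockMon_form (σ : F →+* F) (ρ : Equiv.Perm τ) {a : τ → Matrix α α F} {G : Matrix α α F}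
    {c : F} (h : ∀ j, (a j)ᵀ * G * (a j).map σ = c • G) :
    (blockMon ρ a)ᵀ * (G ⊗ₖ (1 : Matrix τ τ F)) * (blockMon ρ a).map σ =
      c • (G ⊗ₖ (1 : Matrix τ τ F)) := by
  have h1 : (ρ.permMatrix F).map σ = ρ.permMatrix F := by
    ext i j; simp [PEquiv.toMatrix_apply, apply_ite σ]
  have h2 : ((1 : Matrix α α F) ⊗ₖ ρ.permMatrix F)ᵀ * (G ⊗ₖ (1 : Matrix τ τ F)) *
      ((1 : Matrix α α F) ⊗ₖ ρ.permMatrix F) = G ⊗ₖ (1 : Matrix τ τ F) := by
    rw [← Matrix.kroneckerMap_transpose, ← Matrix.mul_kronecker_mul, ← Matrix.mul_kronecker_mul,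
      Matrix.transpose_permMatrix, Matrix.mul_one, Matrix.mul_one, ← Matrix.permMatrix_mul]
    simp
  rw [blockMon, Matrix.transpose_mul, Matrix.map_mul, kron_map, h1,
    Matrix.map_one _ (map_zero σ) (map_one σ)]
  calc _ = (Matrix.blockDiagonal a)ᵀ * (((1 : Matrix α α F) ⊗ₖ ρ.permMatrix F)ᵀ *
        (G ⊗ₖ (1 : Matrix τ τ F)) * ((1 : Matrix α α F) ⊗ₖ ρ.permMatrix F)) *
        (Matrix.blockDiagonal a).map σ := by simp only [Matrix.mul_assoc]
    _ = _ := by
      rw [h2, Matrix.kronecker_one, Matrix.blockDiagonal_transpose,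
        Matrix.blockDiagonal_map _ _ (map_zero σ), ← Matrix.blockDiagonal_mul,
        ← Matrix.blockDiagonal_mul, ← Matrix.blockDiagonal_smul]
      congr 1
      funext j
      exact h j

lemma blockMon_mulVec (ρ : Equiv.Perm τ) (a : τ → Matrix α α F) (v : α × τ → F) (p : α × τ) :
    (blockMon ρ a *ᵥ v) p = ∑ y, a (ρ p.2) p.1 y * v (y, ρ p.2) := by
  simp only [Matrix.mulVec, dotProduct, blockMon_apply, Fintype.sum_prod_type, ite_mul, zero_mul,
    Finset.sum_ite_eq, Finset.mem_univ, if_true]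

end block

theorem exists_block {t m : ℕ} {D : Fin t → Submodule F (ι → F)} (hD : IsMDecomposition m D)
    {α : Type} [Fintype α] [DecidableEq α] (b : ∀ i, Module.Basis α F (D i)) :
    ∃ (e : ι ≃ α × Fin t) (P : GL ι F),
      (∀ c : α × Fin t → F, (P : Matrix ι ι F) *ᵥ (c ∘ e) = ∑ p, c p • (b p.2 p.1 : ι → F)) ∧
      (∀ i (c : α × Fin t → F), (P : Matrix ι ι F) *ᵥ (c ∘ e) ∈ D i ↔ ∀ p, p.2 ≠ i → c p = 0) ∧
      ∀ g ∈ decompositionStabilizer D, ∃ (ρ : Equiv.Perm (Fin t)) (a : Fin t → Matrix α α F),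
        (g : Matrix ι ι F) = trans e P (blockMon ρ a) := by
  have hI : DirectSum.IsInternal D :=
    DirectSum.isInternal_submodule_of_iSupIndep_of_iSup_eq_top hD.indep hD.iSup_eq_top
  let B := (hI.collectedBasis b).reindex
    ((Equiv.sigmaEquivProd (Fin t) α).trans (Equiv.prodComm _ _))
  have hB : ∀ p, B p = (b p.2 p.1 : ι → F) := fun p => by
    simp only [B, Module.Basis.reindex_apply, DirectSum.IsInternal.collectedBasis_coe]
    rfl
  obtain ⟨e, P, h1⟩ := exists_eP_of_basis B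
  have h2 : ∀ i (c : α × Fin t → F),
      (P : Matrix ι ι F) *ᵥ (c ∘ e) ∈ D i ↔ ∀ p, p.2 ≠ i → c p = 0 := by
    intro i c
    rw [h1]
    constructor
    · intro h p hp
      have h3 := hI.collectedBasis_repr_of_mem_ne b hp.symm h (a := p.1)
      have h4 : B.repr (∑ k, c k • B k) p = c p := congrFun (B.repr_sum_self c) p
      rw [← h4, ← h3, Module.Basis.repr_reindex_apply]
      rfl
    · intro h
      refine Submodule.sum_mem _ fun p _ => ?_
      by_cases hp : p.2 = i
      · rw [hB, ← hp]; exact Submodule.smul_mem _ _ (b p.2 p.1).2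
      · rw [h p hp, zero_smul]; exact zero_mem _
  refine ⟨e, P, fun c => by simp only [h1, hB], h2, fun g ⟨π, hπ⟩ => ?_⟩
  let s : Matrix (α × Fin t) (α × Fin t) F := (trans e P).symm g
  have hs : (g : Matrix ι ι F) = trans e P s := ((trans e P).apply_symm_apply _).symm
  refine ⟨π.symm, fun j => Matrix.of fun x y => s (x, π j) (y, j), ?_⟩
  rw [hs]; congr 1
  ext p q
  rw [blockMon_apply]
  split_ifs with h
  · rw [Matrix.of_apply, show π q.2 = p.2 by rw [← h]; simp]
  · have h3 : (P : Matrix ι ι F) *ᵥ ((Pi.single q 1 : α × Fin t → F) ∘ e) ∈ D q.2 :=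
      (h2 _ _).mpr fun r hr => Pi.single_eq_of_ne (fun h0 => hr (by rw [h0])) _
    have h4 : (g : Matrix ι ι F) *ᵥ ((P : Matrix ι ι F) *ᵥ
        ((Pi.single q 1 : α × Fin t → F) ∘ e)) ∈ D (π q.2) := by
      rw [← hπ q.2]; exact ⟨_, h3, rfl⟩
    rw [hs, trans_mulVec, h2] at h4
    simpa using h4 p fun h0 => h (by rw [h0]; simp)

/-- some basis of each member of a decomposition -/
noncomputable def decompBasis {t m : ℕ} {D : Fin t → Submodule F (ι → F)}
    (hD : IsMDecomposition m D) (i : Fin t) : Module.Basis (Fin m) F (D i) :=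
  Module.finBasisOfFinrankEq F _ (hD.finrank_eq i)

lemma mem_similarityGroup_of_gram {κ : Type} [Fintype κ] [DecidableEq κ] {σ : F →+* F}
    {G : Matrix κ κ F} {e : ι ≃ κ} {P g : GL ι F} {s : Matrix κ κ F}
    (h : (g : Matrix ι ι F) = trans e P s) {c : F} (hc : c ≠ 0)
    (hs : sᵀ * G * s.map σ = c • G) : g ∈ similarityGroup (trB (frm σ G) e P) := by
  have h1 : (unitsBack (trans e P) g : Matrix κ κ F) = s := by
    rw [unitsBack_coe, h, AlgEquiv.symm_apply_apply]
  rw [mem_similarityGroup_trans (s := unitsBack (trans e P) g) (by rw [h1, h]), trF_trB]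
  exact ⟨Units.mk0 c hc, fun u v => by rw [h1, frm_mulVec_mulVec, hs, frm_smul, Units.val_mk0]⟩

lemma det_trans {κ : Type} [Fintype κ] [DecidableEq κ] (e : ι ≃ κ) (P : GL ι F)
    (X : Matrix κ κ F) : (trans e P X).det = X.det := by
  rw [trans_apply, cj_apply, Matrix.det_units_conj, Matrix.det_submatrix_equiv_self]

lemma det_ne_zero_of_blockMon {α τ : Type} [Fintype α] [DecidableEq α] [Fintype τ] [DecidableEq τ]
    {e : ι ≃ α × τ} {P g : GL ι F} {ρ : Equiv.Perm τ} {a : τ → Matrix α α F}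
    (h : (g : Matrix ι ι F) = trans e P (blockMon ρ a)) (j : τ) : (a j).det ≠ 0 := by
  have := g.det_ne_zero
  rw [h, det_trans, det_blockMon] at this
  exact Finset.prod_ne_zero_iff.mp (right_ne_zero_of_mul this) j (Finset.mem_univ j)

lemma hform_kron_one {α τ : Type} [Fintype α] [DecidableEq α] [Fintype τ] [DecidableEq τ]
    {σ : F →+* F} {ε : F} {G : Matrix α α F} (h : HForm σ ε (frm σ G)) :
    HForm σ ε (frm σ (G ⊗ₖ (1 : Matrix τ τ F))) := by
  have h1 : HForm σ 1 (frm σ (1 : Matrix τ τ F)) :=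
    hform_frm h.invol (by simp) (by simp) (by simp)
  simpa [gram_frm] using h.kron h1

lemma transpose_J2 (a : Matrix (Fin 2) (Fin 2) F) :
    aᵀ * J2 F * a.map (RingHom.id F) = a.det • J2 F := by
  ext i j
  fin_cases i <;> fin_cases j <;>
    simp [J2, Matrix.mul_apply, Fin.sum_univ_two, Matrix.det_fin_two] <;> ring

end Cfsg.Agent.H18
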