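import Cfsg.Agent.H18.FinField

/-! Clifford-type analysis through idempotents and commutative normalised subalgebras. -/

set_option autoImplicit false

namespace Cfsg.Agent.H18

open Cfsg.Geo
open scoped MatrixGroups Matrix Kronecker

variable {ι : Type} [Fintype ι] [DecidableEq ι] {F : Type*} [Field F]

/-- the column space of a matrix -/
def rng (e : Matrix ι ι F) : Submodule F (ι → F) := LinearMap.range (Matrix.toLin' e)

lemma mem_rng {e : Matrix ι ι F} {v : ι → F} : v ∈ rng e ↔ ∃ w, e *ᵥ w = v := by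
  simp [rng]

lemma mulVec_mem_rng (e : Matrix ι ι F) (v : ι → F) : e *ᵥ v ∈ rng e := mem_rng.2 ⟨v, rfl⟩

lemma mem_rng_idem {e : Matrix ι ι F} (he : e * e = e) {v : ι → F} : v ∈ rng e ↔ e *ᵥ v = v := by
  rw [mem_rng]
  constructor
  · rintro ⟨w, rfl⟩; rw [Matrix.mulVec_mulVec, he]
  · intro h; exact ⟨v, h⟩

lemma rng_eq_bot {e : Matrix ι ι F} : rng e = ⊥ ↔ e = 0 := by
  rw [rng, LinearMap.range_eq_bot, LinearEquiv.map_eq_zero_iff]

lemma rng_mul_le (e f : Matrix ι ι F) : rng (e * f) ≤ rng e := by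
  intro v hv
  obtain ⟨w, rfl⟩ := mem_rng.1 hv
  rw [← Matrix.mulVec_mulVec]; exact mulVec_mem_rng _ _

lemma map_rng (h : GL ι F) (e : Matrix ι ι F) :
    (rng e).map (Matrix.toLin' (h : Matrix ι ι F)) = rng (cj h e) := by
  ext v
  simp only [Submodule.mem_map, mem_rng, Matrix.toLin'_apply]
  constructor
  · rintro ⟨_, ⟨w, rfl⟩, rfl⟩
    exact ⟨_, cj_mulVec h e w⟩
  · rintro ⟨w, rfl⟩
    refine ⟨_, ⟨((h⁻¹ : GL ι F) : Matrix ι ι F) *ᵥ w, rfl⟩, ?_⟩
    rw [← cj_mulVec, mulVec_inv_mulVec]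

lemma toLin'_injective (h : GL ι F) : Function.Injective (Matrix.toLin' (h : Matrix ι ι F)) := by
  rw [injective_iff_map_eq_zero]
  intro v hv
  exact (mulVec_eq_zero_iff h v).1 hv

lemma finrank_map_gl (h : GL ι F) (W : Submodule F (ι → F)) :
    Module.finrank F (W.map (Matrix.toLin' (h : Matrix ι ι F))) = Module.finrank F W :=
  (LinearEquiv.finrank_eq (Submodule.equivMapOfInjective _ (toLin'_injective h) W)).symm

lemma finrank_rng_cj (h : GL ι F) (e : Matrix ι ι F) :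
    Module.finrank F (rng (cj h e)) = Module.finrank F (rng e) := by
  rw [← map_rng, finrank_map_gl]

lemma eq_of_rng_eq {e f : Matrix ι ι F} (he : e * e = e) (hf : f * f = f) (hc : e * f = f * e)
    (h : rng e = rng f) : e = f := by
  have h1 : e * f = f := by
    rw [Matrix.ext_iff_mulVec]; intro v
    rw [← Matrix.mulVec_mulVec, ← mem_rng_idem he, h]; exact mulVec_mem_rng _ _
  have h2 : f * e = e := by
    rw [Matrix.ext_iff_mulVec]; intro v
    rw [← Matrix.mulVec_mulVec, ← mem_rng_idem hf, ← h]; exact mulVec_mem_rng _ _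
  rw [← h2, ← hc, h1]

lemma iSupIndep_rng {κ : Type*} (e : κ → Matrix ι ι F) (hi : ∀ i, e i * e i = e i)
    (ho : ∀ i j, i ≠ j → e i * e j = 0) : iSupIndep fun i => rng (e i) := by
  rw [iSupIndep_def]
  intro i
  rw [Submodule.disjoint_def]
  intro v hv hv'
  have : (⨆ (j) (_ : j ≠ i), rng (e j)) ≤ LinearMap.ker (Matrix.toLin' (e i)) := by
    refine iSup₂_le fun j hj w hw => ?_
    obtain ⟨u, rfl⟩ := mem_rng.1 hw
    simp [Matrix.mulVec_mulVec, ho i j (Ne.symm hj)]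
  have h2 := this hv'
  rw [LinearMap.mem_ker, Matrix.toLin'_apply, (mem_rng_idem (hi i)).1 hv] at h2
  exact h2

/-- A Boolean family of commuting idempotents normalised by an irreducible group gives a system of
imprimitivity. -/
theorem exists_decomposition_of_idempotents [Finite F] {H : Subgroup (GL ι F)} (hH : Irr H)
    (B : Set (Matrix ι ι F)) (hi : ∀ e ∈ B, e * e = e) (hc : ∀ e ∈ B, ∀ f ∈ B, e * f = f * e)
    (hm : ∀ e ∈ B, ∀ f ∈ B, e * f ∈ B) (hn : ∀ h ∈ H, ∀ e ∈ B, cj h e ∈ B)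
    {e₀ : Matrix ι ι F} (h0 : e₀ ∈ B) (h00 : e₀ ≠ 0) (h01 : e₀ ≠ 1) :
    ∃ (t m : ℕ) (e : Fin t → Matrix ι ι F), (∀ i, e i ∈ B) ∧ (∀ i j, i ≠ j → e i * e j = 0) ∧
      IsMDecomposition m (fun i => rng (e i)) ∧ H ≤ decompositionStabilizer (fun i => rng (e i)) ∧
      ∀ i j, ∃ h ∈ H, cj h (e i) = e j := by
  classical
  let rk : Matrix ι ι F → ℕ := fun e => Module.finrank F (rng e)
  obtain ⟨e₁, ⟨h1B, h10⟩, hmin⟩ := (InvImage.wf rk Nat.lt_wfRel.wf).has_min
    {e | e ∈ B ∧ e ≠ 0} ⟨e₀, h0, h00⟩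
  have hmin' : ∀ e ∈ B, rk e = rk e₁ → ∀ f ∈ B, e * f = 0 ∨ e * f = e := by
    intro e he hr f hf
    by_cases h : e * f = 0
    · exact Or.inl h
    right
    have h1 : ¬ rk (e * f) < rk e₁ := hmin _ ⟨hm e he f hf, h⟩
    have h2 : rng (e * f) = rng e :=
      Submodule.eq_of_le_of_finrank_le (rng_mul_le e f) (by rw [← hr] at h1; exact not_lt.1 h1)
    refine eq_of_rng_eq (hi _ (hm e he f hf)) (hi e he) (hc _ (hm e he f hf) _ he) h2
  let O : Set (Matrix ι ι F) := {e | ∃ h ∈ H, cj h e₁ = e}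
  have hOB : ∀ e ∈ O, e ∈ B := by rintro _ ⟨h, hh, rfl⟩; exact hn h hh _ h1B
  have hOr : ∀ e ∈ O, rk e = rk e₁ := by rintro _ ⟨h, hh, rfl⟩; exact finrank_rng_cj h e₁
  have hO1 : e₁ ∈ O := ⟨1, H.one_mem, cj_one _⟩
  have hOc : ∀ h ∈ H, ∀ e ∈ O, cj h e ∈ O := by
    rintro h hh _ ⟨k, hk, rfl⟩
    exact ⟨h * k, H.mul_mem hh hk, cj_mul _ _ _⟩
  let t := Nat.card O
  let ε : O ≃ Fin t := Finite.equivFin O
  let e : Fin t → Matrix ι ι F := fun i => (ε.symm i : Matrix ι ι F)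
  have heO : ∀ i, e i ∈ O := fun i => (ε.symm i).2
  have ho : ∀ i j, i ≠ j → e i * e j = 0 := by
    intro i j hij
    by_contra hne
    have h1 := (hmin' _ (hOB _ (heO i)) (hOr _ (heO i)) _ (hOB _ (heO j))).resolve_left hne
    have h2 := (hmin' _ (hOB _ (heO j)) (hOr _ (heO j)) _ (hOB _ (heO i))).resolve_left
      (by rwa [hc _ (hOB _ (heO j)) _ (hOB _ (heO i))])
    rw [hc _ (hOB _ (heO j)) _ (hOB _ (heO i)), h1] at h2
    exact hij (ε.symm.injective (Subtype.ext h2))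
  have hperm : ∀ h ∈ H, ∃ σ : Equiv.Perm (Fin t), ∀ i, cj h (e i) = e (σ i) := by
    intro h hh
    let τ : O ≃ O :=
      { toFun := fun x => ⟨cj h x, hOc h hh _ x.2⟩
        invFun := fun x => ⟨cj h⁻¹ x, hOc _ (H.inv_mem hh) _ x.2⟩
        left_inv := fun x => Subtype.ext (cj_inv_cj h x)
        right_inv := fun x => Subtype.ext (cj_cj_inv h x) }
    exact ⟨(ε.symm.trans τ).trans ε, fun i => by simp [e, τ]⟩
  have hstab : H ≤ decompositionStabilizer (fun i => rng (e i)) := by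
    intro h hh
    obtain ⟨σ, hσ⟩ := hperm h hh
    exact ⟨σ, fun i => by rw [map_rng, hσ]⟩
  have htop : (⨆ i, rng (e i)) = ⊤ := by
    refine (hH _ fun h hh v hv => ?_).resolve_left fun hb => ?_
    · obtain ⟨σ, hσ⟩ := hperm h hh
      have : (⨆ i, rng (e i)) ≤ (⨆ i, rng (e i)).comap (Matrix.toLin' (h : Matrix ι ι F)) := by
        refine iSup_le fun i => ?_
        rw [← Submodule.map_le_iff_le_comap, map_rng, hσ]
        exact le_iSup (fun i => rng (e i)) _
      exact this hv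
    · have := le_iSup (fun i => rng (e i)) (ε ⟨e₁, hO1⟩)
      rw [hb, le_bot_iff, rng_eq_bot] at this
      exact h10 (by simpa [e] using this)
  refine ⟨t, rk e₁, e, fun i => hOB _ (heO i), ho, ⟨?_, ?_, fun i => hOr _ (heO i),
    iSupIndep_rng e (fun i => hi _ (hOB _ (heO i))) ho, htop⟩, hstab, ?_⟩
  · by_contra hlt
    have hall : ∀ i, e i = e₁ := by
      intro i
      have : i = ε ⟨e₁, hO1⟩ := by
        apply Fin.ext
        have := i.2
        have := (ε ⟨e₁, hO1⟩).2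
        omega
      rw [this]; simp [e]
    have h1 : rng e₁ = ⊤ := by
      rw [eq_top_iff, ← htop]
      exact iSup_le fun i => by rw [hall]
    have h2 : e₁ = 1 := by
      rw [Matrix.ext_iff_mulVec]; intro v
      rw [Matrix.one_mulVec, ← mem_rng_idem (hi _ h1B), h1]; trivial
    rcases hmin' e₁ h1B rfl e₀ h0 with h | h
    · rw [h2, one_mul] at h; exact h00 h
    · rw [h2, one_mul] at h; exact h01 h
  · rw [Nat.pos_iff_ne_zero]
    intro h
    exact h10 (rng_eq_bot.1 (Submodule.finrank_eq_zero.1 h))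
  · intro i j
    obtain ⟨h, hh, h1⟩ := heO i
    obtain ⟨k, hk, h2⟩ := heO j
    exact ⟨k * h⁻¹, H.mul_mem hk (H.inv_mem hh), by rw [cj_mul, ← h1, cj_inv_cj, h2]⟩

lemma card_eq_of_isMDecomposition {t m : ℕ} {D : Fin t → Submodule F (ι → F)}
    (hD : IsMDecomposition m D) : Fintype.card ι = t * m := by
  have h := (DirectSum.isInternal_submodule_iff_iSupIndep_and_iSup_eq_top D).2
    ⟨hD.indep, hD.iSup_eq_top⟩
  have h2 := (LinearEquiv.ofBijective (DirectSum.coeLinearMap D) h).finrank_eq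
  rw [Module.finrank_directSum, Module.finrank_fintype_fun_eq_card] at h2
  simp only [hD.finrank_eq, Finset.sum_const, Finset.card_univ, Fintype.card_fin,
    smul_eq_mul] at h2
  exact h2.symm

/-- A commutative subalgebra normalised by an irreducible group and without non-trivial
idempotents is a field. -/
theorem exists_inv_of_no_idempotent [Finite F] [Nonempty ι] {H : Subgroup (GL ι F)} (hH : Irr H)
    (C : Subalgebra F (Matrix ι ι F)) (hc : ∀ x ∈ C, ∀ y ∈ C, x * y = y * x)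
    (hn : ∀ h ∈ H, ∀ x ∈ C, cj h x ∈ C) (hid : ∀ e ∈ C, e * e = e → e = 0 ∨ e = 1) :
    ∀ x ∈ C, x ≠ 0 → ∃ y ∈ C, x * y = 1 := by
  intro x hx hx0
  have : IsSemisimpleRing C :=
    IsArtinianRing.isSemisimpleRing_iff_jacobson.2 (jacobson_eq_bot_of_irr C hH hn)
  obtain ⟨e, he, hI⟩ := IsSemisimpleRing.ideal_eq_span_idempotent (Ideal.span {(⟨x, hx⟩ : C)})
  rcases hid e e.2 (congrArg Subtype.val he) with h | h
  · have h1 : (⟨x, hx⟩ : C) ∈ Ideal.span {e} := hI ▸ Ideal.subset_span rfl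
    obtain ⟨a, ha⟩ := Ideal.mem_span_singleton'.1 h1
    have := congrArg Subtype.val ha
    simp only [MulMemClass.coe_mul, h, mul_zero] at this
    exact absurd this.symm hx0
  · have h1 : e ∈ Ideal.span {(⟨x, hx⟩ : C)} := hI ▸ Ideal.subset_span rfl
    obtain ⟨a, ha⟩ := Ideal.mem_span_singleton'.1 h1
    have := congrArg Subtype.val ha
    simp only [MulMemClass.coe_mul, h] at this
    exact ⟨a, a.2, by rw [hc x hx a a.2, this]⟩

/-- the field structure on a field subalgebra -/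
lemma isField_of_inv [Nonempty ι] (C : Subalgebra F (Matrix ι ι F))
    (hc : ∀ x ∈ C, ∀ y ∈ C, x * y = y * x) (hi : ∀ x ∈ C, x ≠ 0 → ∃ y ∈ C, x * y = 1) :
    IsField C :=
  ⟨⟨0, 1, fun h => zero_ne_one (congrArg Subtype.val h)⟩,
    fun x y => Subtype.ext (hc x x.2 y y.2),
    fun {x} hx => by
      obtain ⟨y, hy, h⟩ := hi x x.2 fun h => hx (Subtype.ext h)
      exact ⟨⟨y, hy⟩, Subtype.ext h⟩⟩

/-- a subfield of given degree of a field subalgebra, described by a power equation -/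
theorem exists_subfield_of_dvd [Fintype F] [Nonempty ι] (C : Subalgebra F (Matrix ι ι F))
    (hc : ∀ x ∈ C, ∀ y ∈ C, x * y = y * x) (hi : ∀ x ∈ C, x ≠ 0 → ∃ y ∈ C, x * y = 1)
    {r : ℕ} (hr : r ∣ Module.finrank F C) :
    ∃ K : Subalgebra F (Matrix ι ι F), IsFieldSubalgebra r K ∧
      ∀ x, x ∈ K ↔ x ∈ C ∧ x ^ (Fintype.card F ^ r) = x := by
  let := (isField_of_inv C hc hi).toField
  obtain ⟨L, _, _, _, hL, hcard, ⟨ψ⟩⟩ := exists_algHom_card_pow (k := F) (E := C) hr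
  have hinj : Function.Injective (C.val.comp ψ) := (C.val.comp ψ).toRingHom.injective
  refine ⟨(C.val.comp ψ).range, ⟨?_, ?_, ?_⟩, fun x => ?_⟩
  · rintro _ ⟨x, rfl⟩ _ ⟨y, rfl⟩
    change (C.val.comp ψ) x * (C.val.comp ψ) y = (C.val.comp ψ) y * (C.val.comp ψ) x
    rw [← map_mul, ← map_mul, mul_comm]
  · rintro _ ⟨x, rfl⟩ hx
    have hx0 : x ≠ 0 := by rintro rfl; exact hx (map_zero _)
    refine ⟨_, ⟨x⁻¹, rfl⟩, ?_⟩
    change (C.val.comp ψ) x * (C.val.comp ψ) x⁻¹ = 1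
    rw [← map_mul, mul_inv_cancel₀ hx0, map_one]
  · rw [← hL]
    exact ((AlgEquiv.ofInjective _ hinj).toLinearEquiv.finrank_eq).symm
  · rw [← Nat.card_eq_fintype_card, ← hcard]
    constructor
    · rintro ⟨y, rfl⟩
      refine ⟨(ψ y).2, ?_⟩
      exact congrArg Subtype.val ((mem_range_iff_pow ψ.toRingHom (ψ y)).1 ⟨y, rfl⟩)
    · rintro ⟨hx, h⟩
      obtain ⟨y, hy⟩ := (mem_range_iff_pow ψ.toRingHom ⟨x, hx⟩).2 (Subtype.ext h)
      exact ⟨y, congrArg Subtype.val hy⟩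

lemma mem_subalgebraNormalizer {K : Subalgebra F (Matrix ι ι F)} {g : GL ι F} :
    g ∈ subalgebraNormalizer K ↔ ∀ k, k ∈ K ↔ cj g k ∈ K := Iff.rfl

lemma le_subalgebraNormalizer {K : Subalgebra F (Matrix ι ι F)} {H : Subgroup (GL ι F)}
    (h : ∀ g ∈ H, ∀ k ∈ K, cj g k ∈ K) : H ≤ subalgebraNormalizer K := by
  intro g hg
  rw [mem_subalgebraNormalizer]
  refine fun k => ⟨h g hg k, fun hk => ?_⟩
  have := h g⁻¹ (H.inv_mem hg) _ hk
  rwa [cj_inv_cj] at this

/-- a non-scalar normalised field subalgebra contains a normalised subfield of prime degree -/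
theorem exists_prime_subfield_normalized [Fintype F] [Nonempty ι] {H : Subgroup (GL ι F)}
    (C : Subalgebra F (Matrix ι ι F))
    (hc : ∀ x ∈ C, ∀ y ∈ C, x * y = y * x) (hi : ∀ x ∈ C, x ≠ 0 → ∃ y ∈ C, x * y = 1)
    (hn : ∀ h ∈ H, ∀ x ∈ C, cj h x ∈ C) (hne : C ≠ ⊥) :
    ∃ (r : ℕ) (K : Subalgebra F (Matrix ι ι F)), r.Prime ∧ IsFieldSubalgebra r K ∧
      (∀ x, x ∈ K ↔ x ∈ C ∧ x ^ (Fintype.card F ^ r) = x) ∧ H ≤ subalgebraNormalizer K := by
  have hd : Module.finrank F C ≠ 1 := fun h => hne (Subalgebra.eq_bot_of_finrank_one h)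
  obtain ⟨r, hr, hrd⟩ := Nat.exists_prime_and_dvd hd
  obtain ⟨K, hK, hK'⟩ := exists_subfield_of_dvd C hc hi hrd
  refine ⟨r, K, hr, hK, hK', le_subalgebraNormalizer fun g hg k hk => ?_⟩
  rw [hK'] at hk ⊢
  exact ⟨hn g hg k hk.1, by rw [← map_pow, hk.2]⟩

/-- the degree of a field subalgebra divides the dimension -/
lemma dvd_card_of_isFieldSubalgebra [Nonempty ι] {r : ℕ} {K : Subalgebra F (Matrix ι ι F)}
    (hK : IsFieldSubalgebra r K) : r ∣ Fintype.card ι := by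
  let := (isField_of_inv K hK.comm hK.inv).toField
  have : IsScalarTower F K (ι → F) := ⟨fun c k v => by
    change (c • (k : Matrix ι ι F)) *ᵥ v = c • ((k : Matrix ι ι F) *ᵥ v)
    exact Matrix.smul_mulVec _ _ _⟩
  have h := Module.finrank_mul_finrank F K (ι → F)
  rw [hK.finrank_eq, Module.finrank_fintype_fun_eq_card] at h
  exact ⟨_, h.symm⟩

end Cfsg.Agent.H18
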