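import Cfsg.Agent.H18.Form2

/-! Absolutely irreducible groups that are elementary abelian modulo scalars. -/

set_option autoImplicit false

namespace Cfsg.Agent.H18

open Cfsg.Geo
open scoped MatrixGroups Matrix Kronecker

variable {ι : Type} [Fintype ι] [DecidableEq ι] {F : Type*} [Field F]

/-- scalar matrices -/
def sc (ι : Type) [Fintype ι] [DecidableEq ι] {F : Type*} [Field F] : Fˣ →* GL ι F :=
  Units.map (Matrix.scalar ι : F →+* Matrix ι ι F).toMonoidHom

lemma sc_coe (c : Fˣ) : (sc ι c : Matrix ι ι F) = (c : F) • (1 : Matrix ι ι F) := by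
  simp [sc, Matrix.smul_one_eq_diagonal]

lemma mem_scalars_sc {g : GL ι F} : g ∈ scalars ι F ↔ ∃ c : Fˣ, sc ι c = g := Iff.rfl

lemma sc_mem (c : Fˣ) : sc ι c ∈ scalars ι F := ⟨c, rfl⟩

lemma sc_comm (c : Fˣ) (g : GL ι F) : sc ι c * g = g * sc ι c := scalars_comm (sc_mem c) g

lemma sc_commute (c : Fˣ) (g : GL ι F) : Commute (sc ι c) g := sc_comm c g

lemma sc_mul_coe (c : Fˣ) (g : GL ι F) :
    ((sc ι c * g : GL ι F) : Matrix ι ι F) = (c : F) • (g : Matrix ι ι F) := by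
  rw [Units.val_mul, sc_coe, Matrix.smul_mul, Matrix.one_mul]

lemma conj_sc (c : Fˣ) (g : GL ι F) : g * sc ι c * g⁻¹ = sc ι c := by
  rw [← sc_comm, mul_inv_cancel_right]

lemma conj_scalar {z : GL ι F} (hz : z ∈ scalars ι F) (g : GL ι F) : g * z * g⁻¹ = z := by
  rw [← scalars_comm hz, mul_inv_cancel_right]

lemma sc_injective [Nonempty ι] : Function.Injective (sc ι : Fˣ → GL ι F) := by
  rw [injective_iff_map_eq_one]
  intro c hc
  obtain ⟨i⟩ := ‹Nonempty ι›
  have := congrArg (fun g : GL ι F => (g : Matrix ι ι F) i i) hc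
  simp only [sc_coe] at this
  exact Units.ext (by simpa using this)

lemma mem_sup_scalars {R : Subgroup (GL ι F)} {g : GL ι F} :
    g ∈ R ⊔ scalars ι F ↔ ∃ x ∈ R, ∃ c : Fˣ, g = sc ι c * x := by
  rw [← SetLike.mem_coe, sup_comm, Subgroup.normal_mul]
  constructor
  · rintro ⟨_, ⟨c, rfl⟩, x, hx, rfl⟩; exact ⟨x, hx, c, rfl⟩
  · rintro ⟨x, hx, c, rfl⟩; exact ⟨_, sc_mem c, x, hx, rfl⟩

lemma sup_scalars_normal {H R : Subgroup (GL ι F)} (hn : ∀ h ∈ H, ∀ x ∈ R, h * x * h⁻¹ ∈ R) :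
    ∀ h ∈ H, ∀ x ∈ R ⊔ scalars ι F, h * x * h⁻¹ ∈ R ⊔ scalars ι F := by
  intro h hh x hx
  obtain ⟨y, hy, c, rfl⟩ := mem_sup_scalars.mp hx
  exact mem_sup_scalars.mpr ⟨_, hn h hh y hy, c, by
    rw [← mul_assoc, ← sc_comm]; simp only [mul_assoc]⟩

lemma normal_sup_scalars {H R : Subgroup (GL ι F)} (hn : ∀ h ∈ H, ∀ x ∈ R, h * x * h⁻¹ ∈ R) :
    ∀ h ∈ H ⊔ scalars ι F, ∀ x ∈ R, h * x * h⁻¹ ∈ R := by
  intro h hh x hx
  obtain ⟨y, hy, c, rfl⟩ := mem_sup_scalars.mp hh
  have : sc ι c * y * x * (sc ι c * y)⁻¹ = y * x * y⁻¹ := by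
    rw [sc_comm c y, mul_assoc y, sc_comm c x]; group
  rw [this]; exact hn y hy x hx

lemma spanAlg_sup_scalars (R : Subgroup (GL ι F)) : spanAlg F (R ⊔ scalars ι F) = spanAlg F R := by
  refine le_antisymm (spanAlg_le fun g hg => ?_) (spanAlg_mono le_sup_left)
  obtain ⟨x, hx, c, rfl⟩ := mem_sup_scalars.mp hg
  rw [sc_mul_coe]
  exact Subalgebra.smul_mem _ (coe_mem_spanAlg hx) _

lemma irr_sup_scalars {H : Subgroup (GL ι F)} : Irr (H ⊔ scalars ι F) ↔ Irr H := by
  refine ⟨fun h W hW => h W fun g hg v hv => ?_, fun h => h.mono le_sup_left⟩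
  obtain ⟨x, hx, c, rfl⟩ := mem_sup_scalars.mp hg
  rw [sc_mul_coe, Matrix.smul_mulVec]
  exact W.smul_mem _ (hW x hx v hv)

lemma matrix_not_comm (hn : 2 ≤ Fintype.card ι) :
    ¬ ∀ X Y : Matrix ι ι F, X * Y = Y * X := by
  intro h
  obtain ⟨i, j, hij⟩ := Fintype.exists_pair_of_one_lt_card (α := ι) hn
  have := congrFun (congrFun (h (Matrix.single i j 1) (Matrix.single j i 1)) i) i
  simp [hij.symm] at this

lemma exists_not_comm (hn : 2 ≤ Fintype.card ι) {N : Subgroup (GL ι F)} (hN : spanAlg F N = ⊤) :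
    ∃ x ∈ N, ∃ y ∈ N, x * y ≠ y * x := by
  by_contra! h
  apply matrix_not_comm (F := F) hn
  intro X Y
  refine commute_of_mem_spanAlg (R := F) (N := N) (fun x hx => ?_) (hN ▸ Algebra.mem_top)
  refine (commute_of_mem_spanAlg (R := F) (N := N) (fun y hy => ?_) (hN ▸ Algebra.mem_top)).symm
  rw [← Units.val_mul, h x hx y hy, Units.val_mul]

lemma mul_pow_of_comm {G : Type*} [Group G] {x y z : G} (hz : ∀ g, Commute z g)
    (h : y * x = z * (x * y)) (k : ℕ) : (x * y) ^ k = z ^ (k.choose 2) * (x ^ k * y ^ k) := by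
  have h1 : ∀ k : ℕ, y ^ k * x = z ^ k * (x * y ^ k) := by
    intro k
    induction k with
    | zero => simp
    | succ k ih =>
      rw [pow_succ', mul_assoc, ih, ← mul_assoc, ← ((hz y).pow_left k).eq, mul_assoc,
        ← mul_assoc y, h, pow_succ]
      simp only [mul_assoc]
  induction k with
  | zero => simp
  | succ k ih =>
    rw [pow_succ, ih, Nat.choose_succ_succ', Nat.choose_one_right, add_comm k, pow_add]
    simp only [mul_assoc]
    rw [← mul_assoc (y ^ k), h1, mul_assoc, ← mul_assoc (x ^ k), ← ((hz _).pow_left k).eq]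
    simp only [mul_assoc, pow_succ]

/-- `N` is a minimal `H`-normalised overgroup of the scalars, elementary abelian modulo scalars and
absolutely irreducible -/
structure ExtraN (H N : Subgroup (GL ι F)) (r : ℕ) : Prop where
  prime : r.Prime
  two_le : 2 ≤ Fintype.card ι
  sc_le : scalars ι F ≤ N
  le : N ≤ H
  normal : ∀ h ∈ H, ∀ x ∈ N, h * x * h⁻¹ ∈ N
  span : spanAlg F N = ⊤
  comm : ∀ x ∈ N, ∀ y ∈ N, x * y * x⁻¹ * y⁻¹ ∈ scalars ι F
  pow : ∀ x ∈ N, x ^ r ∈ scalars ι F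
  min : ∀ M, scalars ι F ≤ M → M ≤ N → (∀ h ∈ H, ∀ x ∈ M, h * x * h⁻¹ ∈ M) →
    M = scalars ι F ∨ M = N

/-- non-scalar elements of an absolutely irreducible group that is abelian modulo scalars have
trace zero -/
lemma trace_eq_zero_of_comm [Nonempty ι] {N : Subgroup (GL ι F)} (hN : spanAlg F N = ⊤)
    {x : GL ι F} (hc : ∀ y ∈ N, y * x * y⁻¹ * x⁻¹ ∈ scalars ι F) (hx : x ∉ scalars ι F) :
    (x : Matrix ι ι F).trace = 0 := by
  obtain ⟨y, hy, hxy⟩ : ∃ y ∈ N, x * y ≠ y * x := by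
    by_contra! h
    exact hx (mem_scalars_of_commute hN h)
  obtain ⟨c, hc⟩ := hc y hy
  change sc ι c = _ at hc
  have h1 : y * x * y⁻¹ = sc ι c * x := by rw [hc]; group
  have h2 := trace_cj y (x : Matrix ι ι F)
  rw [cj_coe, h1, sc_mul_coe, Matrix.trace_smul, smul_eq_mul] at h2
  by_contra h0
  have : c = 1 := Units.ext (mul_right_cancel₀ h0 (by rw [h2]; simp))
  rw [this, map_one, one_mul] at h1
  exact hxy (mul_inv_eq_iff_eq_mul.mp h1).symm

namespace ExtraN

variable {H N : Subgroup (GL ι F)} {r : ℕ}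

lemma nonempty (h : ExtraN H N r) : Nonempty ι :=
  Fintype.card_pos_iff.mp (by have := h.two_le; omega)

lemma exists_comm (h : ExtraN H N r) {x y : GL ι F} (hx : x ∈ N) (hy : y ∈ N) :
    ∃ c : Fˣ, c ^ r = 1 ∧ y * x = sc ι c * (x * y) := by
  have := h.nonempty
  obtain ⟨c, hc⟩ := h.comm y hy x hx
  change sc ι c = _ at hc
  have h1 : y * x * y⁻¹ = sc ι c * x := by rw [hc]; group
  refine ⟨c, sc_injective (ι := ι) ?_, by rw [hc]; group⟩
  have h2 : y * x ^ r * y⁻¹ = (sc ι c * x) ^ r := by rw [← h1, conj_pow]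
  rw [conj_scalar (h.pow x hx), (sc_commute c x).mul_pow, ← map_pow] at h2
  rw [map_one]
  exact (mul_eq_right.mp h2.symm)

lemma trace_eq_zero (h : ExtraN H N r) {x : GL ι F} (hx : x ∈ N) (hx' : x ∉ scalars ι F) :
    (x : Matrix ι ι F).trace = 0 :=
  have := h.nonempty
  trace_eq_zero_of_comm h.span (fun y hy => h.comm y hy x hx) hx'

lemma card_ne_zero (h : ExtraN H N r) : (Fintype.card ι : F) ≠ 0 := by
  have := h.nonempty
  obtain ⟨y, hy, h0⟩ := exists_trace_ne_zero h.span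
  by_cases hs : y ∈ scalars ι F
  · obtain ⟨c, rfl⟩ := mem_scalars_sc.mp hs
    rw [sc_coe, Matrix.trace_smul, Matrix.trace_one, smul_eq_mul] at h0
    exact right_ne_zero_of_mul h0
  · exact absurd (h.trace_eq_zero hy hs) h0

lemma exists_root (h : ExtraN H N r) : ∃ x ∈ N, ∃ y ∈ N, ∃ c : Fˣ, c ≠ 1 ∧ c ^ r = 1 ∧
    y * x = sc ι c * (x * y) := by
  obtain ⟨x, hx, y, hy, hxy⟩ := exists_not_comm h.two_le h.span
  obtain ⟨c, hc, h1⟩ := h.exists_comm hx hy
  refine ⟨x, hx, y, hy, c, fun h0 => hxy ?_, hc, h1⟩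
  rw [h1, h0, map_one, one_mul]

lemma dvd_card (h : ExtraN H N r) [Fintype F] : r ∣ Fintype.card F - 1 := by
  classical
  obtain ⟨-, -, -, -, c, hc, hr, -⟩ := h.exists_root
  have := Fact.mk h.prime
  rw [← orderOf_eq_prime hr hc, ← Fintype.card_units]
  exact orderOf_dvd_card

lemma mul_pow (h : ExtraN H N r) {x y : GL ι F} (hx : x ∈ N) (hy : y ∈ N) :
    (x * y) ^ (r * Nat.gcd 2 r) = x ^ (r * Nat.gcd 2 r) * y ^ (r * Nat.gcd 2 r) := by
  obtain ⟨c, hc, h1⟩ := h.exists_comm hx hy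
  rw [mul_pow_of_comm (sc_commute c) h1, ← map_pow]
  have : r ∣ (r * Nat.gcd 2 r).choose 2 := by
    rcases h.prime.eq_two_or_odd' with rfl | ⟨k, hk⟩
    · decide
    · have : Nat.gcd 2 r = 1 := by
        rw [hk]; simp
      rw [this, mul_one, Nat.choose_two_right, hk, Nat.add_sub_cancel, Nat.mul_div_assoc _ (by simp)]
      exact dvd_mul_right _ _
  obtain ⟨k, hk⟩ := this
  rw [hk, pow_mul, hc, one_pow, map_one, one_mul]

/-- the elements of `N` of order dividing `r * gcd 2 r` -/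
def core (h : ExtraN H N r) : Subgroup (GL ι F) where
  carrier := {x | x ∈ N ∧ x ^ (r * Nat.gcd 2 r) = 1}
  mul_mem' {a b} ha hb := ⟨N.mul_mem ha.1 hb.1, by rw [h.mul_pow ha.1 hb.1, ha.2, hb.2, mul_one]⟩
  one_mem' := ⟨N.one_mem, one_pow _⟩
  inv_mem' {a} ha := ⟨N.inv_mem ha.1, by rw [inv_pow, ha.2, inv_one]⟩

lemma mem_core (h : ExtraN H N r) {x : GL ι F} :
    x ∈ h.core ↔ x ∈ N ∧ x ^ (r * Nat.gcd 2 r) = 1 := Iff.rfl

lemma card_quot (h : ExtraN H N r) :
    Nat.card (N ⧸ (scalars ι F).subgroupOf N) = Fintype.card ι ^ 2 := by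
  classical
  set Q := N ⧸ (scalars ι F).subgroupOf N
  let b : Q → Matrix ι ι F := fun q => ((q.out : N) : GL ι F)
  have hli : LinearIndependent F b := by
    rw [linearIndependent_iff']
    intro s g hg q hq
    have h1 := congrArg
      (fun X => (((((q.out : N) : GL ι F)⁻¹ : GL ι F) : Matrix ι ι F) * X).trace) hg
    simp only [Matrix.mul_sum, Matrix.trace_sum, Matrix.mul_smul, Matrix.trace_smul, mul_zero,
      Matrix.trace_zero, smul_eq_mul] at h1
    rw [Finset.sum_eq_single q] at h1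
    · simp only [b] at h1
      rw [← Units.val_mul, inv_mul_cancel, Units.val_one, Matrix.trace_one] at h1
      exact (mul_eq_zero.mp h1).resolve_right h.card_ne_zero
    · intro q' _ hqq
      simp only [b]
      rw [← Units.val_mul, h.trace_eq_zero (N.mul_mem (N.inv_mem q.out.2) q'.out.2), mul_zero]
      intro hs
      apply hqq
      rw [← q.out_eq', ← q'.out_eq', eq_comm, QuotientGroup.eq]
      exact hs
    · exact fun h => absurd hq h
  have hsp : ⊤ ≤ Submodule.span F (Set.range b) := by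
    rintro X -
    refine spanAlg_induction (R := F) (N := N) (p := fun X => X ∈ Submodule.span F (Set.range b))
      ?_ (zero_mem _) (fun _ _ => add_mem) (fun c X => Submodule.smul_mem _ c)
      (h.span ▸ Algebra.mem_top)
    intro x hx
    obtain ⟨z, hz⟩ := QuotientGroup.mk_out_eq_mul ((scalars ι F).subgroupOf N) ⟨x, hx⟩
    obtain ⟨c, hc⟩ := mem_scalars_sc.mp (Subgroup.mem_subgroupOf.mp z.2)
    have : (x : Matrix ι ι F) = ((c⁻¹ : Fˣ) : F) • b (QuotientGroup.mk ⟨x, hx⟩) := by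
      simp only [b]
      rw [hz, Subgroup.coe_mul, ← hc, ← sc_comm, ← sc_mul_coe, ← mul_assoc, ← map_mul]
      simp
    rw [this]
    exact Submodule.smul_mem _ _ (Submodule.subset_span ⟨_, rfl⟩)
  have := (Module.Basis.mk hli hsp).mk_eq_rank''
  have h2 := congrArg Cardinal.toNat this
  change Nat.card Q = Module.finrank F _ at h2
  rw [h2, Module.finrank_matrix]; simp [sq]

end ExtraN

/-- a subgroup `R` of `N` of exponent `r * gcd 2 r` covering `N` modulo scalars -/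
structure ExtraR (H N R : Subgroup (GL ι F)) (r : ℕ) : Prop where
  le : R ≤ N
  le_sup : N ≤ R ⊔ scalars ι F
  normal : ∀ h ∈ H, ∀ x ∈ R, h * x * h⁻¹ ∈ R
  pow : ∀ x ∈ R, x ^ (r * Nat.gcd 2 r) = 1

namespace ExtraN

variable {H N R : Subgroup (GL ι F)} {r : ℕ}

lemma le_sup_of_not_le (h : ExtraN H N r) (h1 : R ≤ N) (h2 : ∀ h ∈ H, ∀ x ∈ R, h * x * h⁻¹ ∈ R)
    (h3 : ¬ R ≤ scalars ι F) : N ≤ R ⊔ scalars ι F := by
  rcases h.min (R ⊔ scalars ι F) le_sup_right (sup_le h1 h.sc_le) (sup_scalars_normal h2) with h4 | h4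
  · exact absurd (le_sup_left.trans h4.le) h3
  · exact h4.ge

lemma not_mem_scalars_of_ne {x y : GL ι F} (h : x * y ≠ y * x) : x ∉ scalars ι F := fun hx =>
  h (scalars_comm hx y)

theorem extraR_core (h : ExtraN H N r) [Finite F] : ExtraR H N h.core r := by
  have hnorm : ∀ g ∈ H, ∀ x ∈ h.core, g * x * g⁻¹ ∈ h.core := fun g hg x hx =>
    ⟨h.normal g hg x hx.1, by rw [conj_pow, hx.2]; simp⟩
  refine ⟨fun _ hx => hx.1, h.le_sup_of_not_le (fun _ hx => hx.1) hnorm ?_, hnorm, fun _ hx => hx.2⟩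
  -- a non-scalar element whose power is a power of a scalar
  suffices hs : ∃ w ∈ N, w ∉ scalars ι F ∧ ∃ d : Fˣ,
      w ^ (r * Nat.gcd 2 r) = sc ι d ^ (r * Nat.gcd 2 r) by
    obtain ⟨w, hw, hw', d, hd⟩ := hs
    intro hle
    have : (sc ι d)⁻¹ * w ∈ h.core := ⟨N.mul_mem (N.inv_mem (h.sc_le (sc_mem d))) hw, by
      rw [((sc_commute d w).inv_left).mul_pow, hd, inv_pow, inv_mul_cancel]⟩
    exact hw' (by simpa using (scalars ι F).mul_mem (sc_mem d) (hle this))
  obtain ⟨x, hx, y, hy, hxy⟩ := exists_not_comm h.two_le h.span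
  obtain ⟨a, ha⟩ := mem_scalars_sc.mp (h.pow x hx)
  obtain ⟨b, hb⟩ := mem_scalars_sc.mp (h.pow y hy)
  obtain ⟨g, hg⟩ := IsCyclic.exists_monoid_generator (α := Fˣ)
  obtain ⟨i, rfl⟩ := hg a
  obtain ⟨j, rfl⟩ := hg b
  simp only at ha hb
  by_cases hi : r ∣ i
  · obtain ⟨k, rfl⟩ := hi
    refine ⟨x, hx, not_mem_scalars_of_ne hxy, g ^ k, ?_⟩
    rw [pow_mul, ← ha]
    simp only [← map_pow, ← pow_mul]
    congr 2; ring
  · have hcop : Nat.Coprime i r := ((Nat.Prime.coprime_iff_not_dvd h.prime).mpr hi).symm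
    obtain ⟨k, hk⟩ : ∃ k : ℕ, r ∣ i * k + j := by
      obtain ⟨m, -, hm⟩ := Nat.exists_mul_mod_eq_one_of_coprime hcop h.prime.one_lt
      refine ⟨m * (r - 1) * j, ?_⟩
      have h1 : i * m = r * (i * m / r) + 1 := by rw [← hm]; exact (Nat.div_add_mod _ _).symm
      obtain ⟨s, hs⟩ : ∃ s, r = s + 1 := ⟨r - 1, by have := h.prime.pos; omega⟩
      refine ⟨(i * m / r) * (r - 1) * j + j, ?_⟩
      generalize i * m / r = t at h1
      rw [← mul_assoc, ← mul_assoc, h1]
      subst hs; simp only [Nat.add_sub_cancel]; ring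
    obtain ⟨l, hl⟩ := hk
    refine ⟨x ^ k * y, N.mul_mem (N.pow_mem hx k) hy, not_mem_scalars_of_ne (y := x) ?_, g ^ l, ?_⟩
    · intro h0
      apply hxy
      rw [mul_assoc, ← mul_assoc x, ← pow_succ', pow_succ, mul_assoc] at h0
      exact (mul_left_cancel h0).symm
    · rw [h.mul_pow (N.pow_mem hx k) hy, ← pow_mul, mul_comm k, mul_assoc, pow_mul x, pow_mul y,
        ← ha, ← hb]
      simp only [← map_pow, ← map_mul, ← pow_mul, ← pow_add]
      congr 2
      rw [← mul_assoc l, mul_comm l r, ← hl]; ring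

end ExtraN

namespace ExtraR

variable {H N R : Subgroup (GL ι F)} {r : ℕ}

lemma span (h : ExtraN H N r) (hR : ExtraR H N R r) : spanAlg F R = ⊤ := by
  rw [← spanAlg_sup_scalars, eq_top_iff, ← h.span]
  exact spanAlg_mono hR.le_sup

lemma center_eq (h : ExtraN H N r) (hR : ExtraR H N R r) :
    Subgroup.center R = (scalars ι F).subgroupOf R := by
  have := h.nonempty
  ext x
  rw [Subgroup.mem_center_iff, Subgroup.mem_subgroupOf]
  constructor
  · intro hx
    exact mem_scalars_of_commute (hR.span h) fun y hy => (congrArg Subtype.val (hx ⟨y, hy⟩)).symm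
  · intro hx y
    exact Subtype.ext (scalars_comm hx _).symm

lemma card_eq (h : ExtraN H N r) (hR : ExtraR H N R r) :
    Nat.card R = Nat.card (Subgroup.center R) * Fintype.card ι ^ 2 := by
  rw [hR.center_eq h, ← h.card_quot, mul_comm, ← Subgroup.index_eq_card]
  have h1 : N = R ⊔ scalars ι F := le_antisymm hR.le_sup (sup_le hR.le h.sc_le)
  have h2 : ((scalars ι F).subgroupOf N).index = ((scalars ι F).subgroupOf R).index := by
    rw [h1]; exact Subgroup.relIndex_sup_right R (scalars ι F)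
  rw [h2, Subgroup.index_mul_card]

lemma isPGroup (h : ExtraN H N r) (hR : ExtraR H N R r) : IsPGroup r R := by
  intro x
  rcases h.prime.eq_two_or_odd' with rfl | ⟨k, hk⟩
  · exact ⟨2, Subtype.ext (hR.pow x x.2)⟩
  · refine ⟨1, Subtype.ext ?_⟩
    have := hR.pow x x.2
    have h2 : Nat.gcd 2 r = 1 := by rw [hk]; simp
    rw [h2] at this
    simpa using this

lemma exists_not_comm (h : ExtraN H N r) (hR : ExtraR H N R r) :
    ∃ x ∈ R, ∃ y ∈ R, x * y ≠ y * x := H18.exists_not_comm h.two_le (hR.span h)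

lemma exponent (h : ExtraN H N r) (hR : ExtraR H N R r) :
    Monoid.exponent R = r * Nat.gcd 2 r := by
  have hd : Monoid.exponent R ∣ r * Nat.gcd 2 r :=
    Monoid.exponent_dvd_of_forall_pow_eq_one fun x => Subtype.ext (hR.pow x x.2)
  obtain ⟨x, hx, y, hy, hxy⟩ := hR.exists_not_comm h
  have h2 : ¬ Monoid.exponent R ∣ 2 := by
    intro h2
    have hsq : ∀ z ∈ R, z * z = 1 := fun z hz => by
      have := congrArg Subtype.val (Monoid.exponent_dvd_iff_forall_pow_eq_one.mp h2 ⟨z, hz⟩)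
      simpa [sq] using this
    apply hxy
    have h3 := hsq _ (R.mul_mem hx hy)
    calc x * y = x * (x * y * (x * y)) * y := by rw [h3, mul_one]
      _ = (x * x) * (y * x) * (y * y) := by simp only [mul_assoc]
      _ = y * x := by rw [hsq x hx, hsq y hy, one_mul, mul_one]
  rcases h.prime.eq_two_or_odd' with rfl | ⟨k, hk⟩
  · change _ ∣ 2 ^ 2 at hd
    obtain ⟨i, hi, he⟩ := (Nat.dvd_prime_pow Nat.prime_two).mp hd
    rw [he] at h2 ⊢
    interval_cases i
    · exact absurd (by decide) h2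
    · exact absurd (by decide) h2
    · rfl
  · have h3 : Nat.gcd 2 r = 1 := by rw [hk]; simp
    rw [h3, mul_one] at hd ⊢
    rcases (Nat.dvd_prime h.prime).mp hd with h4 | h4
    · rw [h4] at h2; exact absurd (one_dvd 2) h2
    · exact h4

lemma isCyclic_of_le [Finite F] [Nonempty ι] {A : Subgroup (GL ι F)} (hA : A ≤ scalars ι F) :
    IsCyclic A := by
  have : IsCyclic (scalars ι F) := isCyclic_of_surjective (sc ι (F := F)).rangeRestrict
    (MonoidHom.rangeRestrict_surjective _)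
  exact Subgroup.isCyclic_of_le hA

theorem symplecticType [Finite F] (h : ExtraN H N r) (hR : ExtraR H N R r) :
    IsSymplecticTypeGroup r R := by
  have := h.nonempty
  refine ⟨h.prime, hR.isPGroup h, fun A hA hc => ?_, hR.exponent h⟩
  have hle : A.map R.subtype ≤ scalars ι F := by
    by_contra hn
    have h1 := h.le_sup_of_not_le ((Subgroup.map_subtype_le A).trans hR.le) ?_ hn
    · obtain ⟨x, hx, y, hy, hxy⟩ := H18.exists_not_comm h.two_le h.span
      obtain ⟨_, ⟨x', hx', rfl⟩, c, rfl⟩ := mem_sup_scalars.mp (h1 hx)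
      obtain ⟨_, ⟨y', hy', rfl⟩, d, rfl⟩ := mem_sup_scalars.mp (h1 hy)
      have h2 : (x' : GL ι F) * y' = y' * x' :=
        congrArg (fun a : A => ((a : R) : GL ι F)) (hc.is_comm.comm ⟨x', hx'⟩ ⟨y', hy'⟩)
      exact hxy (Commute.mul_left (sc_commute _ _)
        (Commute.mul_right (sc_commute _ _).symm h2))
    · rintro g hg _ ⟨x, hx, rfl⟩
      have hgN : g ∈ Subgroup.normalizer (R : Set (GL ι F)) := by
        rw [Subgroup.mem_normalizer_iff]
        refine fun y => ⟨hR.normal g hg y, fun hy => ?_⟩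
        have := hR.normal g⁻¹ (H.inv_mem hg) _ hy
        simpa [mul_assoc] using this
      let φ : R ≃* R := R.normalizerMonoidHom ⟨g, hgN⟩
      have h3 : φ x ∈ A := by
        have := (Subgroup.characteristic_iff_le_comap.mp hA) φ hx
        exact this
      exact ⟨φ x, h3, rfl⟩
  have := isCyclic_of_le hle
  exact isCyclic_of_surjective (A.equivMapOfInjective R.subtype R.subtype_injective).symm
    (MulEquiv.surjective _)

lemma exists_card_eq_pow [Finite F] (h : ExtraN H N r) (hR : ExtraR H N R r) :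
    ∃ m, 1 ≤ m ∧ Fintype.card ι = r ^ m := by
  have := Fact.mk h.prime
  obtain ⟨k, hk⟩ := IsPGroup.iff_card.mp (hR.isPGroup h)
  have h1 : Fintype.card ι ∣ r ^ k := by
    rw [← hk, hR.card_eq h]; exact Dvd.dvd.mul_left (dvd_pow_self _ two_ne_zero) _
  obtain ⟨m, -, hm⟩ := (Nat.dvd_prime_pow h.prime).mp h1
  refine ⟨m, ?_, hm⟩
  rcases m with _ | m
  · have := h.two_le; rw [pow_zero] at hm; omega
  · omega

lemma card_center (h : ExtraN H N r) (hR : ExtraR H N R r) :
    Nat.card (Subgroup.center R) = Nat.card (R.comap (sc ι (F := F))) := by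
  have := h.nonempty
  rw [hR.center_eq h]
  refine (Nat.card_congr (Equiv.ofBijective
    (fun c : R.comap (sc ι (F := F)) => (⟨⟨sc ι c, c.2⟩, sc_mem c.1⟩ : (scalars ι F).subgroupOf R))
    ⟨fun c d hcd => Subtype.ext (sc_injective (ι := ι) (congrArg (fun x => (x.1.1 : GL ι F)) hcd)),
      fun x => ?_⟩)).symm
  obtain ⟨c, hc⟩ := mem_scalars_sc.mp (Subgroup.mem_subgroupOf.mp x.2)
  exact ⟨⟨c, by rw [Subgroup.mem_comap, hc]; exact x.1.2⟩, Subtype.ext (Subtype.ext hc)⟩

lemma trace_cases (h : ExtraN H N r) (hR : ExtraR H N R r) {x : GL ι F} (hx : x ∈ R) :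
    ((x : Matrix ι ι F).trace = 0 ∧ ((x⁻¹ : GL ι F) : Matrix ι ι F).trace = 0) ∨
    ∃ c : Fˣ, c ^ Nat.card (Subgroup.center R) = 1 ∧ x = sc ι c := by
  by_cases hs : x ∈ scalars ι F
  · obtain ⟨c, rfl⟩ := mem_scalars_sc.mp hs
    refine Or.inr ⟨c, ?_, rfl⟩
    rw [hR.card_center h]
    exact congrArg Subtype.val (pow_card_eq_one' (x := (⟨c, hx⟩ : R.comap (sc ι (F := F)))))
  · exact Or.inl ⟨h.trace_eq_zero (hR.le hx) hs, h.trace_eq_zero (N.inv_mem (hR.le hx))
      (fun h0 => hs (by simpa using (scalars ι F).inv_mem h0))⟩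

lemma card_center_dvd [Fintype F] (h : ExtraN H N r) (hR : ExtraR H N R r) :
    Nat.card (Subgroup.center R) ∣ Fintype.card F - 1 := by
  classical
  rw [hR.card_center h, ← Fintype.card_units, ← Nat.card_eq_fintype_card]
  exact Subgroup.card_subgroup_dvd_card _

/-- invariant forms from the action of `σ` on the centre -/
theorem exists_hform (h : ExtraN H N r) (hR : ExtraR H N R r) {σ : F →+* F}
    (hσ : ∀ x, σ (σ x) = x)
    (hc : ∀ c : Fˣ, c ^ Nat.card (Subgroup.center R) = 1 → σ c = ((c⁻¹ : Fˣ) : F)) :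
    ∃ (ε : F) (f : (ι → F) → (ι → F) → F), HForm σ ε f ∧ H ≤ similarityGroup f := by
  have := h.nonempty
  obtain ⟨ε, f, hf, hfix⟩ := exists_hform_of_trace hσ (hR.span h) (fun x hx => by
    rcases hR.trace_cases h hx with ⟨h1, h2⟩ | ⟨c, h1, rfl⟩
    · rw [h1, h2, map_zero]
    · rw [← map_inv, sc_coe, sc_coe]
      simp only [Matrix.trace_smul, Matrix.trace_one, smul_eq_mul, map_mul, map_natCast, hc c h1])
  exact ⟨ε, f, hf, fun g hg =>
    hf.mem_similarityGroup_of_normalizes (hR.span h) hfix (hR.normal g hg)⟩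

lemma realisable [Finite F] (h : ExtraN H N r) (hR : ExtraR H N R r) (F₀ : Subfield F)
    (hc : ∀ c : Fˣ, c ^ Nat.card (Subgroup.center R) = 1 → (c : F) ∈ F₀) :
    RealisableOver F₀ (matrixSet R) := by
  have := h.nonempty
  refine realisableOver_of_trace (hR.span h) F₀ fun x hx => ?_
  rcases hR.trace_cases h hx with ⟨h1, -⟩ | ⟨c, h1, rfl⟩
  · rw [h1]; exact zero_mem _
  · rw [sc_coe, Matrix.trace_smul, Matrix.trace_one, smul_eq_mul]
    exact mul_mem (hc c h1) (natCast_mem _ _)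

end ExtraR

lemma ExtraN.card_center_core [Fintype F] {H N : Subgroup (GL ι F)} {r : ℕ} (h : ExtraN H N r) :
    Nat.card (Subgroup.center h.core) = Nat.gcd (Fintype.card F - 1) (r * Nat.gcd 2 r) := by
  classical
  have := h.nonempty
  rw [h.extraR_core.card_center h, ← Fintype.card_units, ← Nat.card_eq_fintype_card,
    ← IsCyclic.card_powMonoidHom_ker]
  congr 2
  ext c
  rw [Subgroup.mem_comap, h.mem_core, MonoidHom.mem_ker, powMonoidHom_apply, ← map_pow]
  constructor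
  · exact fun hc => sc_injective (ι := ι) (by rw [hc.2, map_one])
  · exact fun hc => ⟨h.sc_le (sc_mem c), by rw [hc, map_one]⟩

end Cfsg.Agent.H18
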