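import Cfsg.Agent.H18.Decomp
import Cfsg.Agent.H18.FinField
import Cfsg.Agent.H13.Forms

/-! Sesquilinear forms given as functions, adjoints of matrices, uniqueness of invariant forms. -/

set_option autoImplicit false

namespace Cfsg.Agent.H18

open Cfsg.Geo
open scoped MatrixGroups Matrix Kronecker

variable {ι : Type} [Fintype ι] [DecidableEq ι] {F : Type*} [Field F]

/-- `f` is linear in the first and `σ`-semilinear in the second argument. -/
structure Sesq (σ : F →+* F) (f : (ι → F) → (ι → F) → F) : Prop where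
  add_left : ∀ x y v, f (x + y) v = f x v + f y v
  smul_left : ∀ (c : F) x v, f (c • x) v = c * f x v
  add_right : ∀ v x y, f v (x + y) = f v x + f v y
  smul_right : ∀ (c : F) v x, f v (c • x) = σ c * f v x

/-- the form with Gram matrix `G` -/
def frm (σ : F →+* F) (G : Matrix ι ι F) (u v : ι → F) : F := u ⬝ᵥ (G *ᵥ (σ ∘ v))

omit [DecidableEq ι] in
lemma comp_add' (σ : F →+* F) (x y : ι → F) : σ ∘ (x + y) = σ ∘ x + σ ∘ y := by
  ext i; simp

omit [DecidableEq ι] in
lemma comp_smul' (σ : F →+* F) (c : F) (x : ι → F) : σ ∘ (c • x) = σ c • (σ ∘ x) := by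
  ext i; simp

omit [DecidableEq ι] in
lemma comp_mulVec (σ : F →+* F) (X : Matrix ι ι F) (v : ι → F) :
    σ ∘ (X *ᵥ v) = X.map σ *ᵥ (σ ∘ v) := by
  ext i; simp [Matrix.mulVec, dotProduct]

omit [DecidableEq ι] in
lemma sesq_frm (σ : F →+* F) (G : Matrix ι ι F) : Sesq σ (frm σ G) where
  add_left x y v := by simp [frm]
  smul_left c x v := by simp [frm]
  add_right v x y := by simp [frm, comp_add', Matrix.mulVec_add]
  smul_right c v x := by simp [frm, comp_smul', Matrix.mulVec_smul]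

omit [DecidableEq ι] in
lemma frm_eq_sum (σ : F →+* F) (G : Matrix ι ι F) (u v : ι → F) :
    frm σ G u v = ∑ a, ∑ b, u a * G a b * σ (v b) := by
  simp [frm, dotProduct, Matrix.mulVec, Finset.mul_sum, mul_assoc]

omit [DecidableEq ι] in
lemma formOfGram_eq (σ : F →+* F) (G : Matrix ι ι F) : formOfGram σ G = frm σ G := by
  funext u v; rw [frm_eq_sum]; rfl

lemma gram_frm (σ : F →+* F) (G : Matrix ι ι F) : gramMatrix (frm σ G) = G := by
  ext a b
  simp [gramMatrix, frm_eq_sum, Pi.single_apply, apply_ite σ]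

omit [DecidableEq ι] in
lemma frm_mulVec_mulVec (σ : F →+* F) (G X Y : Matrix ι ι F) (u v : ι → F) :
    frm σ G (X *ᵥ u) (Y *ᵥ v) = frm σ (Xᵀ * G * Y.map σ) u v := by
  simp only [frm, comp_mulVec, Matrix.mulVec_mulVec]
  rw [Matrix.dotProduct_mulVec, Matrix.dotProduct_mulVec, ← Matrix.vecMul_transpose X,
    Matrix.vecMul_vecMul, Matrix.mul_assoc]

omit [DecidableEq ι] in
lemma frm_smul (σ : F →+* F) (c : F) (G : Matrix ι ι F) (u v : ι → F) :
    frm σ (c • G) u v = c * frm σ G u v := by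
  simp [frm, Matrix.smul_mulVec]

lemma frm_inj {σ : F →+* F} {G G' : Matrix ι ι F} (h : ∀ u v, frm σ G u v = frm σ G' u v) :
    G = G' := by
  rw [← gram_frm σ G, ← gram_frm σ G']
  ext a b; exact h _ _

omit [DecidableEq ι] in
lemma frm_swap {σ : F →+* F} (hσ : ∀ x, σ (σ x) = x) (G : Matrix ι ι F) (u v : ι → F) :
    σ (frm σ G v u) = frm σ (G.map σ)ᵀ u v := by
  rw [frm_eq_sum, frm_eq_sum, Finset.sum_comm]
  simp only [map_sum, map_mul, hσ, Matrix.transpose_apply, Matrix.map_apply]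
  refine Finset.sum_congr rfl fun a _ => Finset.sum_congr rfl fun b _ => by ring

namespace Sesq

variable {σ : F →+* F} {f : (ι → F) → (ι → F) → F}

omit [Fintype ι] [DecidableEq ι] in
lemma zero_left (hf : Sesq σ f) (v : ι → F) : f 0 v = 0 := by
  simpa using hf.smul_left 0 0 v

omit [Fintype ι] [DecidableEq ι] in
lemma zero_right (hf : Sesq σ f) (v : ι → F) : f v 0 = 0 := by
  simpa using hf.smul_right 0 v 0

omit [Fintype ι] [DecidableEq ι] in
lemma neg_left (hf : Sesq σ f) (u v : ι → F) : f (-u) v = - f u v := by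
  simpa using hf.smul_left (-1) u v

omit [Fintype ι] [DecidableEq ι] in
lemma neg_right (hf : Sesq σ f) (u v : ι → F) : f u (-v) = - f u v := by
  simpa using hf.smul_right (-1) u v

omit [Fintype ι] [DecidableEq ι] in
lemma sub_left (hf : Sesq σ f) (x y v : ι → F) : f (x - y) v = f x v - f y v := by
  rw [sub_eq_add_neg, hf.add_left, hf.neg_left, sub_eq_add_neg]

omit [Fintype ι] [DecidableEq ι] in
lemma sub_right (hf : Sesq σ f) (v x y : ι → F) : f v (x - y) = f v x - f v y := by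
  rw [sub_eq_add_neg, hf.add_right, hf.neg_right, sub_eq_add_neg]

omit [Fintype ι] [DecidableEq ι] in
lemma sum_left (hf : Sesq σ f) {κ : Type*} (s : Finset κ) (x : κ → ι → F) (v : ι → F) :
    f (∑ k ∈ s, x k) v = ∑ k ∈ s, f (x k) v := by
  classical
  induction s using Finset.induction_on with
  | empty => simp [hf.zero_left]
  | insert a s ha ih => rw [Finset.sum_insert ha, Finset.sum_insert ha, hf.add_left, ih]

omit [Fintype ι] [DecidableEq ι] in
lemma sum_right (hf : Sesq σ f) {κ : Type*} (s : Finset κ) (v : ι → F) (x : κ → ι → F) :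
    f v (∑ k ∈ s, x k) = ∑ k ∈ s, f v (x k) := by
  classical
  induction s using Finset.induction_on with
  | empty => simp [hf.zero_right]
  | insert a s ha ih => rw [Finset.sum_insert ha, Finset.sum_insert ha, hf.add_right, ih]

lemma eq_frm (hf : Sesq σ f) : f = frm σ (gramMatrix f) := by
  funext u v
  rw [frm_eq_sum]
  conv_lhs => rw [← Finset.univ_sum_single u, ← Finset.univ_sum_single v]
  rw [hf.sum_left]
  refine Finset.sum_congr rfl fun a _ => ?_
  rw [hf.sum_right]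
  refine Finset.sum_congr rfl fun b _ => ?_
  have h1 : (Pi.single a (u a) : ι → F) = u a • Pi.single a 1 := by
    rw [← Pi.single_smul]; simp
  have h2 : (Pi.single b (v b) : ι → F) = v b • Pi.single b 1 := by
    rw [← Pi.single_smul]; simp
  rw [h1, h2, hf.smul_left, hf.smul_right, gramMatrix]; ring

omit [DecidableEq ι] in
lemma comp_mulVec (hf : Sesq σ f) (X Y : Matrix ι ι F) :
    Sesq σ (fun u v => f (X *ᵥ u) (Y *ᵥ v)) where
  add_left x y v := by simp [Matrix.mulVec_add, hf.add_left]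
  smul_left c x v := by simp [Matrix.mulVec_smul, hf.smul_left]
  add_right v x y := by simp [Matrix.mulVec_add, hf.add_right]
  smul_right c v x := by simp [Matrix.mulVec_smul, hf.smul_right]

end Sesq

/-- a non-degenerate `ε`-hermitian form -/
structure HForm (σ : F →+* F) (ε : F) (f : (ι → F) → (ι → F) → F) : Prop extends Sesq σ f where
  invol : ∀ x, σ (σ x) = x
  eps : ε * σ ε = 1
  herm : ∀ u v, f u v = ε * σ (f v u)
  nondeg : ∀ v, (∀ x, f x v = 0) → v = 0

/-- the adjoint of a matrix -/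
noncomputable def adj (σ : F →+* F) (f : (ι → F) → (ι → F) → F) (X : Matrix ι ι F) :
    Matrix ι ι F := ((gramMatrix f)⁻¹ * Xᵀ * gramMatrix f).map σ

lemma isUnit_det_of_nondeg {σ : F →+* F} (hσ : ∀ x, σ (σ x) = x) {G : Matrix ι ι F}
    (h : ∀ v, (∀ x, frm σ G x v = 0) → v = 0) : IsUnit G.det := by
  rw [isUnit_iff_ne_zero]
  intro h0
  obtain ⟨v, hv, hG⟩ := Matrix.exists_mulVec_eq_zero_iff.mpr h0
  apply hv
  have := h (σ ∘ v) (fun x => by
    have : σ ∘ (σ ∘ v) = v := by ext i; simp [hσ]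
    simp [frm, this, hG])
  ext i
  have h2 := congrFun this i
  simpa using h2

lemma nondeg_frm {σ : F →+* F} {G : Matrix ι ι F} (hG : IsUnit G.det) (v : ι → F)
    (h : ∀ x, frm σ G x v = 0) : v = 0 := by
  have h1 : G *ᵥ (σ ∘ v) = 0 := by
    ext i
    simpa [frm] using h (Pi.single i 1)
  have h2 := Matrix.eq_zero_of_mulVec_eq_zero hG.ne_zero h1
  ext i
  simpa using congrFun h2 i

lemma hform_frm {σ : F →+* F} (hσ : ∀ x, σ (σ x) = x) {ε : F} (hε : ε * σ ε = 1)
    {G : Matrix ι ι F} (hG : IsUnit G.det) (hh : G = ε • (G.map σ)ᵀ) : HForm σ ε (frm σ G) where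
  toSesq := sesq_frm σ G
  invol := hσ
  eps := hε
  herm u v := by rw [frm_swap hσ, ← frm_smul, ← hh]
  nondeg := nondeg_frm hG

namespace HForm

variable {σ : F →+* F} {ε : F} {f : (ι → F) → (ι → F) → F}

omit [Fintype ι] [DecidableEq ι] in
lemma eps_ne (hf : HForm σ ε f) : ε ≠ 0 := fun h => by simpa [h] using hf.eps

omit [Fintype ι] [DecidableEq ι] in
lemma eq_zero_comm (hf : HForm σ ε f) {u v : ι → F} (h : f u v = 0) : f v u = 0 := by
  rw [hf.herm, h]; simp

omit [Fintype ι] [DecidableEq ι] in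
lemma nondeg' (hf : HForm σ ε f) (v : ι → F) (h : ∀ x, f v x = 0) : v = 0 :=
  hf.nondeg v fun x => hf.eq_zero_comm (h x)

omit [Fintype ι] [DecidableEq ι] in
lemma isNondegenerateForm (hf : HForm σ ε f) : IsNondegenerateForm f := fun v hv =>
  ⟨by by_contra! h; exact hv (hf.nondeg v h), by by_contra! h; exact hv (hf.nondeg' v h)⟩

omit [Fintype ι] [DecidableEq ι] in
lemma eq_of_right (hf : HForm σ ε f) {v w : ι → F} (h : ∀ x, f x v = f x w) : v = w :=
  sub_eq_zero.mp (hf.nondeg _ fun x => by rw [hf.sub_right, h, sub_self])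

omit [Fintype ι] [DecidableEq ι] in
lemma eq_of_left (hf : HForm σ ε f) {v w : ι → F} (h : ∀ x, f v x = f w x) : v = w :=
  sub_eq_zero.mp (hf.nondeg' _ fun x => by rw [hf.sub_left, h, sub_self])

lemma isUnit_det (hf : HForm σ ε f) : IsUnit (gramMatrix f).det :=
  isUnit_det_of_nondeg hf.invol (by rw [← hf.eq_frm]; exact hf.nondeg)

lemma gram_herm (hf : HForm σ ε f) : gramMatrix f = ε • ((gramMatrix f).map σ)ᵀ := by
  ext a b
  simp only [gramMatrix, Matrix.smul_apply, Matrix.transpose_apply, Matrix.map_apply, smul_eq_mul]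
  exact hf.herm _ _

lemma mat_eq_of_right (hf : HForm σ ε f) {X Y : Matrix ι ι F}
    (h : ∀ u v, f u (X *ᵥ v) = f u (Y *ᵥ v)) : X = Y := by
  apply Matrix.toLin'.injective
  refine LinearMap.ext fun v => ?_
  simpa using hf.eq_of_right fun x => h x v

lemma mat_eq_of_left (hf : HForm σ ε f) {X Y : Matrix ι ι F}
    (h : ∀ u v, f (X *ᵥ u) v = f (Y *ᵥ u) v) : X = Y := by
  apply Matrix.toLin'.injective
  refine LinearMap.ext fun v => ?_
  simpa using hf.eq_of_left fun x => h v x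

lemma adj_spec (hf : HForm σ ε f) (X : Matrix ι ι F) (u v : ι → F) :
    f (X *ᵥ u) v = f u (adj σ f X *ᵥ v) := by
  have h1 := frm_mulVec_mulVec σ (gramMatrix f) X 1 u v
  have h2 := frm_mulVec_mulVec σ (gramMatrix f) 1 (adj σ f X) u v
  rw [← hf.eq_frm, Matrix.one_mulVec] at h1 h2
  rw [h1, h2]
  congr 1
  have : (adj σ f X).map σ = (gramMatrix f)⁻¹ * Xᵀ * gramMatrix f := by
    ext i j; rw [adj, Matrix.map_apply, Matrix.map_apply, hf.invol]
  rw [this, Matrix.map_one _ (map_zero σ) (map_one σ), Matrix.transpose_one, Matrix.one_mul,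
    Matrix.mul_one, ← Matrix.mul_assoc, ← Matrix.mul_assoc,
    Matrix.mul_nonsing_inv _ hf.isUnit_det, Matrix.one_mul]

lemma adj_spec' (hf : HForm σ ε f) (X : Matrix ι ι F) (u v : ι → F) :
    f u (X *ᵥ v) = f (adj σ f X *ᵥ u) v := by
  rw [hf.herm u, hf.adj_spec, ← hf.herm]

lemma adj_eq (hf : HForm σ ε f) {X Y : Matrix ι ι F}
    (h : ∀ u v, f (X *ᵥ u) v = f u (Y *ᵥ v)) : adj σ f X = Y :=
  hf.mat_eq_of_right fun u v => by rw [← hf.adj_spec, h]

lemma adj_adj (hf : HForm σ ε f) (X : Matrix ι ι F) : adj σ f (adj σ f X) = X :=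
  hf.adj_eq fun u v => (hf.adj_spec' X u v).symm

lemma adj_mul (hf : HForm σ ε f) (X Y : Matrix ι ι F) :
    adj σ f (X * Y) = adj σ f Y * adj σ f X :=
  hf.adj_eq fun u v => by
    rw [← Matrix.mulVec_mulVec, ← Matrix.mulVec_mulVec, hf.adj_spec, hf.adj_spec]

lemma adj_add (hf : HForm σ ε f) (X Y : Matrix ι ι F) :
    adj σ f (X + Y) = adj σ f X + adj σ f Y :=
  hf.adj_eq fun u v => by
    rw [Matrix.add_mulVec, Matrix.add_mulVec, hf.add_left, hf.add_right, hf.adj_spec, hf.adj_spec]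

lemma adj_smul (hf : HForm σ ε f) (c : F) (X : Matrix ι ι F) :
    adj σ f (c • X) = σ c • adj σ f X :=
  hf.adj_eq fun u v => by
    rw [Matrix.smul_mulVec, Matrix.smul_mulVec, hf.smul_left, hf.smul_right, hf.invol, hf.adj_spec]

lemma adj_one (hf : HForm σ ε f) : adj σ f (1 : Matrix ι ι F) = 1 :=
  hf.adj_eq fun u v => by simp

lemma adj_zero (hf : HForm σ ε f) : adj σ f (0 : Matrix ι ι F) = 0 :=
  hf.adj_eq fun u v => by simp [hf.zero_left, hf.zero_right]

lemma adj_neg (hf : HForm σ ε f) (X : Matrix ι ι F) : adj σ f (-X) = - adj σ f X := by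
  simpa using hf.adj_smul (-1) X

lemma adj_sub (hf : HForm σ ε f) (X Y : Matrix ι ι F) :
    adj σ f (X - Y) = adj σ f X - adj σ f Y := by
  rw [sub_eq_add_neg, hf.adj_add, hf.adj_neg, sub_eq_add_neg]

lemma adj_pow (hf : HForm σ ε f) (X : Matrix ι ι F) (n : ℕ) :
    adj σ f (X ^ n) = adj σ f X ^ n := by
  induction n with
  | zero => simp [hf.adj_one]
  | succ n ih => rw [pow_succ, hf.adj_mul, ih, pow_succ']

lemma adj_injective (hf : HForm σ ε f) : Function.Injective (adj σ f : Matrix ι ι F → _) :=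
  fun X Y h => by rw [← hf.adj_adj X, h, hf.adj_adj]

lemma adj_eq_zero (hf : HForm σ ε f) {X : Matrix ι ι F} : adj σ f X = 0 ↔ X = 0 :=
  ⟨fun h => hf.adj_injective (by rw [h, hf.adj_zero]), fun h => by rw [h, hf.adj_zero]⟩

lemma trace_adj (hf : HForm σ ε f) (X : Matrix ι ι F) : (adj σ f X).trace = σ X.trace := by
  have : (adj σ f X).trace = σ ((gramMatrix f)⁻¹ * Xᵀ * gramMatrix f).trace := by
    simp only [adj, Matrix.trace, Matrix.diag, Matrix.map_apply, map_sum]
  rw [this, Matrix.trace_mul_cycle, Matrix.mul_nonsing_inv _ hf.isUnit_det, Matrix.one_mul,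
    Matrix.trace_transpose]

lemma adj_coe (hf : HForm σ ε f) {g : GL ι F} {c : F}
    (hc : ∀ u v, f ((g : Matrix ι ι F) *ᵥ u) ((g : Matrix ι ι F) *ᵥ v) = c * f u v) :
    adj σ f (g : Matrix ι ι F) = σ c • ((g⁻¹ : GL ι F) : Matrix ι ι F) :=
  hf.adj_eq fun u v => by
    conv_lhs => rw [← mulVec_inv_mulVec g v, hc]
    rw [Matrix.smul_mulVec, hf.smul_right, hf.invol]

lemma adj_cj (hf : HForm σ ε f) {g : GL ι F} (hg : g ∈ similarityGroup f) (X : Matrix ι ι F) :
    adj σ f (cj g X) = cj g (adj σ f X) := by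
  obtain ⟨c, hc⟩ := hg
  refine hf.adj_eq fun u v => ?_
  rw [← mulVec_inv_mulVec g u, ← mulVec_inv_mulVec g v, cj_mulVec, cj_mulVec, hc, hc, hf.adj_spec]

lemma adj_mem_spanAlg (hf : HForm σ ε f) {N : Subgroup (GL ι F)} (hN : N ≤ similarityGroup f)
    {X : Matrix ι ι F} (hX : X ∈ spanAlg F N) : adj σ f X ∈ spanAlg F N := by
  refine spanAlg_induction (R := F) (p := fun X => adj σ f X ∈ spanAlg F N) ?_ ?_ ?_ ?_ hX
  · intro x hx
    obtain ⟨c, hc⟩ := hN hx
    rw [hf.adj_coe hc]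
    exact Subalgebra.smul_mem _ (coe_mem_spanAlg (N.inv_mem hx)) _
  · rw [hf.adj_zero]; exact zero_mem _
  · intro X Y hX hY; rw [hf.adj_add]; exact add_mem hX hY
  · intro c X hX; rw [hf.adj_smul]; exact Subalgebra.smul_mem _ hX _

/-- every sesquilinear form is `f (D u) v` -/
lemma exists_repr (hf : HForm σ ε f) {f' : (ι → F) → (ι → F) → F} (hf' : Sesq σ f') :
    ∃ D : Matrix ι ι F, ∀ u v, f' u v = f (D *ᵥ u) v := by
  refine ⟨(gramMatrix f' * (gramMatrix f)⁻¹)ᵀ, fun u v => ?_⟩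
  have h1 := frm_mulVec_mulVec σ (gramMatrix f) (gramMatrix f' * (gramMatrix f)⁻¹)ᵀ 1 u v
  rw [← hf.eq_frm, Matrix.one_mulVec] at h1
  rw [h1, Matrix.map_one _ (map_zero σ) (map_one σ), Matrix.mul_one, Matrix.transpose_transpose,
    Matrix.mul_assoc, Matrix.nonsing_inv_mul _ hf.isUnit_det, Matrix.mul_one, ← hf'.eq_frm]

/-- uniqueness of invariant forms of an absolutely irreducible group -/
theorem exists_eq_smul (hf : HForm σ ε f) {f' : (ι → F) → (ι → F) → F} (hf' : Sesq σ f')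
    {N : Subgroup (GL ι F)} (hN : spanAlg F N = ⊤)
    (h : ∀ x ∈ N, ∃ c : F, (∀ u v, f ((x : Matrix ι ι F) *ᵥ u) ((x : Matrix ι ι F) *ᵥ v) = c * f u v) ∧
      ∀ u v, f' ((x : Matrix ι ι F) *ᵥ u) ((x : Matrix ι ι F) *ᵥ v) = c * f' u v) :
    ∃ c : F, ∀ u v, f' u v = c * f u v := by
  obtain ⟨D, hD⟩ := hf.exists_repr hf'
  obtain ⟨c, hc⟩ := scalar_of_commute hN (Y := D) (fun x hx => by
    obtain ⟨c, h1, h2⟩ := h x hx
    refine hf.mat_eq_of_left fun u v => ?_
    rw [← mulVec_inv_mulVec x v, ← Matrix.mulVec_mulVec, ← Matrix.mulVec_mulVec, ← hD, h2, h1, hD])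
  exact ⟨c, fun u v => by rw [hD, hc, Matrix.smul_mulVec, Matrix.one_mulVec, hf.smul_left]⟩

/-- the normaliser of an absolutely irreducible group of isometries consists of similarities -/
theorem mem_similarityGroup_of_normalizes [Nonempty ι] (hf : HForm σ ε f)
    {N : Subgroup (GL ι F)} (hN : spanAlg F N = ⊤)
    (h : ∀ x ∈ N, ∀ u v, f ((x : Matrix ι ι F) *ᵥ u) ((x : Matrix ι ι F) *ᵥ v) = f u v)
    {g : GL ι F} (hg : ∀ x ∈ N, g * x * g⁻¹ ∈ N) : g ∈ similarityGroup f := by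
  obtain ⟨c, hc⟩ := hf.exists_eq_smul (hf.toSesq.comp_mulVec g g) hN (fun x hx => ⟨1,
    fun u v => by rw [h x hx, one_mul], fun u v => by
      have h1 := h _ (hg x hx) ((g : Matrix ι ι F) *ᵥ u) ((g : Matrix ι ι F) *ᵥ v)
      rw [← cj_coe, cj_mulVec, cj_mulVec] at h1
      rw [h1, one_mul]⟩)
  have hc0 : c ≠ 0 := by
    rintro rfl
    obtain ⟨i⟩ := ‹Nonempty ι›
    have : (g : Matrix ι ι F) *ᵥ (Pi.single i 1) = 0 := hf.nondeg _ fun x => by
      rw [← mulVec_inv_mulVec g x, hc, zero_mul]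
    rw [mulVec_eq_zero_iff] at this
    simpa using congrFun this i
  exact ⟨Units.mk0 c hc0, hc⟩

end HForm

lemma scalars_le_similarityGroup {σ : F →+* F} {f : (ι → F) → (ι → F) → F} (hf : Sesq σ f) :
    scalars ι F ≤ similarityGroup f := by
  intro g hg
  obtain ⟨c, hc⟩ := (mem_scalars_iff g).mp hg
  refine ⟨Units.mk0 ((c : F) * σ c) (by simp), fun u v => ?_⟩
  rw [hc, Matrix.smul_mulVec, Matrix.smul_mulVec, Matrix.one_mulVec, Matrix.one_mulVec,
    hf.smul_left, hf.smul_right, Units.val_mk0, mul_assoc]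

end Cfsg.Agent.H18
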