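import Cfsg.Agent.H18.Form
import Cfsg.Agent.H18.Wedder

/-! Bridges to the form predicates of the definitions; existence of invariant forms. -/

set_option autoImplicit false

namespace Cfsg.Agent.H18

open Cfsg.Geo
open scoped MatrixGroups Matrix Kronecker

variable {ι : Type} [Fintype ι] [DecidableEq ι] {F : Type*} [Field F]

section bridges

omit [Fintype ι] [DecidableEq ι]

lemma sesq_of_bilinear {f : (ι → F) → (ι → F) → F} (hf : IsBilinearForm f) :
    Sesq (RingHom.id F) f :=
  ⟨hf.add_left, hf.smul_left, hf.add_right, hf.smul_right⟩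

lemma Sesq.bilinear {f : (ι → F) → (ι → F) → F} (hf : Sesq (RingHom.id F) f) :
    IsBilinearForm f :=
  ⟨hf.add_left, hf.smul_left, hf.add_right, hf.smul_right⟩

lemma nondeg_of_isNondegenerateForm {f : (ι → F) → (ι → F) → F} (hf : IsNondegenerateForm f)
    (v : ι → F) (h : ∀ x, f x v = 0) : v = 0 := by
  by_contra hv
  obtain ⟨x, hx⟩ := (hf v hv).1
  exact hx (h x)

lemma hform_of_symplectic {f : (ι → F) → (ι → F) → F} (hf : IsSymplecticForm f) :
    HForm (RingHom.id F) (-1) f where
  toSesq := sesq_of_bilinear hf.bilinear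
  invol _ := rfl
  eps := by simp
  herm u v := by rw [hf.skew]; simp
  nondeg := nondeg_of_isNondegenerateForm hf.nondegenerate

lemma skew_of_alt {f : (ι → F) → (ι → F) → F} (hf : Sesq (RingHom.id F) f)
    (ha : ∀ v, f v v = 0) (u v : ι → F) : f u v = - f v u := by
  have := ha (u + v)
  rw [hf.add_left, hf.add_right, hf.add_right, ha, ha] at this
  linear_combination this

lemma HForm.symplectic {ε : F} {f : (ι → F) → (ι → F) → F} (hf : HForm (RingHom.id F) ε f)
    (ha : ∀ v, f v v = 0) : IsSymplecticForm f :=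
  ⟨hf.toSesq.bilinear, skew_of_alt hf.toSesq ha, ha, hf.isNondegenerateForm⟩

lemma HForm.alt_of_two_ne_zero {f : (ι → F) → (ι → F) → F} (hf : HForm (RingHom.id F) (-1) f)
    (h2 : (2 : F) ≠ 0) (v : ι → F) : f v v = 0 := by
  have := hf.herm v v
  simp only [RingHom.id_apply] at this
  apply mul_left_cancel₀ h2
  linear_combination this

lemma hform_of_symmetric {f : (ι → F) → (ι → F) → F} (hf : IsSymmetricForm f) :
    HForm (RingHom.id F) 1 f where
  toSesq := sesq_of_bilinear hf.bilinear
  invol _ := rfl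
  eps := by simp
  herm u v := by rw [hf.symm]; simp
  nondeg := nondeg_of_isNondegenerateForm hf.nondegenerate

lemma HForm.symm {f : (ι → F) → (ι → F) → F} (hf : HForm (RingHom.id F) 1 f) (u v : ι → F) :
    f u v = f v u := by rw [hf.herm]; simp

lemma HForm.symmetric {f : (ι → F) → (ι → F) → F} (hf : HForm (RingHom.id F) 1 f) :
    IsSymmetricForm f :=
  ⟨hf.toSesq.bilinear, hf.symm, hf.isNondegenerateForm⟩

lemma hform_of_quad {Q : (ι → F) → F} (hQ : IsNondegenerateQuadraticForm Q) :
    HForm (RingHom.id F) 1 (QuadraticMap.polar Q) where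
  toSesq := sesq_of_bilinear hQ.polar_bilinear
  invol _ := rfl
  eps := by simp
  herm u v := by rw [QuadraticMap.polar_comm]; simp
  nondeg := nondeg_of_isNondegenerateForm hQ.nondegenerate

lemma polar_self_of_quad {Q : (ι → F) → F} (hQ : IsNondegenerateQuadraticForm Q) (v : ι → F) :
    QuadraticMap.polar Q v v = 2 * Q v := by
  rw [QuadraticMap.polar, ← two_smul F v, hQ.smul]; ring

lemma quad_add {Q : (ι → F) → F} (u v : ι → F) :
    Q (u + v) = Q u + Q v + QuadraticMap.polar Q u v := by
  rw [QuadraticMap.polar]; ring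

lemma quad_zero {Q : (ι → F) → F} (hQ : IsNondegenerateQuadraticForm Q) : Q 0 = 0 := by
  simpa using hQ.smul 0 0

lemma HForm.polar_self {f : (ι → F) → (ι → F) → F} (hf : HForm (RingHom.id F) 1 f) (u v : ι → F) :
    QuadraticMap.polar (fun v => f v v) u v = 2 * f u v := by
  rw [QuadraticMap.polar, hf.add_left, hf.add_right, hf.add_right, hf.symm v u]; ring

lemma HForm.smul {σ : F →+* F} {ε : F} {f : (ι → F) → (ι → F) → F} (hf : HForm σ ε f) {c : F}
    (hc : c ≠ 0) : HForm σ (ε * c / σ c) (fun u v => c * f u v) where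
  add_left x y v := by rw [hf.add_left]; ring
  smul_left a x v := by rw [hf.smul_left]; ring
  add_right x y v := by rw [hf.add_right]; ring
  smul_right a x v := by rw [hf.smul_right]; ring
  invol := hf.invol
  eps := by
    have : σ c ≠ 0 := by simpa using hc
    rw [map_div₀, map_mul, hf.invol]
    field_simp
    exact hf.eps
  herm u v := by
    have : σ c ≠ 0 := by simpa using hc
    rw [hf.herm, map_mul]; field_simp
  nondeg v h := hf.nondeg v fun x => (mul_eq_zero.mp (h x)).resolve_left hc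

lemma HForm.quad {f : (ι → F) → (ι → F) → F} (hf : HForm (RingHom.id F) 1 f) (h2 : (2 : F) ≠ 0) :
    IsNondegenerateQuadraticForm (fun v => f v v) := by
  have h : QuadraticMap.polar (fun v => f v v) = fun u v => 2 * f u v := by
    funext u v; exact hf.polar_self u v
  refine ⟨fun c v => ?_, ?_, ?_⟩
  · rw [hf.smul_left, hf.smul_right]; simp; ring
  · rw [h]; exact (hf.smul h2).toSesq.bilinear
  · rw [h]; exact (hf.smul h2).isNondegenerateForm

lemma hform_of_unitary {σ : F ≃+* F} {f : (ι → F) → (ι → F) → F} (hf : IsUnitaryForm σ f) :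
    HForm (σ : F →+* F) 1 f where
  add_left := hf.add_left
  smul_left := hf.smul_left
  add_right v x y := by rw [hf.herm, hf.add_left, map_add, ← hf.herm, ← hf.herm]
  smul_right c v x := by rw [hf.herm, hf.smul_left, map_mul, ← hf.herm]; rfl
  invol := hf.involutive
  eps := by simp
  herm u v := by rw [hf.herm]; simp
  nondeg := nondeg_of_isNondegenerateForm hf.nondegenerate

/-- an involutive ring endomorphism as an automorphism -/
def invEquiv (σ : F →+* F) (hσ : ∀ x, σ (σ x) = x) : F ≃+* F :=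
  { σ with invFun := σ, left_inv := hσ, right_inv := hσ }

lemma HForm.unitary {σ : F →+* F} {f : (ι → F) → (ι → F) → F} (hf : HForm σ 1 f)
    (hσ : σ ≠ RingHom.id F) : IsUnitaryForm (invEquiv σ hf.invol) f where
  ne_refl h := hσ (RingHom.ext fun x => congrArg (fun e : F ≃+* F => e x) h)
  involutive := hf.invol
  add_left := hf.add_left
  smul_left := hf.smul_left
  herm v w := by rw [hf.herm, one_mul]; rfl
  nondegenerate := hf.isNondegenerateForm

lemma hform_of_unitaryPow {σ : F →+* F} {q : ℕ} (hq : ∀ x, σ x = x ^ q) (hσ : ∀ x, σ (σ x) = x)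
    {f : (ι → F) → (ι → F) → F} (hf : IsUnitaryFormPow q f) : HForm σ 1 f where
  add_left := hf.add_left
  smul_left := hf.smul_left
  add_right v x y := by rw [hf.herm, hf.add_left, ← hq, map_add, hq, hq, ← hf.herm, ← hf.herm]
  smul_right c v x := by rw [hf.herm, hf.smul_left, ← hq, map_mul, hq (f x v), ← hf.herm]
  invol := hσ
  eps := by simp
  herm u v := by rw [hf.herm, hq]; simp
  nondeg := nondeg_of_isNondegenerateForm hf.nondegenerate

lemma HForm.unitaryPow {σ : F →+* F} {q : ℕ} (hq : ∀ x, σ x = x ^ q)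
    {f : (ι → F) → (ι → F) → F} (hf : HForm σ 1 f) : IsUnitaryFormPow q f where
  add_left := hf.add_left
  smul_left := hf.smul_left
  herm v w := by rw [hf.herm, one_mul, hq]
  nondegenerate := hf.isNondegenerateForm

end bridges

lemma similarityGroup_smul {f : (ι → F) → (ι → F) → F} {c : F} (hc : c ≠ 0) :
    similarityGroup (fun u v => c * f u v) = similarityGroup f := by
  ext g
  constructor
  · rintro ⟨d, hd⟩
    exact ⟨d, fun u v => mul_left_cancel₀ hc (by have := hd u v; simp only at this; rw [this]; ring)⟩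
  · rintro ⟨d, hd⟩
    exact ⟨d, fun u v => by simp only [hd]; ring⟩

lemma similarityGroup_le_quad (f : (ι → F) → (ι → F) → F) :
    similarityGroup f ≤ quadSimilarityGroup (fun v => f v v) := fun _ ⟨c, hc⟩ =>
  ⟨c, fun v => hc v v⟩

lemma quadSimilarityGroup_le (Q : (ι → F) → F) :
    quadSimilarityGroup Q ≤ similarityGroup (QuadraticMap.polar Q) := fun g ⟨c, hc⟩ =>
  ⟨c, fun u v => by simp only [QuadraticMap.polar, ← Matrix.mulVec_add, hc]; ring⟩

lemma scalars_le_quadSimilarityGroup {Q : (ι → F) → F} (hQ : IsNondegenerateQuadraticForm Q) :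
    scalars ι F ≤ quadSimilarityGroup Q := by
  intro g hg
  obtain ⟨c, hc⟩ := (mem_scalars_iff g).mp hg
  refine ⟨c ^ 2, fun v => ?_⟩
  rw [hc, Matrix.smul_mulVec, Matrix.one_mulVec, hQ.smul, Units.val_pow_eq_pow_val]

lemma even_card_of_symplectic {f : (ι → F) → (ι → F) → F} (hf : IsSymplecticForm f) :
    Even (Fintype.card ι) := by
  let B : LinearMap.BilinForm F (ι → F) := LinearMap.mk₂ F f hf.bilinear.add_left
    hf.bilinear.smul_left hf.bilinear.add_right hf.bilinear.smul_right
  obtain ⟨m, b, -⟩ := H13.exists_symplectic_basis B hf.alternating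
    (fun x hx => (hform_of_symplectic hf).nondeg' x hx)
  have := Module.finrank_eq_card_basis b
  simp only [Module.finrank_pi, Fintype.card_sum, Fintype.card_fin] at this
  exact ⟨m, this⟩

lemma two_ne_zero_iff_odd [Fintype F] : (2 : F) ≠ 0 ↔ Odd (Fintype.card F) := by
  rw [Nat.odd_iff]
  constructor
  · exact fun h => FiniteField.odd_card_of_char_ne_two (H13.ringChar_ne_two_of_two_ne_zero h)
  · refine fun h => Ring.two_ne_zero fun h2 => ?_
    rw [FiniteField.even_card_iff_char_two] at h2
    omega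

/-- in characteristic two a symmetric form preserved by an irreducible group is alternating -/
lemma HForm.alt_of_irr [Finite F] {f : (ι → F) → (ι → F) → F} (hf : HForm (RingHom.id F) 1 f)
    (h2 : (2 : F) = 0) (hn : 2 ≤ Fintype.card ι) {H : Subgroup (GL ι F)} (hH : Irr H)
    (hs : H ≤ similarityGroup f) (v : ι → F) : f v v = 0 := by
  let W : Submodule F (ι → F) :=
    { carrier := {v | f v v = 0}
      add_mem' := fun {a b} ha hb => by
        simp only [Set.mem_setOf_eq] at *
        rw [hf.add_left, hf.add_right, hf.add_right, ha, hb, hf.symm b a]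
        linear_combination f a b * h2
      zero_mem' := hf.zero_left 0
      smul_mem' := fun c a ha => by
        simp only [Set.mem_setOf_eq] at *
        rw [hf.smul_left, hf.smul_right, ha]; simp }
  rcases hH W (fun h hh v hv => by
    obtain ⟨c, hc⟩ := hs hh
    change f _ _ = 0
    rw [hc, show f v v = 0 from hv, mul_zero]) with h | h
  · exfalso
    obtain ⟨i, j, hij⟩ := Fintype.exists_pair_of_one_lt_card (α := ι) hn
    have hi : f (Pi.single i 1) (Pi.single i 1) ≠ 0 := fun h0 => by
      have : (Pi.single i 1 : ι → F) ∈ W := h0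
      rw [h, Submodule.mem_bot] at this
      simpa using congrFun this i
    obtain ⟨c, hc⟩ := H13.exists_sq_eq_of_two_eq_zero h2
      (f (Pi.single j 1) (Pi.single j 1) / f (Pi.single i 1) (Pi.single i 1))
    have : (c • Pi.single i 1 + Pi.single j 1 : ι → F) ∈ W := by
      change f _ _ = 0
      rw [hf.add_left, hf.add_right, hf.add_right, hf.symm (Pi.single j 1) (c • _), hf.smul_left,
        hf.smul_right]
      rw [eq_div_iff hi] at hc
      simp only [RingHom.id_apply]
      linear_combination hc + (f (c • Pi.single i 1) (Pi.single j 1) +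
        f (Pi.single j 1) (Pi.single j 1)) * h2
    rw [h, Submodule.mem_bot] at this
    simpa [hij, hij.symm] using congrFun this j
  · exact (h ▸ Submodule.mem_top : v ∈ W)

/-- Hilbert 90 for an involution -/
lemma exists_hilbert90 {σ : F →+* F} (hσ : ∀ x, σ (σ x) = x) (hne : σ ≠ RingHom.id F) {ε : F}
    (hε : ε * σ ε = 1) : ∃ c : F, c ≠ 0 ∧ ε * c / σ c = 1 := by
  obtain ⟨a, ha⟩ : ∃ a : F, a + σ ε * σ a ≠ 0 := by
    by_contra! h
    have h1 := h 1
    apply hne
    ext a
    have h2 := h a
    rw [map_one, mul_one] at h1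
    rw [show σ ε = -1 by linear_combination h1] at h2
    simp only [RingHom.id_apply]
    linear_combination -h2
  refine ⟨a + σ ε * σ a, ha, ?_⟩
  rw [div_eq_one_iff_eq ((map_ne_zero σ).mpr ha), map_add, map_mul, hσ, hσ]
  linear_combination σ a * hε

lemma HForm.exists_one {σ : F →+* F} {ε : F} {f : (ι → F) → (ι → F) → F} (hf : HForm σ ε f)
    (hne : σ ≠ RingHom.id F) : ∃ c : F, c ≠ 0 ∧ HForm σ 1 (fun u v => c * f u v) := by
  obtain ⟨c, hc, h⟩ := exists_hilbert90 hf.invol hne hf.eps
  exact ⟨c, hc, h ▸ hf.smul hc⟩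

omit [Fintype ι] [DecidableEq ι] in
lemma HForm.eps_id {ε : F} {f : (ι → F) → (ι → F) → F} (hf : HForm (RingHom.id F) ε f) :
    ε = 1 ∨ ε = -1 := mul_self_eq_one_iff.mp hf.eps

/-- an invariant non-degenerate sesquilinear form of an absolutely irreducible group is
hermitian up to a factor -/
theorem exists_hform_of_invariant [Nonempty ι] {σ : F →+* F} (hσ : ∀ x, σ (σ x) = x)
    {G : Matrix ι ι F} (hG : IsUnit G.det) {N : Subgroup (GL ι F)} (hN : spanAlg F N = ⊤)
    (h : ∀ x ∈ N, (x : Matrix ι ι F)ᵀ * G * (x : Matrix ι ι F).map σ = G) :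
    ∃ ε : F, HForm σ ε (frm σ G) := by
  have hG' : IsUnit ((G.map σ)ᵀ).det := by
    rw [Matrix.det_transpose, isUnit_iff_ne_zero]
    have := RingHom.map_det σ G
    rw [RingHom.mapMatrix_apply] at this
    rw [← this]; simpa using hG.ne_zero
  obtain ⟨c, hc⟩ := scalar_of_commute hN (Y := (G * ((G.map σ)ᵀ)⁻¹)ᵀ) (fun x hx => by
    have h1 := h x hx
    have h2 : (x : Matrix ι ι F)ᵀ * (G.map σ)ᵀ * (x : Matrix ι ι F).map σ = (G.map σ)ᵀ := by
      have h3 := congrArg (fun X : Matrix ι ι F => (X.map σ)ᵀ) h1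
      simp only [Matrix.map_mul, Matrix.transpose_mul, Matrix.map_map] at h3
      have h4 : (σ ∘ σ : F → F) = id := funext hσ
      rw [h4, Matrix.map_id] at h3
      rw [Matrix.mul_assoc]; exact h3
    rw [← Matrix.transpose_inj, Matrix.transpose_mul _ (x : Matrix ι ι F),
      Matrix.transpose_mul (x : Matrix ι ι F), Matrix.transpose_transpose]
    have hx' : IsUnit ((x : Matrix ι ι F).map σ).det := by
      rw [isUnit_iff_ne_zero]
      have := RingHom.map_det σ (x : Matrix ι ι F)
      rw [RingHom.mapMatrix_apply] at this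
      rw [← this]; simpa using x.det_ne_zero
    have h5 : IsUnit ((G.map σ)ᵀ * (x : Matrix ι ι F).map σ) := by
      rw [Matrix.isUnit_iff_isUnit_det, Matrix.det_mul]; exact hG'.mul hx'
    apply h5.mul_right_cancel
    calc (x : Matrix ι ι F)ᵀ * (G * ((G.map σ)ᵀ)⁻¹) * ((G.map σ)ᵀ * (x : Matrix ι ι F).map σ)
        = (x : Matrix ι ι F)ᵀ * G * (((G.map σ)ᵀ)⁻¹ * (G.map σ)ᵀ) * (x : Matrix ι ι F).map σ := by
          simp only [Matrix.mul_assoc]
      _ = G := by rw [Matrix.nonsing_inv_mul _ hG', Matrix.mul_one, h1]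
      _ = G * (((G.map σ)ᵀ)⁻¹ * ((x : Matrix ι ι F)ᵀ * (G.map σ)ᵀ * (x : Matrix ι ι F).map σ)) := by
          rw [h2, Matrix.nonsing_inv_mul _ hG', Matrix.mul_one]
      _ = _ := by simp only [Matrix.mul_assoc])
  have hc' : G = c • (G.map σ)ᵀ := by
    have h1 := congrArg (fun X : Matrix ι ι F => Xᵀ * (G.map σ)ᵀ) hc
    simp only [Matrix.transpose_transpose, Matrix.transpose_smul, Matrix.transpose_one,
      Matrix.smul_mul, Matrix.one_mul] at h1
    rwa [Matrix.mul_assoc, Matrix.nonsing_inv_mul _ hG', Matrix.mul_one] at h1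
  refine ⟨c, hform_frm hσ ?_ hG hc'⟩
  obtain ⟨a, b, hab⟩ : ∃ a b, G a b ≠ 0 := by
    by_contra! h0
    have : G = 0 := by ext a b; exact h0 a b
    rw [this, Matrix.det_zero] at hG
    exact not_isUnit_zero hG
  have h1 := congrFun (congrFun hc' a) b
  have h2 := congrFun (congrFun hc' b) a
  simp only [Matrix.smul_apply, Matrix.transpose_apply, Matrix.map_apply, smul_eq_mul] at h1 h2
  rw [h2, map_mul, hσ] at h1
  apply mul_right_cancel₀ hab
  linear_combination -h1

/-- existence of an invariant form from the trace condition -/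
theorem exists_hform_of_trace [Nonempty ι] {σ : F →+* F} (hσ : ∀ x, σ (σ x) = x)
    {N : Subgroup (GL ι F)} (hN : spanAlg F N = ⊤)
    (h : ∀ x ∈ N, σ (x : Matrix ι ι F).trace = ((x⁻¹ : GL ι F) : Matrix ι ι F).trace) :
    ∃ (ε : F) (f : (ι → F) → (ι → F) → F), HForm σ ε f ∧
      ∀ x ∈ N, ∀ u v, f ((x : Matrix ι ι F) *ᵥ u) ((x : Matrix ι ι F) *ᵥ v) = f u v := by
  let ρ₁ : N →* Matrix ι ι F :=
    { toFun := fun x => ((x : GL ι F) : Matrix ι ι F).map σ
      map_one' := by simp
      map_mul' := fun x y => by simp [Matrix.map_mul] }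
  let ρ₂ : N →* Matrix ι ι F :=
    { toFun := fun x => (((x : GL ι F)⁻¹ : GL ι F) : Matrix ι ι F)ᵀ
      map_one' := by simp
      map_mul' := fun x y => by
        rw [Subgroup.coe_mul, mul_inv_rev, Units.val_mul, Matrix.transpose_mul] }
  have h1 : Submodule.span F (Set.range ρ₁) = ⊤ := by
    rw [eq_top_iff]
    rintro X -
    have hX : X.map σ ∈ spanAlg F N := hN ▸ Algebra.mem_top
    have : (X.map σ).map σ ∈ Submodule.span F (Set.range ρ₁) := by
      refine spanAlg_induction (R := F)
        (p := fun Y => Y.map σ ∈ Submodule.span F (Set.range ρ₁)) ?_ ?_ ?_ ?_ hX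
      · exact fun x hx => Submodule.subset_span ⟨⟨x, hx⟩, rfl⟩
      · simp
      · intro X Y hX hY
        rw [Matrix.map_add _ (map_add σ)]; exact add_mem hX hY
      · intro c X hX
        have : (c • X).map σ = σ c • X.map σ := by ext; simp
        rw [this]; exact Submodule.smul_mem _ _ hX
    have h4 : (σ ∘ σ : F → F) = id := funext hσ
    rwa [Matrix.map_map, h4, Matrix.map_id] at this
  have h2 : Submodule.span F (Set.range ρ₂) = ⊤ := by
    rw [eq_top_iff]
    rintro X -
    have hX : Xᵀ ∈ spanAlg F N := hN ▸ Algebra.mem_top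
    have : Xᵀᵀ ∈ Submodule.span F (Set.range ρ₂) := by
      refine spanAlg_induction (R := F)
        (p := fun Y => Yᵀ ∈ Submodule.span F (Set.range ρ₂)) ?_ ?_ ?_ ?_ hX
      · exact fun x hx => Submodule.subset_span ⟨⟨x⁻¹, N.inv_mem hx⟩, by simp [ρ₂]⟩
      · simp
      · intro X Y hX hY
        rw [Matrix.transpose_add]; exact add_mem hX hY
      · intro c X hX
        rw [Matrix.transpose_smul]; exact Submodule.smul_mem _ _ hX
    simpa using this
  obtain ⟨G, hG⟩ := exists_conj_of_trace_eq ρ₁ ρ₂ h1 h2 (fun x => by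
    change (((x : GL ι F) : Matrix ι ι F).map σ).trace = (Matrix.transpose _).trace
    rw [Matrix.trace_transpose, ← h x x.2]
    simp only [Matrix.trace, Matrix.diag, Matrix.map_apply, map_sum])
  have hinv : ∀ x ∈ N, (x : Matrix ι ι F)ᵀ * (G : Matrix ι ι F) * (x : Matrix ι ι F).map σ = G := by
    intro x hx
    have h3 := (cj_eq_iff _ _ _).mp (hG ⟨x, hx⟩)
    change (G : Matrix ι ι F) * (x : Matrix ι ι F).map σ =
      ((x⁻¹ : GL ι F) : Matrix ι ι F)ᵀ * G at h3
    rw [Matrix.mul_assoc, h3, ← Matrix.mul_assoc, ← Matrix.transpose_mul, ← Units.val_mul,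
      inv_mul_cancel, Units.val_one, Matrix.transpose_one, Matrix.one_mul]
  obtain ⟨ε, hε⟩ := exists_hform_of_invariant hσ (isUnit_iff_ne_zero.mpr G.det_ne_zero) hN hinv
  exact ⟨ε, _, hε, fun x hx u v => by rw [frm_mulVec_mulVec, hinv x hx]⟩

/-- contained in a class-8 subgroup of the general linear group -/
def InC8 [Fintype F] (H : Subgroup (GL ι F)) : Prop :=
  (∃ f, IsSymplecticForm f ∧ H ≤ similarityGroup f) ∨
  (∃ (σ : F ≃+* F) (f : (ι → F) → (ι → F) → F), IsUnitaryForm σ f ∧ H ≤ similarityGroup f) ∨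
  (∃ Q : (ι → F) → F, IsNondegenerateQuadraticForm Q ∧ Odd (Fintype.card F) ∧
    H ≤ quadSimilarityGroup Q)

theorem inC8_of_hform [Fintype F] {σ : F →+* F} {ε : F} {f : (ι → F) → (ι → F) → F}
    (hf : HForm σ ε f) (hn : 2 ≤ Fintype.card ι) {H : Subgroup (GL ι F)} (hH : Irr H)
    (hs : H ≤ similarityGroup f) : InC8 H := by
  by_cases hσ : σ = RingHom.id F
  · subst hσ
    by_cases h2 : (2 : F) = 0
    · have : ε = 1 := by
        rcases hf.eps_id with h | h
        · exact h
        · rw [h]; linear_combination -h2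
      subst this
      exact Or.inl ⟨f, hf.symplectic (hf.alt_of_irr h2 hn hH hs), hs⟩
    · rcases hf.eps_id with rfl | rfl
      · exact Or.inr (Or.inr ⟨_, hf.quad h2, two_ne_zero_iff_odd.mp h2,
          hs.trans (similarityGroup_le_quad f)⟩)
      · exact Or.inl ⟨f, hf.symplectic (hf.alt_of_two_ne_zero h2), hs⟩
  · obtain ⟨c, hc, h⟩ := hf.exists_one hσ
    exact Or.inr (Or.inl ⟨_, _, h.unitary hσ, by rwa [similarityGroup_smul hc]⟩)

end Cfsg.Agent.H18
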