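import Cfsg.Agent.H18.SLArith

/-! Reducible groups and normalised commutative algebras in the presence of a form. -/

set_option autoImplicit false

namespace Cfsg.Agent.H18

open Cfsg.Geo
open scoped MatrixGroups Matrix Kronecker commutatorElement

variable {ι : Type} [Fintype ι] [DecidableEq ι] {F : Type*} [Field F]

/-- the isometry group of a form -/
def isoG (f : (ι → F) → (ι → F) → F) : Subgroup (GL ι F) :=
  preserving (Units.coeHom (Matrix ι ι F)) f

lemma mem_isoG {f : (ι → F) → (ι → F) → F} {g : GL ι F} :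
    g ∈ isoG f ↔ ∀ u v, f ((g : Matrix ι ι F) *ᵥ u) ((g : Matrix ι ι F) *ᵥ v) = f u v := Iff.rfl

lemma isoG_le_sim (f : (ι → F) → (ι → F) → F) : isoG f ≤ similarityGroup f :=
  fun _ hg => ⟨1, fun u v => by rw [mem_isoG.mp hg u v]; simp⟩

lemma conj_mem_isoG {f : (ι → F) → (ι → F) → F} {g x : GL ι F} (hg : g ∈ similarityGroup f)
    (hx : x ∈ isoG f) : g * x * g⁻¹ ∈ isoG f := by
  obtain ⟨c, hc⟩ := hg
  intro u v
  have := hc (((g⁻¹ : GL ι F) : Matrix ι ι F) *ᵥ u) (((g⁻¹ : GL ι F) : Matrix ι ι F) *ᵥ v)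
  rw [mulVec_inv_mulVec, mulVec_inv_mulVec] at this
  change f (((g * x * g⁻¹ : GL ι F) : Matrix ι ι F) *ᵥ u) (((g * x * g⁻¹ : GL ι F) : Matrix ι ι F) *ᵥ v) = _
  simp only [Units.val_mul, ← Matrix.mulVec_mulVec]
  rw [hc, mem_isoG.mp hx, this]

lemma commutator_mem_isoG {f : (ι → F) → (ι → F) → F} {x y : GL ι F} (hx : x ∈ similarityGroup f)
    (hy : y ∈ similarityGroup f) : x * y * x⁻¹ * y⁻¹ ∈ isoG f := by
  obtain ⟨c, hc⟩ := hx
  obtain ⟨d, hd⟩ := hy
  intro u v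
  have h1 := hc (((x⁻¹ : GL ι F) : Matrix ι ι F) *ᵥ ((y⁻¹ : GL ι F) : Matrix ι ι F) *ᵥ u)
    (((x⁻¹ : GL ι F) : Matrix ι ι F) *ᵥ ((y⁻¹ : GL ι F) : Matrix ι ι F) *ᵥ v)
  have h2 := hd (((y⁻¹ : GL ι F) : Matrix ι ι F) *ᵥ u) (((y⁻¹ : GL ι F) : Matrix ι ι F) *ᵥ v)
  rw [mulVec_inv_mulVec, mulVec_inv_mulVec] at h1 h2
  change f (((x * y * x⁻¹ * y⁻¹ : GL ι F) : Matrix ι ι F) *ᵥ u)
    (((x * y * x⁻¹ * y⁻¹ : GL ι F) : Matrix ι ι F) *ᵥ v) = _
  simp only [Units.val_mul, ← Matrix.mulVec_mulVec]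
  rw [hc, hd, h2, h1]; ring

lemma commutator_le_isoG {f : (ι → F) → (ι → F) → F} {H : Subgroup (GL ι F)}
    (hH : H ≤ similarityGroup f) : ⁅H, H⁆ ≤ isoG f :=
  Subgroup.commutator_le.mpr fun _ hx _ hy => commutator_mem_isoG (hH hx) (hH hy)

/-- an involution of a finite field is a power map -/
theorem exists_pow_of_invol {K : Type*} [Field K] [Finite K] (τ : K →+* K) (hτ : ∀ x, τ (τ x) = x)
    (hne : τ ≠ RingHom.id K) : Nat.card K = Nat.card (τ.eqLocusField (RingHom.id K)) ^ 2 ∧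
      ∀ x, τ x = x ^ Nat.card (τ.eqLocusField (RingHom.id K)) := by
  set K₀ := τ.eqLocusField (RingHom.id K)
  have hm : ∀ x, x ∈ K₀ ↔ τ x = x := fun x => Iff.rfl
  obtain ⟨θ, hθ⟩ : ∃ θ, τ θ ≠ θ := by
    by_contra! h; exact hne (RingHom.ext h)
  have hθ' : θ - τ θ ≠ 0 := sub_ne_zero.mpr hθ.symm
  constructor
  · rw [sq, ← Nat.card_prod]
    refine (Nat.card_eq_of_bijective (fun p : K₀ × K₀ => (p.1 : K) + p.2 * θ) ⟨?_, fun x => ?_⟩).symm
    · rintro ⟨⟨a, ha⟩, b, hb⟩ ⟨⟨c, hc⟩, d, hd⟩ h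
      have h1 : a + b * θ = c + d * θ := h
      have h2 := congrArg τ h1
      rw [map_add, map_add, map_mul, map_mul, (hm _).mp ha, (hm _).mp hb, (hm _).mp hc,
        (hm _).mp hd] at h2
      obtain rfl : b = d := mul_right_cancel₀ hθ' (by linear_combination h1 - h2)
      obtain rfl : a = c := by linear_combination h1
      rfl
    · have hb : (x - τ x) / (θ - τ θ) ∈ K₀ := by
        rw [hm, map_div₀, map_sub, map_sub, hτ, hτ, ← neg_div_neg_eq, neg_sub, neg_sub]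
      refine ⟨(⟨x - (x - τ x) / (θ - τ θ) * θ, ?_⟩, ⟨_, hb⟩), by simp⟩
      rw [hm, map_sub, map_mul, (hm _).mp hb]
      field_simp
      ring
  · intro x
    have h1 : frobOf K₀ (x + τ x) = x + τ x := (frobOf_eq_iff _ _).mpr (by
      rw [hm, map_add, hτ, add_comm])
    have h2 : frobOf K₀ (x * τ x) = x * τ x := (frobOf_eq_iff _ _).mpr (by
      rw [hm, map_mul, hτ, mul_comm])
    rw [map_add] at h1
    rw [map_mul] at h2
    rw [← frobOf_apply]
    have h3 : (frobOf K₀ x - x) * (frobOf K₀ x - τ x) = 0 := by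
      linear_combination (-1 : K) * h2 + frobOf K₀ x * h1
    rcases mul_eq_zero.mp h3 with h4 | h4
    · have h5 := sub_eq_zero.mp h4
      rw [h5]; exact (hm x).mp ((frobOf_eq_iff _ _).mp h5)
    · exact (sub_eq_zero.mp h4).symm

section perp
variable {σ : F →+* F} {ε : F} {f : (ι → F) → (ι → F) → F}

/-- the perpendicular space -/
def Sesq.perp (hf : Sesq σ f) (W : Submodule F (ι → F)) : Submodule F (ι → F) where
  carrier := {v | ∀ w ∈ W, f v w = 0}
  add_mem' {a b} ha hb w hw := by rw [hf.add_left, ha w hw, hb w hw, add_zero]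
  zero_mem' w _ := hf.zero_left w
  smul_mem' c v hv w hw := by rw [hf.smul_left, hv w hw, mul_zero]

omit [Fintype ι] [DecidableEq ι] in
lemma Sesq.mem_perp (hf : Sesq σ f) {W : Submodule F (ι → F)} {v : ι → F} :
    v ∈ hf.perp W ↔ ∀ w ∈ W, f v w = 0 := Iff.rfl

omit [DecidableEq ι] in
lemma Sesq.le_finrank_perp (hf : Sesq σ f) (W : Submodule F (ι → F)) :
    Fintype.card ι ≤ Module.finrank F W + Module.finrank F (hf.perp W) := by
  let b := Module.finBasis F W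
  let L : (ι → F) →ₗ[F] (Fin (Module.finrank F W) → F) :=
    { toFun := fun v i => f v (b i)
      map_add' := fun x y => funext fun i => hf.add_left _ _ _
      map_smul' := fun c x => funext fun i => hf.smul_left _ _ _ }
  have h1 : LinearMap.ker L ≤ hf.perp W := fun v hv w hw => by
    have h2 : w = ∑ i, b.repr ⟨w, hw⟩ i • (b i : ι → F) := by
      have := (congrArg Subtype.val (b.sum_repr ⟨w, hw⟩)).symm
      rwa [Submodule.coe_sum] at this
    rw [h2, hf.sum_right]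
    exact Finset.sum_eq_zero fun i _ => by
      rw [hf.smul_right, show f v (b i) = 0 from congrFun hv i, mul_zero]
  have h2 := L.finrank_range_add_finrank_ker
  have h3 := Submodule.finrank_mono h1
  have h4 := (LinearMap.range L).finrank_le
  simp only [Module.finrank_fintype_fun_eq_card, Fintype.card_fin] at h2 h4
  omega

lemma HForm.mem_perp_of_sim (hf : HForm σ ε f) {W : Submodule F (ι → F)} {g : GL ι F}
    (hg : g ∈ similarityGroup f) (hW : ∀ v ∈ W, ((g⁻¹ : GL ι F) : Matrix ι ι F) *ᵥ v ∈ W)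
    {v : ι → F} (hv : v ∈ hf.perp W) : (g : Matrix ι ι F) *ᵥ v ∈ hf.perp W := fun w hw => by
  obtain ⟨c, hc⟩ := hg
  rw [← mulVec_inv_mulVec g w, hc, hv _ (hW w hw), mul_zero]

lemma HForm.le_stab_perp (hf : HForm σ ε f) {W : Submodule F (ι → F)} {H : Subgroup (GL ι F)}
    (hH : H ≤ similarityGroup f) (hW : H ≤ subspaceStabilizer W) :
    H ≤ subspaceStabilizer (hf.perp W) :=
  le_subspaceStabilizer fun g hg _ hv => hf.mem_perp_of_sim (hH hg) (fun v hv =>
    (mem_subspaceStabilizer.mp (hW (H.inv_mem hg)) v).mp hv) hv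

omit [Fintype ι] [DecidableEq ι] in
lemma HForm.nondegOn_iff (hf : HForm σ ε f) {W : Submodule F (ι → F)} :
    IsNondegenerateOn f W ↔ W ⊓ hf.perp W = ⊥ := by
  rw [Submodule.eq_bot_iff]
  constructor
  · rintro h w ⟨h1, h2⟩
    by_contra h0
    obtain ⟨x, hx, h3⟩ := (h w h1 h0).2
    exact h3 (h2 x hx)
  · intro h w hw h0
    have : ∃ x ∈ W, f w x ≠ 0 := by
      by_contra! h1; exact h0 (h w ⟨hw, h1⟩)
    obtain ⟨x, hx, h1⟩ := this
    exact ⟨⟨x, hx, fun h2 => h1 (hf.eq_zero_comm h2)⟩, x, hx, h1⟩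

omit [DecidableEq ι] in
lemma HForm.finrank_perp (hf : HForm σ ε f) {W : Submodule F (ι → F)} (h : IsNondegenerateOn f W) :
    Module.finrank F W + Module.finrank F (hf.perp W) = Fintype.card ι ∧ W ⊔ hf.perp W = ⊤ := by
  have h1 := Submodule.finrank_sup_add_finrank_inf_eq W (hf.perp W)
  rw [hf.nondegOn_iff.mp h, finrank_bot] at h1
  have h2 := hf.le_finrank_perp W
  have h3 := (W ⊔ hf.perp W).finrank_le
  rw [Module.finrank_fintype_fun_eq_card] at h3
  exact ⟨by omega, Submodule.eq_top_of_finrank_eq (by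
    rw [Module.finrank_fintype_fun_eq_card]; omega)⟩

omit [DecidableEq ι] in
lemma HForm.nondegOn_perp (hf : HForm σ ε f) {W : Submodule F (ι → F)} (h : IsNondegenerateOn f W) :
    IsNondegenerateOn f (hf.perp W) := by
  rw [hf.nondegOn_iff, Submodule.eq_bot_iff]
  rintro w ⟨h1, h2⟩
  refine hf.nondeg' w fun x => ?_
  obtain ⟨a, ha, b, hb, rfl⟩ := Submodule.mem_sup.mp ((hf.finrank_perp h).2.ge Submodule.mem_top :
    x ∈ W ⊔ hf.perp W)
  rw [hf.add_right, h1 a ha, h2 b hb, add_zero]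

omit [DecidableEq ι] in
lemma HForm.perp_perp (hf : HForm σ ε f) {W : Submodule F (ι → F)} (h : IsNondegenerateOn f W) :
    hf.perp (hf.perp W) = W := by
  have h1 := (hf.finrank_perp h).1
  have h2 := (hf.finrank_perp (hf.nondegOn_perp h)).1
  have h3 : W ≤ hf.perp (hf.perp W) := fun w hw x hx => hf.eq_zero_comm (hx w hw)
  exact (Submodule.eq_of_le_of_finrank_le h3 (by omega)).symm

/-- a reducible group of similarities -/
theorem HForm.red (hf : HForm σ ε f) {H : Subgroup (GL ι F)} (hH : H ≤ similarityGroup f)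
    (h : ¬ Irr H) :
    (∃ W, W ≠ ⊥ ∧ IsTotallySingularFor f W ∧ H ≤ subspaceStabilizer W) ∨
    ∃ W, W ≠ ⊥ ∧ IsNondegenerateOn f W ∧ 2 * Module.finrank F W ≤ Fintype.card ι ∧
      H ≤ subspaceStabilizer W := by
  obtain ⟨W, h1, h2, h3⟩ := exists_stab_of_not_irr h
  have h4 := hf.le_stab_perp hH h3
  by_cases h5 : W ⊓ hf.perp W = ⊥
  · right
    have h6 := hf.nondegOn_iff.mpr h5
    obtain ⟨h7, h8⟩ := hf.finrank_perp h6
    by_cases h9 : 2 * Module.finrank F W ≤ Fintype.card ι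
    · exact ⟨W, h1, h6, h9, h3⟩
    · exact ⟨_, fun h0 => h2 (by rw [← h8, h0, sup_bot_eq]), hf.nondegOn_perp h6, by omega, h4⟩
  · refine Or.inl ⟨_, h5, fun u hu v hv => hu.2 v hv.1, le_subspaceStabilizer fun g hg v hv => ⟨?_, ?_⟩⟩
    · exact (mem_subspaceStabilizer.mp (h3 hg) v).mp hv.1
    · exact (mem_subspaceStabilizer.mp (h4 hg) v).mp hv.2

lemma map_eq_of_mem_stab {W : Submodule F (ι → F)} {g : GL ι F} (hg : g ∈ subspaceStabilizer W) :
    W.map (Matrix.toLin' (g : Matrix ι ι F)) = W :=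
  Submodule.eq_of_le_of_finrank_le (by
    rintro _ ⟨v, hv, rfl⟩; exact (mem_subspaceStabilizer.mp hg v).mp hv) (finrank_map_gl g W).ge

lemma HForm.pair_decomp (hf : HForm σ ε f) {W : Submodule F (ι → F)} (h0 : W ≠ ⊥)
    (h : IsNondegenerateOn f W) (hd : 2 * Module.finrank F W = Fintype.card ι) :
    IsNondegenerateMDecomposition f (Module.finrank F W) ![W, hf.perp W] ∧
      similarityGroup f ⊓ subspaceStabilizer W ≤ decompositionStabilizer ![W, hf.perp W] := by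
  obtain ⟨h1, h2⟩ := hf.finrank_perp h
  have h3 := hf.nondegOn_iff.mp h
  refine ⟨⟨⟨le_rfl, Submodule.one_le_finrank_iff.mpr h0, fun i => ?_, ?_, ?_⟩, fun i => ?_,
    fun i j hij => ?_⟩, fun g hg => ⟨1, fun i => ?_⟩⟩
  · fin_cases i
    · rfl
    · change Module.finrank F (hf.perp W) = _; omega
  · rw [iSupIndep_pair (i := 0) (j := 1) (by decide) (by decide)]; exact disjoint_iff.mpr h3
  · rw [← h2, eq_comm]; simp [iSup, Matrix.range_cons, Matrix.range_empty, sup_comm]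
  · fin_cases i
    · exact h
    · exact hf.nondegOn_perp h
  · fin_cases i <;> fin_cases j
    · exact absurd rfl hij
    · exact fun u hu v hv => hf.eq_zero_comm (hv u hu)
    · exact fun u hu v hv => hu v hv
    · exact absurd rfl hij
  · fin_cases i
    · exact map_eq_of_mem_stab hg.2
    · exact map_eq_of_mem_stab (hf.le_stab_perp inf_le_left inf_le_right hg)

lemma HForm.nondegOn_rng (hf : HForm σ ε f) {e : Matrix ι ι F} (he : e * e = e)
    (ha : adj σ f e = e) : IsNondegenerateOn f (rng e) := by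
  rw [hf.nondegOn_iff, Submodule.eq_bot_iff]
  rintro w ⟨h1, h2⟩
  refine hf.nondeg' w fun x => ?_
  rw [← (mem_rng_idem he).mp h1, hf.adj_spec, ha]
  exact h2 _ (mulVec_mem_rng _ _)

lemma HForm.orth_rng (hf : HForm σ ε f) {e e' : Matrix ι ι F} (h : adj σ f e' * e = 0) :
    AreOrthogonalFor f (rng e) (rng e') := by
  intro u hu v hv
  obtain ⟨u, rfl⟩ := mem_rng.mp hu
  obtain ⟨v, rfl⟩ := mem_rng.mp hv
  rw [hf.adj_spec', Matrix.mulVec_mulVec, h, Matrix.zero_mulVec, hf.zero_left]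

/-- a commutative normalised subalgebra closed under adjoints -/
theorem HForm.comm_cases [Fintype F] [Nonempty ι] (hf : HForm σ ε f) {H : Subgroup (GL ι F)}
    (hH : H ≤ similarityGroup f) (hi : Irr H) (C : Subalgebra F (Matrix ι ι F))
    (hc : ∀ x ∈ C, ∀ y ∈ C, x * y = y * x) (hn : ∀ h ∈ H, ∀ x ∈ C, cj h x ∈ C)
    (ha : ∀ x ∈ C, adj σ f x ∈ C) (hne : C ≠ ⊥) :
    (∃ (t m : ℕ) (D : Fin t → Submodule F (ι → F)), IsNondegenerateMDecomposition f m D ∧
      H ≤ decompositionStabilizer D ∧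
      ∀ i j, ∃ h ∈ H, (D i).map (Matrix.toLin' (h : Matrix ι ι F)) = D j) ∨
    (∃ (m : ℕ) (e : Fin 2 → Matrix ι ι F), e 0 * e 0 = e 0 ∧ e 1 = 1 - e 0 ∧
      adj σ f (e 0) = e 1 ∧ IsMDecomposition m (fun i => rng (e i)) ∧
      (∀ i, IsTotallySingularFor f (rng (e i))) ∧
      H ≤ decompositionStabilizer (fun i => rng (e i)) ∧
      (∀ h ∈ H, cj h (e 0) = e 0 ∨ cj h (e 0) = e 1) ∧ ∃ h ∈ H, cj h (e 0) = e 1) ∨
    ∃ (r : ℕ) (K : Subalgebra F (Matrix ι ι F)), r.Prime ∧ IsFieldSubalgebra r K ∧ K ≤ C ∧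
      (∀ x ∈ K, adj σ f x ∈ K) ∧ H ≤ subalgebraNormalizer K ∧
      (∀ x ∈ C, x ≠ 0 → ∃ y ∈ C, x * y = 1) := by
  have hmul : ∀ e ∈ C, ∀ e' ∈ C, e * e = e → e' * e' = e' → e * e' * (e * e') = e * e' :=
    fun e he e' he' h1 h2 => by
      rw [mul_assoc, ← mul_assoc e', ← hc e he e' he', mul_assoc e, h2, ← mul_assoc, h1]
  by_cases h1 : ∃ e ∈ C, e * e = e ∧ adj σ f e = e ∧ e ≠ 0 ∧ e ≠ 1
  · left
    obtain ⟨e₀, a1, a2, a3, a4, a5⟩ := h1
    obtain ⟨t, m, e, b1, b2, b3, b4, b5⟩ := exists_decomposition_of_idempotents hi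
      {e | e ∈ C ∧ e * e = e ∧ adj σ f e = e} (fun e he => he.2.1)
      (fun e he e' he' => hc e he.1 e' he'.1)
      (fun e he e' he' => ⟨C.mul_mem he.1 he'.1, hmul e he.1 e' he'.1 he.2.1 he'.2.1, by
        rw [hf.adj_mul, he.2.2, he'.2.2, hc e he.1 e' he'.1]⟩)
      (fun h hh e he => ⟨hn h hh e he.1, by rw [← map_mul, he.2.1], by
        rw [hf.adj_cj (hH hh), he.2.2]⟩) ⟨a1, a2, a3⟩ a4 a5
    refine ⟨t, m, _, ⟨b3, fun i => hf.nondegOn_rng (b1 i).2.1 (b1 i).2.2, fun i j hij =>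
      hf.orth_rng (by rw [(b1 j).2.2, b2 j i hij.symm])⟩, b4, fun i j => ?_⟩
    obtain ⟨h, hh, h2⟩ := b5 i j
    exact ⟨h, hh, by rw [map_rng, h2]⟩
  right
  push Not at h1
  by_cases hid : ∀ e ∈ C, e * e = e → e = 0 ∨ e = 1
  · have hinv := exists_inv_of_no_idempotent hi C hc hn hid
    obtain ⟨r, K, a1, a2, a3, a4⟩ := exists_prime_subfield_normalized C hc hinv hn hne
    refine Or.inr ⟨r, K, a1, a2, fun x hx => ((a3 x).mp hx).1, fun x hx => (a3 _).mpr
      ⟨ha x ((a3 x).mp hx).1, by rw [← hf.adj_pow, ((a3 x).mp hx).2]⟩, a4, hinv⟩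
  left
  have key : ∀ e ∈ C, e * e = e → e ≠ 0 → e ≠ 1 → adj σ f e = 1 - e := by
    intro e a1 a2 a3 a4
    have b1 : adj σ f e * adj σ f e = adj σ f e := by rw [← hf.adj_mul, a2]
    have b2 : e * adj σ f e = 0 := by
      by_contra h0
      have := h1 _ (C.mul_mem a1 (ha e a1)) (hmul e a1 _ (ha e a1) a2 b1)
        (by rw [hf.adj_mul, hf.adj_adj]) h0
      apply a4
      rw [← mul_one e, ← this, ← mul_assoc, a2]
    have b3 := h1 _ (C.add_mem a1 (ha e a1)) (by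
      rw [add_mul, mul_add, mul_add, a2, b1, b2, ← hc e a1 _ (ha e a1), b2]; simp)
      (by rw [hf.adj_add, hf.adj_adj, add_comm]) (fun h0 => a3 (by
        simpa [mul_add, a2, b2] using congrArg (e * ·) h0))
    rw [← b3]; simp
  push Not at hid
  obtain ⟨e₀, a1, a2, a3, a4⟩ := hid
  obtain ⟨t, m, e, b1, b2, b3, b4, b5⟩ := exists_decomposition_of_idempotents hi
    {e | e ∈ C ∧ e * e = e} (fun e he => he.2) (fun e he e' he' => hc e he.1 e' he'.1)
    (fun e he e' he' => ⟨C.mul_mem he.1 he'.1, hmul e he.1 e' he'.1 he.2 he'.2⟩)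
    (fun h hh e he => ⟨hn h hh e he.1, by rw [← map_mul, he.2]⟩) ⟨a1, a2⟩ a3 a4
  have c0 : ∀ i, e i ≠ 0 := fun i h0 => by
    have := b3.finrank_eq i
    rw [rng_eq_bot.mpr h0, finrank_bot] at this
    exact b3.pos.ne this
  have c1 : ∀ i j, i ≠ j → e i ≠ 1 := fun i j hij h0 => c0 j (by
    have := b2 i j hij; rwa [h0, one_mul] at this)
  have ht := b3.two_le
  have c2 : ∀ i j, i ≠ j → e i + e j = 1 := fun i j hij => by
    by_contra h0
    have d1 := key _ (C.add_mem (b1 i).1 (b1 j).1) (by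
      rw [add_mul, mul_add, mul_add, (b1 i).2, (b1 j).2, b2 i j hij, b2 j i hij.symm]; simp)
      (fun h0 => c0 i (by
        simpa [mul_add, (b1 i).2, b2 i j hij] using congrArg (e i * ·) h0)) h0
    rw [hf.adj_add, key _ (b1 i).1 (b1 i).2 (c0 i) (c1 i j hij),
      key _ (b1 j).1 (b1 j).2 (c0 j) (c1 j i hij.symm)] at d1
    exact one_ne_zero (α := Matrix ι ι F) (by rw [← sub_eq_zero] at d1; rw [← d1]; abel)
  obtain rfl : t = 2 := by
    by_contra h0
    have := b2 ⟨2, by omega⟩ ⟨0, by omega⟩ (by simp)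
    apply c0 ⟨2, by omega⟩
    rw [← mul_one (e _), ← c2 ⟨0, by omega⟩ ⟨1, by omega⟩ (by simp), mul_add,
      b2 _ _ (by simp), b2 _ _ (by simp), add_zero]
  have c3 : e 1 = 1 - e 0 := by rw [← c2 0 1 (by decide)]; simp
  have c4 : ∀ i j, i ≠ j → adj σ f (e i) = e j := fun i j hij => by
    rw [key _ (b1 i).1 (b1 i).2 (c0 i) (c1 i j hij), ← c2 i j hij]; simp
  refine ⟨m, e, (b1 0).2, c3, c4 0 1 (by decide), b3, fun i => hf.orth_rng ?_, b4,
    fun h hh => ?_, b5 0 1⟩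
  · obtain ⟨j, hj⟩ := exists_ne i
    rw [c4 i j hj.symm, b2 j i hj]
  · obtain ⟨π, hπ⟩ := b4 hh
    have := eq_of_rng_eq (e := cj h (e 0)) (by rw [← map_mul, (b1 0).2]) (b1 (π 0)).2
      (hc _ (hn h hh _ (b1 0).1) _ (b1 _).1) (by rw [← map_rng]; exact hπ 0)
    rw [this]
    generalize π 0 = i
    fin_cases i
    · exact Or.inl rfl
    · exact Or.inr rfl

end perp

end Cfsg.Agent.H18
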