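import Cfsg.Agent.H18.FormA
import Cfsg.Agent.H13.Forms

/-! Field subalgebras, quadratic refinements and subfield structures in the presence of a form. -/

set_option autoImplicit false

namespace Cfsg.Agent.H18

open Cfsg.Geo
open scoped MatrixGroups Matrix Kronecker commutatorElement

variable {ι : Type} [Fintype ι] [DecidableEq ι] {F : Type*} [Field F]

section field
variable {σ : F →+* F} {ε : F} {f : (ι → F) → (ι → F) → F} {r : ℕ}
  {K : Subalgebra F (Matrix ι ι F)}

/-- the adjoint as a ring endomorphism of a commutative subalgebra -/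
noncomputable def adjHom (hf : HForm σ ε f) (hc : ∀ x ∈ K, ∀ y ∈ K, x * y = y * x)
    (ha : ∀ x ∈ K, adj σ f x ∈ K) : K →+* K where
  toFun x := ⟨adj σ f x, ha _ x.2⟩
  map_one' := Subtype.ext hf.adj_one
  map_mul' x y := Subtype.ext ((hf.adj_mul _ _).trans (hc _ (ha _ y.2) _ (ha _ x.2)))
  map_zero' := Subtype.ext hf.adj_zero
  map_add' x y := Subtype.ext (hf.adj_add _ _)

lemma card_fieldSub [Fintype F] (hK : IsFieldSubalgebra r K) :
    Nat.card K = Fintype.card F ^ r := by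
  rw [Module.natCard_eq_pow_finrank (K := F), hK.finrank_eq, Nat.card_eq_fintype_card]

lemma HForm.selfAdj_of_odd [Fintype F] [Nonempty ι] {f : (ι → F) → (ι → F) → F}
    (hf : HForm (RingHom.id F) ε f) (hK : IsFieldSubalgebra r K)
    (ha : ∀ x ∈ K, adj (RingHom.id F) f x ∈ K) (hr : Odd r) :
    ∀ x ∈ K, adj (RingHom.id F) f x = x := by
  let _ : Field K := (isField_of_inv K hK.comm hK.inv).toField
  have hinv : ∀ x, adjHom hf hK.comm ha (adjHom hf hK.comm ha x) = x := fun x =>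
    Subtype.ext (hf.adj_adj _)
  let τ : K ≃ₐ[F] K :=
    { invEquiv _ hinv with
      commutes' := fun c => Subtype.ext (by
        change adj _ f (algebraMap F _ c) = algebraMap F _ c
        rw [Algebra.algebraMap_eq_smul_one, hf.adj_smul, hf.adj_one]; rfl) }
  have h1 : orderOf τ ∣ 2 := orderOf_dvd_of_pow_eq_one (AlgEquiv.ext hinv)
  have h2 : orderOf τ ∣ r := by
    rw [← hK.finrank_eq, ← IsGalois.card_aut_eq_finrank]; exact orderOf_dvd_natCard τ
  have h3 : τ = 1 := orderOf_eq_one_iff.mp (Nat.eq_one_of_dvd_coprimes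
    (Nat.coprime_two_left.mpr hr) h1 h2)
  intro x hx
  exact congrArg Subtype.val (AlgEquiv.congr_fun h3 ⟨x, hx⟩)

lemma HForm.odd_of_ne_id [Fintype F] [Nonempty ι] (hf : HForm σ ε f) (hσ : σ ≠ RingHom.id F)
    (hK : IsFieldSubalgebra r K) (ha : ∀ x ∈ K, adj σ f x ∈ K) (hr : r.Prime) : Odd r := by
  refine hr.odd_of_ne_two ?_
  rintro rfl
  let _ : Field K := (isField_of_inv K hK.comm hK.inv).toField
  have h0 : ∀ c : F, adjHom hf hK.comm ha (algebraMap F K c) = algebraMap F K (σ c) := fun c =>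
    Subtype.ext (by
      change adj _ f (algebraMap F _ c) = algebraMap F _ (σ c)
      rw [Algebra.algebraMap_eq_smul_one, hf.adj_smul, hf.adj_one, Algebra.algebraMap_eq_smul_one])
  obtain ⟨h1, h2⟩ := exists_pow_of_invol (adjHom hf hK.comm ha) (fun x => Subtype.ext (hf.adj_adj _))
    (fun h => hσ (RingHom.ext fun c => (algebraMap F K).injective (by rw [← h0, h]; rfl)))
  rw [card_fieldSub hK] at h1
  rw [← Nat.pow_left_injective two_ne_zero h1] at h2
  refine hσ (RingHom.ext fun c => (algebraMap F K).injective ?_)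
  rw [← h0, h2, ← map_pow, FiniteField.pow_card]; rfl

lemma HForm.alt_of_selfAdj [Fintype F] [Nonempty ι] {f : (ι → F) → (ι → F) → F}
    (hf : HForm (RingHom.id F) ε f) (halt : ∀ v, f v v = 0) (hK : IsFieldSubalgebra r K)
    (ha : ∀ x ∈ K, adj (RingHom.id F) f x ∈ K) {l : Matrix ι ι F} (hl : l ∈ K)
    (hl' : adj (RingHom.id F) f l = l) (v : ι → F) : f (l *ᵥ v) v = 0 := by
  by_cases h2 : (2 : F) = 0
  · let _ : Field K := (isField_of_inv K hK.comm hK.inv).toField
    have h2K : (2 : K) = 0 := by rw [← map_ofNat (algebraMap F K) 2, h2, map_zero]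
    obtain ⟨y, hy⟩ := H13.exists_sq_eq_of_two_eq_zero h2K (⟨l, hl⟩ : K)
    have h3 : adjHom hf hK.comm ha y = y := by
      have h4 : adjHom hf hK.comm ha y ^ 2 = y ^ 2 := by
        rw [← map_pow, hy]; exact Subtype.ext hl'
      have h5 : (adjHom hf hK.comm ha y - y) ^ 2 = 0 := by
        linear_combination h4 + (y ^ 2 - adjHom hf hK.comm ha y * y) * h2K
      exact sub_eq_zero.mp (pow_eq_zero_iff two_ne_zero |>.mp h5)
    have h6 : l = y * y := by rw [← sq]; exact (congrArg Subtype.val hy).symm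
    rw [h6, ← Matrix.mulVec_mulVec, hf.adj_spec, show adj _ f y = y from congrArg Subtype.val h3,
      halt]
  · have h3 := skew_of_alt hf.toSesq halt (l *ᵥ v) v
    rw [hf.adj_spec', hl'] at h3
    exact (mul_eq_zero.mp (by linear_combination h3 : 2 * f (l *ᵥ v) v = 0)).resolve_left h2

/-- an element commuting with a field of full degree lies in the field -/
lemma mem_of_commute_field [Nonempty ι] (hK : IsFieldSubalgebra (Fintype.card ι) K)
    {x : Matrix ι ι F} (hx : ∀ k ∈ K, x * k = k * x) : x ∈ K := by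
  obtain ⟨i⟩ := ‹Nonempty ι›
  set v : ι → F := Pi.single i 1
  have hv : v ≠ 0 := fun h0 => by simpa [v] using congrFun h0 i
  let L : K →ₗ[F] (ι → F) :=
    { toFun := fun k => (k : Matrix ι ι F) *ᵥ v
      map_add' := fun a b => Matrix.add_mulVec _ _ _
      map_smul' := fun c a => Matrix.smul_mulVec _ _ _ }
  have h1 : Function.Injective L := (injective_iff_map_eq_zero L).mpr fun k hk => by
    by_contra h0
    obtain ⟨y, hy, h2⟩ := hK.inv k k.2 fun h => h0 (Subtype.ext h)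
    apply hv
    rw [← Matrix.one_mulVec v, ← h2, hK.comm _ k.2 _ hy, ← Matrix.mulVec_mulVec,
      show (k : Matrix ι ι F) *ᵥ v = 0 from hk, Matrix.mulVec_zero]
  have h2 : Function.Surjective L := (LinearMap.injective_iff_surjective_of_finrank_eq_finrank (by
    rw [hK.finrank_eq, Module.finrank_fintype_fun_eq_card])).mp h1
  obtain ⟨k, hk⟩ := h2 (x *ᵥ v)
  have : x = k := by
    rw [Matrix.ext_iff_mulVec]
    intro w
    obtain ⟨l, rfl⟩ := h2 w
    change x *ᵥ (l : Matrix ι ι F) *ᵥ v = (k : Matrix ι ι F) *ᵥ (l : Matrix ι ι F) *ᵥ v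
    rw [Matrix.mulVec_mulVec, hx _ l.2, ← Matrix.mulVec_mulVec, ← hk, Matrix.mulVec_mulVec,
      hK.comm _ k.2 _ l.2]
    exact Matrix.mulVec_mulVec _ _ _
  rw [this]; exact k.2

lemma scalar_of_sq_of_odd [Fintype F] [Nonempty ι] (hK : IsFieldSubalgebra r K) (hr : Odd r)
    {x : Matrix ι ι F} (hx : x ∈ K) {c : F} (h : x * x = c • 1) : ∃ d : F, x = d • 1 := by
  let _ : Field K := (isField_of_inv K hK.comm hK.inv).toField
  have : Fintype K := Fintype.ofFinite K
  set y : K := ⟨x, hx⟩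
  set q := Fintype.card F
  have h1 : y ^ 2 = algebraMap F K c := Subtype.ext (by
    rw [Subalgebra.coe_pow, sq, h, Subalgebra.coe_algebraMap, Algebra.algebraMap_eq_smul_one])
  have h2 : (y ^ q) ^ 2 = y ^ 2 := by
    rw [← pow_mul, mul_comm, pow_mul, h1, ← map_pow, FiniteField.pow_card]
  have h3 : y ^ (q ^ 2) = y := by
    rcases sq_eq_sq_iff_eq_or_eq_neg.mp h2 with h4 | h4
    · rw [sq, pow_mul, h4, h4]
    · have := map_neg (FiniteField.frobeniusAlgHom F K) y
      rw [FiniteField.coe_frobeniusAlgHom] at this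
      rw [sq, pow_mul, h4, show (-y) ^ q = -y ^ q from this, h4, neg_neg]
  have h4 : ∀ j, y ^ (q ^ (2 * j)) = y := fun j => by
    induction j with
    | zero => simp
    | succ j ih => rw [mul_add, pow_add, pow_mul y, ih, h3]
  obtain ⟨j, rfl⟩ := hr
  have h5 := FiniteField.pow_card y
  rw [← Nat.card_eq_fintype_card, card_fieldSub hK, pow_succ, pow_mul, h4] at h5
  obtain ⟨d, hd⟩ := (mem_range_iff_pow (algebraMap F K) y).mpr (by
    rw [Nat.card_eq_fintype_card]; exact h5)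
  exact ⟨d, by rw [← Algebra.algebraMap_eq_smul_one]; exact (congrArg Subtype.val hd).symm⟩

end field

section quad
variable {f : (ι → F) → (ι → F) → F} {Q : (ι → F) → F}

lemma mem_isometryGroup' {g : GL ι F} :
    g ∈ isometryGroup F Q ↔ ∀ v, Q ((g : Matrix ι ι F) *ᵥ v) = Q v :=
  ⟨fun h v => h v v, fun h u _ => h u⟩

lemma isometryGroup_le_isoG : isometryGroup F Q ≤ isoG (QuadraticMap.polar Q) := fun g hg u v => by
  rw [mem_isometryGroup'] at hg
  change QuadraticMap.polar Q ((g : Matrix ι ι F) *ᵥ u) ((g : Matrix ι ι F) *ᵥ v) = _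
  simp only [QuadraticMap.polar, ← Matrix.mulVec_add, hg]

lemma isometryGroup_le_quadSim : isometryGroup F Q ≤ quadSimilarityGroup Q :=
  fun _ hg => ⟨1, fun v => by rw [mem_isometryGroup'.mp hg]; simp⟩

lemma isoG_le_isometryGroup (hQ : IsNondegenerateQuadraticForm Q) (h2 : (2 : F) ≠ 0) :
    isoG (QuadraticMap.polar Q) ≤ isometryGroup F Q := fun g hg => mem_isometryGroup'.mpr fun v =>
  mul_left_cancel₀ h2 (by rw [← polar_self_of_quad hQ, ← polar_self_of_quad hQ, mem_isoG.mp hg])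

lemma HForm.quad_of_half (hf : HForm (RingHom.id F) 1 f) {k : Matrix ι ι F}
    (hk : k + adj (RingHom.id F) f k = 1) :
    IsNondegenerateQuadraticForm (fun v => f (k *ᵥ v) v) ∧
      QuadraticMap.polar (fun v => f (k *ᵥ v) v) = f := by
  have h1 : QuadraticMap.polar (fun v => f (k *ᵥ v) v) = f := by
    funext u v
    have h2 : f u v = f (k *ᵥ u) v + f (k *ᵥ v) u := by
      rw [hf.adj_spec k v, hf.symm v, ← hf.add_left, ← Matrix.add_mulVec, hk, Matrix.one_mulVec]
    simp only [QuadraticMap.polar, Matrix.mulVec_add, hf.add_left, hf.add_right]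
    rw [h2]; ring
  refine ⟨⟨fun c v => ?_, h1.symm ▸ hf.toSesq.bilinear, h1.symm ▸ hf.isNondegenerateForm⟩, h1⟩
  simp only [Matrix.mulVec_smul, hf.smul_left, hf.smul_right, RingHom.id_apply]; ring

/-- the vectors on which two quadratic forms with proportional polar forms are proportional -/
def quadEq {Q Q' : (ι → F) → F} (hQ : IsNondegenerateQuadraticForm Q)
    (hQ' : IsNondegenerateQuadraticForm Q') (c : F)
    (h : ∀ u v, QuadraticMap.polar Q' u v = c * QuadraticMap.polar Q u v) : Submodule F (ι → F) where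
  carrier := {v | Q' v = c * Q v}
  add_mem' {a b} ha hb := by
    change Q' _ = _
    rw [quad_add (Q := Q'), quad_add (Q := Q), h, ha, hb]; ring
  zero_mem' := by change Q' _ = _; rw [quad_zero hQ, quad_zero hQ', mul_zero]
  smul_mem' d v hv := by change Q' _ = _; rw [hQ.smul, hQ'.smul, hv]; ring

omit [DecidableEq ι] in
lemma quadEq_ne_bot [Finite F] {Q Q' : (ι → F) → F} (hQ : IsNondegenerateQuadraticForm Q)
    (hQ' : IsNondegenerateQuadraticForm Q') (c : F)
    (h : ∀ u v, QuadraticMap.polar Q' u v = c * QuadraticMap.polar Q u v)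
    (hn : 2 ≤ Fintype.card ι) : quadEq hQ hQ' c h ≠ ⊥ := by
  classical
  obtain ⟨i, j, hij⟩ := Fintype.exists_pair_of_one_lt_card (α := ι) hn
  intro h0
  rw [Submodule.eq_bot_iff] at h0
  set u : ι → F := Pi.single i 1
  set v : ι → F := Pi.single j 1
  have h1 : Q' u - c * Q u ≠ 0 := fun h1 => by
    simpa [u] using congrFun (h0 u (sub_eq_zero.mp h1)) i
  by_cases h2 : (2 : F) = 0
  · obtain ⟨d, hd⟩ := H13.exists_sq_eq_of_two_eq_zero h2 ((Q' v - c * Q v) / (Q' u - c * Q u))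
    have := h0 (d • u + v) (by
      change Q' _ = _
      rw [quad_add (Q := Q'), quad_add (Q := Q), h, hQ.smul, hQ'.smul]
      rw [eq_div_iff h1] at hd
      linear_combination hd + (Q' v - c * Q v) * h2)
    simpa [u, v, hij, hij.symm] using congrFun this j
  · apply h1
    have := h u u
    rw [polar_self_of_quad hQ, polar_self_of_quad hQ'] at this
    exact mul_left_cancel₀ h2 (by linear_combination this)

lemma quad_comp (hQ : IsNondegenerateQuadraticForm Q) (g : GL ι F) :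
    IsNondegenerateQuadraticForm (fun v => Q ((g : Matrix ι ι F) *ᵥ v)) ∧ ∀ u v,
      QuadraticMap.polar (fun v => Q ((g : Matrix ι ι F) *ᵥ v)) u v =
        QuadraticMap.polar Q ((g : Matrix ι ι F) *ᵥ u) ((g : Matrix ι ι F) *ᵥ v) := by
  have h1 : QuadraticMap.polar (fun v => Q ((g : Matrix ι ι F) *ᵥ v)) =
      H18.trF (QuadraticMap.polar Q) (Equiv.refl ι) g := by
    funext u v; simp [QuadraticMap.polar, Matrix.mulVec_add, H18.trF]
  have h2 := (hform_of_quad hQ).trF (Equiv.refl ι) g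
  exact ⟨⟨fun c v => by simp only [Matrix.mulVec_smul, hQ.smul], h1.symm ▸ h2.toSesq.bilinear,
    h1.symm ▸ h2.isNondegenerateForm⟩, fun u v => by rw [h1]; rfl⟩

lemma mem_isometryGroup_of_span (hQ : IsNondegenerateQuadraticForm Q) {g : GL ι F}
    (hg : g ∈ isoG (QuadraticMap.polar Q)) {S : Set (ι → F)} (hS : Submodule.span F S = ⊤)
    (h : ∀ s ∈ S, Q ((g : Matrix ι ι F) *ᵥ s) = Q s) : g ∈ isometryGroup F Q := by
  obtain ⟨h1, h2⟩ := quad_comp hQ g
  have : Submodule.span F S ≤ quadEq hQ h1 1 fun u v => by rw [h2, mem_isoG.mp hg, one_mul] :=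
    Submodule.span_le.mpr fun s hs => (h s hs).trans (one_mul _).symm
  exact mem_isometryGroup'.mpr fun v => (this (hS.ge Submodule.mem_top)).trans (one_mul _)

lemma quad_eq_of_irr [Finite F] (hn : 2 ≤ Fintype.card ι) {Q Q' : (ι → F) → F}
    (hQ : IsNondegenerateQuadraticForm Q) (hQ' : IsNondegenerateQuadraticForm Q') {c : F}
    (h : ∀ u v, QuadraticMap.polar Q' u v = c * QuadraticMap.polar Q u v)
    {N : Subgroup (GL ι F)} (hN : Irr N) (h1 : N ≤ isometryGroup F Q)
    (h2 : N ≤ isometryGroup F Q') (v : ι → F) : Q' v = c * Q v := by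
  have := (hN (quadEq hQ hQ' c h) fun x hx v hv => by
    change Q' _ = _
    rw [mem_isometryGroup'.mp (h1 hx), mem_isometryGroup'.mp (h2 hx)]; exact hv).resolve_left
    (quadEq_ne_bot hQ hQ' c h hn)
  exact this.ge (Submodule.mem_top : v ∈ ⊤)

lemma mem_isometryGroup_of_normalizes [Finite F] (hn : 2 ≤ Fintype.card ι)
    (hQ : IsNondegenerateQuadraticForm Q) {N : Subgroup (GL ι F)} (hN : Irr N)
    (h1 : N ≤ isometryGroup F Q) {g : GL ι F} (hg : g ∈ isoG (QuadraticMap.polar Q))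
    (hgN : ∀ x ∈ N, g * x * g⁻¹ ∈ N) : g ∈ isometryGroup F Q := by
  obtain ⟨h2, h3⟩ := quad_comp hQ g
  refine mem_isometryGroup'.mpr fun v => (quad_eq_of_irr hn hQ h2 (c := 1) (fun u v => by
    rw [h3, mem_isoG.mp hg, one_mul]) hN h1 (fun x hx => mem_isometryGroup'.mpr fun v => ?_) v).trans
    (one_mul _)
  rw [← mem_isometryGroup'.mp (h1 (hgN x hx)) ((g : Matrix ι ι F) *ᵥ v), ← cj_coe, cj_mulVec]

/-- contained in the isometry group of a quadratic form polarising to `f` -/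
def InO (f : (ι → F) → (ι → F) → F) (H : Subgroup (GL ι F)) : Prop :=
  ∃ Q : (ι → F) → F, IsNondegenerateQuadraticForm Q ∧ QuadraticMap.polar Q = f ∧
    H ≤ isometryGroup F Q

lemma HForm.inO_of_half (hf : HForm (RingHom.id F) 1 f) {k : Matrix ι ι F}
    (hk : k + adj (RingHom.id F) f k = 1) {H : Subgroup (GL ι F)} (hH : H ≤ isoG f)
    (h : ∀ g ∈ H, ∀ v, f ((cj g k - k) *ᵥ v) v = 0) : InO f H := by
  refine ⟨_, (hf.quad_of_half hk).1, (hf.quad_of_half hk).2, fun g hg =>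
    mem_isometryGroup'.mpr fun v => ?_⟩
  have := h g hg ((g : Matrix ι ι F) *ᵥ v)
  rw [Matrix.sub_mulVec, hf.sub_left, cj_mulVec, mem_isoG.mp (hH hg), sub_eq_zero] at this
  exact this.symm

end quad

section subfield
variable {σ : F →+* F} {ε : F} {f : (ι → F) → (ι → F) → F}

lemma map_mem_subfield [Finite F] (σ : F →+* F) {F₀ : Subfield F} {x : F} (hx : x ∈ F₀) :
    σ x ∈ F₀ := by
  rw [mem_subfield_iff_pow] at hx ⊢
  rw [← map_pow, hx]

/-- the Gram matrix with respect to the columns of `P` -/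
def grm (f : (ι → F) → (ι → F) → F) (P : GL ι F) : Matrix ι ι F :=
  gramMatrix (H18.trF f (Equiv.refl ι) P)

lemma HForm.eq_grm (hf : HForm σ ε f) (P : GL ι F) (u v : ι → F) :
    f ((P : Matrix ι ι F) *ᵥ u) ((P : Matrix ι ι F) *ᵥ v) = frm σ (grm f P) u v :=
  congrFun (congrFun (hf.trF (Equiv.refl ι) P).eq_frm u) v

lemma HForm.hform_grm (hf : HForm σ ε f) (P : GL ι F) : HForm σ ε (frm σ (grm f P)) :=
  (hf.trF (Equiv.refl ι) P).eq_frm ▸ hf.trF (Equiv.refl ι) P

lemma HForm.grm_inv (hf : HForm σ ε f) (P : GL ι F) {g : GL ι F} (hg : g ∈ isoG f) :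
    (cj P⁻¹ (g : Matrix ι ι F))ᵀ * grm f P * (cj P⁻¹ (g : Matrix ι ι F)).map σ = grm f P := by
  refine frm_inj (σ := σ) fun u v => ?_
  rw [← frm_mulVec_mulVec, ← hf.eq_grm, ← hf.eq_grm, ← cj_mulVec, ← cj_mulVec, cj_cj_inv,
    mem_isoG.mp hg]

lemma HForm.rational_iff [Finite F] (hf : HForm σ ε f) {F₀ : Subfield F} {ζ : F} {P : GL ι F} :
    IsFormRationalStructure f F₀ ζ P ↔ ∀ i j, ζ * grm f P i j ∈ F₀ := by
  constructor
  · intro h i j
    exact h _ _ (fun k => by by_cases hk : k = i <;> simp [hk])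
      (fun k => by by_cases hk : k = j <;> simp [hk])
  · intro h u v hu hv
    rw [hf.eq_grm, frm_eq_sum, Finset.mul_sum]
    refine sum_mem fun a _ => ?_
    rw [Finset.mul_sum]
    refine sum_mem fun b _ => ?_
    rw [show ζ * (u a * grm f P a b * σ (v b)) = u a * (ζ * grm f P a b) * σ (v b) by ring]
    exact mul_mem (mul_mem (hu a) (h a b)) (map_mem_subfield σ (hv b))

lemma HForm.grm_ne_zero [Nonempty ι] (hf : HForm σ ε f) (P : GL ι F) : grm f P ≠ 0 := fun h => by
  have := (hf.trF (Equiv.refl ι) P).isUnit_det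
  rw [← grm, h, Matrix.det_zero] at this
  exact not_isUnit_zero this

lemma trB_refl (f : (ι → F) → (ι → F) → F) (P : GL ι F) (u v : ι → F) :
    trB f (Equiv.refl ι) P ((P : Matrix ι ι F) *ᵥ u) ((P : Matrix ι ι F) *ᵥ v) = f u v :=
  congrFun (congrFun (trF_trB f (Equiv.refl ι) P) u) v

theorem HForm.exists_map_grm [Finite F] (hf : HForm σ ε f) {N : Subgroup (GL ι F)}
    (hN : spanAlg F N = ⊤) (hiso : N ≤ isoG f) {F₀ : Subfield F} {P : GL ι F}
    (hP : ∀ x ∈ N, ∀ i j, (cj P⁻¹ (x : Matrix ι ι F)) i j ∈ F₀) :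
    ∃ c : F, (grm f P).map (frobOf F₀) = c • grm f P := by
  obtain ⟨c, hc⟩ := hf.exists_eq_smul
    (f' := fun u v => frm σ ((grm f P).map (frobOf F₀)) (((P⁻¹ : GL ι F) : Matrix ι ι F) *ᵥ u)
      (((P⁻¹ : GL ι F) : Matrix ι ι F) *ᵥ v)) ((sesq_frm _ _).comp_mulVec _ _) hN fun x hx =>
    ⟨1, fun u v => by rw [mem_isoG.mp (hiso hx), one_mul], fun u v => by
      have h1 := congrArg (·.map (frobOf F₀)) (hf.grm_inv P (hiso hx))
      have h2 : (cj P⁻¹ (x : Matrix ι ι F)).map (frobOf F₀) = cj P⁻¹ (x : Matrix ι ι F) := by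
        ext i j; exact (frobOf_eq_iff _ _).2 (hP x hx i j)
      have h3 : ((cj P⁻¹ (x : Matrix ι ι F)).map σ).map (frobOf F₀) =
          (cj P⁻¹ (x : Matrix ι ι F)).map σ := by
        ext i j; exact (frobOf_eq_iff _ _).2 (map_mem_subfield σ (hP x hx i j))
      simp only [Matrix.map_mul, Matrix.transpose_map, h2, h3] at h1
      rw [← cj_mulVec, ← cj_mulVec, frm_mulVec_mulVec, h1, one_mul]⟩
  refine ⟨c, frm_inj (σ := σ) fun u v => ?_⟩
  have := hc ((P : Matrix ι ι F) *ᵥ u) ((P : Matrix ι ι F) *ᵥ v)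
  rwa [inv_mulVec_mulVec, inv_mulVec_mulVec, hf.eq_grm, ← frm_smul] at this

/-- contained in a subfield subgroup carrying a multiple of the form -/
def FC5 [Fintype F] (f : (ι → F) → (ι → F) → F) (H : Subgroup (GL ι F)) : Prop :=
  ∃ (F₀ : Subfield F) (r : ℕ) (P : GL ι F) (ζ : F), r.Prime ∧ Fintype.card F = Nat.card F₀ ^ r ∧
    ζ ≠ 0 ∧ IsFormRationalStructure f F₀ ζ P ∧ H ≤ subfieldSubgroup F₀ P

theorem HForm.fc5_of_realisable [Fintype F] [Nonempty ι] (hf : HForm σ ε f)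
    {H N : Subgroup (GL ι F)} (hN : spanAlg F N = ⊤) (hiso : N ≤ isoG f)
    (hn : ∀ h ∈ H, ∀ x ∈ N, h * x * h⁻¹ ∈ N) {F₀ : Subfield F} (h0 : F₀ ≠ ⊤)
    (hR : RealisableOver F₀ (matrixSet N)) : FC5 f H := by
  obtain ⟨F₁, r, P, -, hr, hc, hP⟩ := exists_prime_subfield_of_realisable h0 hR
  obtain ⟨c, h1⟩ := hf.exists_map_grm hN hiso hP
  obtain ⟨ζ, h2, h3⟩ := exists_smul_mem_of_map_eq F₁ _ (fun x => (frobOf_eq_iff _ _).1)
    (hf.grm_ne_zero P) h1
  exact ⟨F₁, r, P, ζ, hr, hc, h2, hf.rational_iff.mpr h3,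
    fun g hg => mem_subfieldSubgroup_of_normalizes hN hP (hn g hg)⟩

lemma cj_sc (c : Fˣ) (X : Matrix ι ι F) : cj (sc ι c) X = X := by
  rw [cj_eq_iff, sc_coe, Matrix.smul_mul, Matrix.mul_smul, one_mul, mul_one]

lemma subfieldSubgroup_mul_sc (F₀ : Subfield F) (P : GL ι F) (c : Fˣ) :
    subfieldSubgroup F₀ (P * sc ι c) = subfieldSubgroup F₀ P := by
  ext g
  simp only [mem_subfieldSubgroup_iff, mul_inv_rev, cj_mul, ← map_inv, cj_sc]

lemma subfieldSubgroup_mono {F₀ F₁ : Subfield F} (h : F₀ ≤ F₁) (P : GL ι F) :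
    subfieldSubgroup F₀ P ≤ subfieldSubgroup F₁ P := fun _ hg => by
  obtain ⟨ζ, h1, h2⟩ := mem_subfieldSubgroup_iff.mp hg
  exact mem_subfieldSubgroup_iff.mpr ⟨ζ, h1, fun i j => h (h2 i j)⟩

lemma HForm.grm_mul_sc (hf : HForm σ ε f) (P : GL ι F) (c : Fˣ) :
    grm f (P * sc ι c) = (σ c * c) • grm f P := by
  refine frm_inj (σ := σ) fun u v => ?_
  rw [frm_smul, ← hf.eq_grm, ← hf.eq_grm, ← sc_comm, sc_mul_coe, Matrix.smul_mulVec,
    Matrix.smul_mulVec, hf.smul_left, hf.smul_right]; ring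

/-- the three unitary subfield types -/
def UC5 [Fintype F] (q : ℕ) (f : (ι → F) → (ι → F) → F) (H : Subgroup (GL ι F)) : Prop :=
  (∃ (F₀ : Subfield F) (r : ℕ) (P : GL ι F), r.Prime ∧ Odd r ∧ Fintype.card F = Nat.card F₀ ^ r ∧
    IsFormRationalStructure f F₀ 1 P ∧ H ≤ subfieldSubgroup F₀ P) ∨
  (∃ (F₀ : Subfield F) (P : GL ι F), Odd q ∧ Fintype.card F = Nat.card F₀ ^ 2 ∧
    IsFormRationalStructure f F₀ 1 P ∧ H ≤ subfieldSubgroup F₀ P) ∨
  ∃ (F₀ : Subfield F) (P : GL ι F) (ζ : F), Even (Fintype.card ι) ∧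
    Fintype.card F = Nat.card F₀ ^ 2 ∧ ζ ≠ 0 ∧ ζ + ζ ^ q = 0 ∧ IsFormRationalStructure f F₀ ζ P ∧
    (∀ u : ι → F, (∀ i, u i ∈ F₀) →
      f ((P : Matrix ι ι F) *ᵥ u) ((P : Matrix ι ι F) *ᵥ u) = 0) ∧ H ≤ subfieldSubgroup F₀ P

theorem FC5.unitary [Fintype F] {q : ℕ} (hf : HForm σ 1 f) (hq : ∀ x, σ x = x ^ q)
    (hσ : σ ≠ RingHom.id F) (hF : Fintype.card F = q ^ 2) (hn : 2 ≤ Fintype.card ι)
    {H : Subgroup (GL ι F)} (hi : Irr H) (hH : H ≤ isoG f) (h : FC5 f H) : UC5 q f H := by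
  have : Nonempty ι := Fintype.card_pos_iff.mp (by omega)
  have hherm : ∀ (P : GL ι F) i j, σ (grm f P j i) = grm f P i j := fun P i j => by
    have := congrFun (congrFun (hf.trF (Equiv.refl ι) P).gram_herm i) j
    simpa [grm] using this.symm
  have halt : ∀ (F₀ : Subfield F) (P : GL ι F) (ζ : F), Fintype.card F = Nat.card F₀ ^ 2 → ζ ≠ 0 →
      ζ + ζ ^ q = 0 → (∀ i j, ζ * grm f P i j ∈ F₀) → H ≤ subfieldSubgroup F₀ P → UC5 q f H := by
    intro F₀ P ζ h1 h2 h3 h4 h5
    have hfix : ∀ x ∈ F₀, σ x = x := fun x hx => by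
      rw [hq, Nat.pow_left_injective two_ne_zero (hF.symm.trans h1)]
      exact (mem_subfield_iff_pow _ _).mp hx
    have hB : HForm (RingHom.id F) (-1) (frm (RingHom.id F) (ζ • grm f P)) := by
      refine hform_frm (fun _ => rfl) (by simp) ?_ ?_
      · rw [Matrix.det_smul]
        exact (pow_ne_zero _ h2).isUnit.mul (hf.trF (Equiv.refl ι) P).isUnit_det
      · ext i j
        have := hfix _ (h4 j i)
        rw [map_mul, hherm, hq] at this
        simp only [Matrix.smul_apply, smul_eq_mul, Matrix.transpose_apply, Matrix.map_apply,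
          RingHom.id_apply]
        linear_combination grm f P i j * h3 - this
    have hA : ∀ v, frm (RingHom.id F) (ζ • grm f P) v v = 0 := by
      by_cases h6 : (2 : F) = 0
      · have hB' : HForm (RingHom.id F) 1 (frm (RingHom.id F) (ζ • grm f P)) := by
          rwa [show (-1 : F) = 1 by linear_combination -h6] at hB
        intro v
        rw [← trB_refl (frm _ _) P]
        refine (hB'.trB (Equiv.refl ι) P).alt_of_irr h6 hn hi (fun g hg => ?_) _
        obtain ⟨z, hz, h7⟩ := mem_subfieldSubgroup_iff.mp (h5 hg)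
        have h8 : (cj P⁻¹ (g : Matrix ι ι F)).map (RingHom.id F) =
            (σ z / z) • (cj P⁻¹ (g : Matrix ι ι F)).map σ := by
          ext i j
          have := hfix _ (h7 i j)
          simp only [Matrix.map_apply, Matrix.smul_apply, smul_eq_mul, RingHom.id_apply]
          rw [map_mul] at this
          field_simp
          linear_combination -this
        refine mem_similarityGroup_of_gram (s := cj P⁻¹ (g : Matrix ι ι F)) (cj_cj_inv P _).symm
          (c := σ z / z) (div_ne_zero ((map_ne_zero σ).mpr hz) hz) ?_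
        rw [h8, Matrix.mul_smul, Matrix.mul_smul, Matrix.smul_mul, hf.grm_inv P (hH hg)]
      · exact hB.alt_of_two_ne_zero h6
    refine Or.inr (Or.inr ⟨F₀, P, ζ, even_card_of_symplectic (hB.symplectic hA), h1, h2, h3,
      hf.rational_iff.mpr h4, fun u hu => ?_, h5⟩)
    have h6 := hA u
    rw [frm_smul] at h6
    rw [hf.eq_grm, ← (mul_eq_zero.mp h6).resolve_left h2, frm_eq_sum, frm_eq_sum]
    simp only [hfix _ (hu _), RingHom.id_apply]
  obtain ⟨F₀, r, P, ζ, hr, hc, hζ, h1, h2⟩ := h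
  rw [hf.rational_iff] at h1
  have hfixed : ∀ c ∈ F₀, c ≠ 0 → σ (c * ζ) = c * ζ → UC5 q f H := by
    intro c hc0 hc1 hc2
    obtain ⟨l, hl⟩ := H13.exists_conj_mul_eq hσ hf.invol hc2
    have hl0 : l ≠ 0 := by rintro rfl; exact mul_ne_zero hc1 hζ (by simpa using hl.symm)
    have h3 : ∀ i j, 1 * grm f (P * sc ι (Units.mk0 l hl0)) i j ∈ F₀ := fun i j => by
      rw [hf.grm_mul_sc, Units.val_mk0, hl, one_mul, Matrix.smul_apply, smul_eq_mul, mul_assoc]
      exact mul_mem hc0 (h1 i j)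
    rw [← subfieldSubgroup_mul_sc F₀ P (Units.mk0 l hl0)] at h2
    rcases hr.eq_two_or_odd' with rfl | h4
    · by_cases h5 : (2 : F) = 0
      · exact halt F₀ _ 1 hc one_ne_zero (by rw [one_pow]; linear_combination h5) h3 h2
      · refine Or.inr (Or.inl ⟨F₀, _, ?_, hc, hf.rational_iff.mpr h3, h2⟩)
        have := two_ne_zero_iff_odd.mp h5
        rw [hF] at this
        exact Nat.odd_pow_iff two_ne_zero |>.mp this
    · exact Or.inl ⟨F₀, r, _, hr, h4, hc, hf.rational_iff.mpr h3, h2⟩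
  obtain ⟨i, j, hij⟩ : ∃ i j, grm f P i j ≠ 0 := by
    by_contra! h0; exact hf.grm_ne_zero P (Matrix.ext h0)
  have hε : σ ζ / ζ ∈ F₀ := by
    have := F₀.div_mem (map_mem_subfield σ (h1 j i)) (h1 i j)
    rwa [map_mul, hherm, mul_div_mul_right _ _ hij] at this
  have hζ' : σ ζ ≠ 0 := (map_ne_zero σ).mpr hζ
  by_cases h3 : ∃ a ∈ F₀, a + ζ / σ ζ * σ a ≠ 0
  · obtain ⟨a, ha, h3⟩ := h3
    refine hfixed (σ (a + ζ / σ ζ * σ a)) (map_mem_subfield σ (add_mem ha (mul_mem
      (by simpa using F₀.inv_mem hε) (map_mem_subfield σ ha)))) ((map_ne_zero σ).mpr h3) ?_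
    simp only [map_mul, map_add, map_div₀, hf.invol]
    field_simp
    ring
  push Not at h3
  have h4 : ζ + σ ζ = 0 := by
    have := h3 1 (one_mem _)
    rw [map_one] at this
    field_simp at this
    linear_combination this
  have h5 : F₀ ≤ σ.eqLocusField (RingHom.id F) := fun a ha => by
    have := h3 a ha
    rw [show ζ / σ ζ = -1 by field_simp; linear_combination h4] at this
    change σ a = a
    linear_combination -this
  exact halt _ P ζ (by rw [← Nat.card_eq_fintype_card]; exact (exists_pow_of_invol σ hf.invol hσ).1)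
    hζ (hq ζ ▸ h4) (fun i j => h5 (h1 i j)) (h2.trans (subfieldSubgroup_mono h5 P))

lemma det_mem_subfield {F₀ : Subfield F} {M : Matrix ι ι F} (h : ∀ i j, M i j ∈ F₀) :
    M.det ∈ F₀ := by
  rw [Matrix.det_apply']
  exact sum_mem fun π _ => mul_mem (intCast_mem _ _) (prod_mem fun i _ => h _ _)

lemma HForm.exists_rational_odd [Finite F] (hf : HForm (RingHom.id F) ε f)
    (hn : Odd (Fintype.card ι)) {F₀ : Subfield F} (hd : (gramMatrix f).det ∈ F₀) {ζ : F}
    (hζ : ζ ≠ 0) {P : GL ι F} (h : IsFormRationalStructure f F₀ ζ P) :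
    ∃ c : Fˣ, IsFormRationalStructure f F₀ 1 (P * sc ι c) := by
  rw [hf.rational_iff] at h
  have h1 : grm f P = (P : Matrix ι ι F)ᵀ * gramMatrix f * (P : Matrix ι ι F).map (RingHom.id F) :=
    frm_inj (σ := RingHom.id F) fun u v => by rw [← hf.eq_grm, ← frm_mulVec_mulVec, ← hf.eq_frm]
  have h2 := det_mem_subfield (M := ζ • grm f P) h
  obtain ⟨k, hk⟩ := hn
  have h3 := hf.isUnit_det.ne_zero
  have h4 := P.det_ne_zero
  rw [Matrix.det_smul, h1, Matrix.det_mul, Matrix.det_mul, Matrix.det_transpose, hk,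
    show (P : Matrix ι ι F).map (RingHom.id F) = P from rfl] at h2
  refine ⟨Units.mk0 (ζ ^ (k + 1) * (P : Matrix ι ι F).det) (mul_ne_zero (pow_ne_zero _ hζ) h4),
    hf.rational_iff.mpr fun i j => ?_⟩
  have := mul_mem (F₀.div_mem h2 hd) (h i j)
  rw [hf.grm_mul_sc]
  convert this using 1
  simp only [Units.val_mk0, RingHom.id_apply, Matrix.smul_apply, smul_eq_mul]
  field_simp
  ring

end subfield

end Cfsg.Agent.H18
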