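import Cfsg.Agent.H18.FormB

/-! Symplectic-type groups in the presence of a form. -/

set_option autoImplicit false

namespace Cfsg.Agent.H18

open Cfsg.Geo
open scoped MatrixGroups Matrix Kronecker commutatorElement

variable {ι : Type} [Fintype ι] [DecidableEq ι] {F : Type*} [Field F]

section mult
variable {σ : F →+* F} {ε : F} {f : (ι → F) → (ι → F) → F}

/-- `c` is the multiplier of the similarity `g` -/
def Mult (f : (ι → F) → (ι → F) → F) (g : GL ι F) (c : F) : Prop :=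
  ∀ u v, f ((g : Matrix ι ι F) *ᵥ u) ((g : Matrix ι ι F) *ᵥ v) = c * f u v

lemma Mult.mul {g h : GL ι F} {c d : F} (hg : Mult f g c) (hh : Mult f h d) :
    Mult f (g * h) (c * d) := fun u v => by
  rw [Units.val_mul, ← Matrix.mulVec_mulVec, ← Matrix.mulVec_mulVec, hg, hh, mul_assoc]

lemma mult_one_iff {g : GL ι F} : Mult f g 1 ↔ g ∈ isoG f := by
  simp only [Mult, one_mul]; rfl

lemma Mult.pow {g : GL ι F} {c : F} (hg : Mult f g c) (k : ℕ) : Mult f (g ^ k) (c ^ k) := by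
  induction k with
  | zero => rw [pow_zero, pow_zero, mult_one_iff]; exact one_mem _
  | succ k ih => rw [pow_succ, pow_succ]; exact ih.mul hg

lemma Sesq.mult_sc (hf : Sesq σ f) (c : Fˣ) : Mult f (sc ι c) (c * σ c) := fun u v => by
  rw [sc_coe, Matrix.smul_mulVec, Matrix.smul_mulVec, Matrix.one_mulVec, Matrix.one_mulVec,
    hf.smul_left, hf.smul_right, mul_assoc]

omit [Fintype ι] in
lemma HForm.exists_ne [Nonempty ι] (hf : HForm σ ε f) : ∃ u v, f u v ≠ 0 := by
  obtain ⟨i⟩ := ‹Nonempty ι›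
  by_contra! h
  simpa using congrFun (hf.nondeg (Pi.single i 1) fun x => h _ _) i

lemma HForm.mult_unique [Nonempty ι] (hf : HForm σ ε f) {g : GL ι F} {c d : F} (hc : Mult f g c)
    (hd : Mult f g d) : c = d := by
  obtain ⟨u, v, h⟩ := hf.exists_ne
  exact mul_right_cancel₀ h ((hc u v).symm.trans (hd u v))

lemma HForm.mult_fixed [Nonempty ι] (hf : HForm σ ε f) {g : GL ι F} {c : F} (hc : Mult f g c) :
    σ c = c := by
  obtain ⟨u, v, h⟩ := hf.exists_ne
  have h1 := hf.herm ((g : Matrix ι ι F) *ᵥ u) ((g : Matrix ι ι F) *ᵥ v)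
  rw [hc, hc, map_mul, mul_left_comm, ← hf.herm] at h1
  exact (mul_right_cancel₀ h h1).symm

lemma HForm.sc_mem_isoG [Nonempty ι] (hf : HForm σ ε f) {c : Fˣ} :
    sc ι c ∈ isoG f ↔ (c : F) * σ c = 1 :=
  ⟨fun h => hf.mult_unique (hf.mult_sc c) (mult_one_iff.mpr h),
    fun h => mult_one_iff.mp (h ▸ hf.mult_sc c)⟩

lemma HForm.adj_of_isoG (hf : HForm σ ε f) {g : GL ι F} (hg : g ∈ isoG f) :
    adj σ f (g : Matrix ι ι F) = ((g⁻¹ : GL ι F) : Matrix ι ι F) := by
  rw [hf.adj_coe (mult_one_iff.mpr hg), map_one, one_smul]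

lemma HForm.trace_isoG (hf : HForm σ ε f) {g : GL ι F} (hg : g ∈ isoG f) :
    σ (g : Matrix ι ι F).trace = ((g⁻¹ : GL ι F) : Matrix ι ι F).trace := by
  rw [← hf.trace_adj, hf.adj_of_isoG hg]

variable {H N : Subgroup (GL ι F)} {r : ℕ}

lemma ExtraN.norm_root (h : ExtraN H N r) (hf : HForm σ ε f) (hH : H ≤ similarityGroup f)
    {z : F} (hz : z ^ r = 1) : z * σ z = 1 := by
  have := h.nonempty
  obtain ⟨x, hx, y, hy, c, h1, h2, h3⟩ := h.exists_root
  have h4 : sc ι c ∈ isoG f := by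
    rw [show sc ι c = y * x * y⁻¹ * x⁻¹ by rw [h3]; group]
    exact commutator_mem_isoG (hH (h.le hy)) (hH (h.le hx))
  have : Fact r.Prime := ⟨h.prime⟩
  have h5 : IsPrimitiveRoot (c : F) r := by
    rw [← orderOf_eq_prime h2 h1, IsPrimitiveRoot.coe_units_iff]; exact IsPrimitiveRoot.orderOf c
  obtain ⟨j, -, rfl⟩ := h5.eq_pow_of_pow_eq_one hz
  rw [map_pow, ← _root_.mul_pow, hf.sc_mem_isoG.mp h4, one_pow]

lemma ExtraN.eq_two {f : (ι → F) → (ι → F) → F} (h : ExtraN H N r)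
    (hf : HForm (RingHom.id F) ε f) (hH : H ≤ similarityGroup f) : r = 2 := by
  obtain ⟨x, hx, y, hy, c, h1, h2, h3⟩ := h.exists_root
  have h4 := h.norm_root hf hH (z := c) (by rw [← Units.val_pow_eq_pow_val, h2]; rfl)
  have : Fact r.Prime := ⟨h.prime⟩
  have h5 : orderOf c ∣ 2 := orderOf_dvd_of_pow_eq_one (Units.ext (by simpa [sq] using h4))
  rw [orderOf_eq_prime h2 h1] at h5
  exact (Nat.prime_dvd_prime_iff_eq h.prime Nat.prime_two).mp h5

theorem ExtraN.extraR_iso [Finite F] (h : ExtraN H N r) (hf : HForm σ ε f)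
    (hH : H ≤ similarityGroup f) : ExtraR H N (h.core ⊓ isoG f) r := by
  have := h.nonempty
  have hR := h.extraR_core
  have hnorm : ∀ g ∈ H, ∀ x ∈ h.core ⊓ isoG f, g * x * g⁻¹ ∈ h.core ⊓ isoG f := fun g hg x hx =>
    ⟨hR.normal g hg x hx.1, conj_mem_isoG (hH hg) hx.2⟩
  refine ⟨fun _ hx => hx.1.1, h.le_sup_of_not_le (fun _ hx => hx.1.1) hnorm fun hle => ?_, hnorm,
    fun _ hx => hx.1.2⟩
  have key : ∀ x ∈ h.core, Mult f x 1 ∨ Mult f x (-1) := by
    intro x hx
    obtain ⟨μ, hμ⟩ := hH (h.le hx.1)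
    obtain ⟨d, hd⟩ := mem_scalars_sc.mp (h.pow x hx.1)
    have h1 : d ^ r = 1 := by
      obtain ⟨k, hk⟩ := Nat.gcd_dvd_right 2 r
      have h2 := hx.2
      rw [pow_mul, ← hd, ← map_pow, ← map_one (sc ι)] at h2
      rw [hk, pow_mul, sc_injective h2, one_pow]
    have h2 : (μ : F) ^ r = 1 := by
      rw [hf.mult_unique (Mult.pow hμ r) (hd ▸ hf.mult_sc d)]
      exact h.norm_root hf hH (by rw [← Units.val_pow_eq_pow_val, h1]; rfl)
    have h3 := h.norm_root hf hH h2
    rw [hf.mult_fixed hμ] at h3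
    rcases mul_self_eq_one_iff.mp h3 with h4 | h4
    · exact Or.inl (h4 ▸ hμ)
    · exact Or.inr (h4 ▸ hμ)
  obtain ⟨x, hx, y, hy, hxy⟩ := hR.exists_not_comm h
  rcases key x hx with h1 | h1
  · exact hxy (scalars_comm (hle ⟨hx, mult_one_iff.mp h1⟩) y)
  rcases key y hy with h2 | h2
  · exact hxy (scalars_comm (hle ⟨hy, mult_one_iff.mp h2⟩) x).symm
  have h3 := h1.mul h2
  rw [neg_mul_neg, one_mul] at h3
  have h4 := scalars_comm (hle ⟨mul_mem hx hy, mult_one_iff.mp h3⟩) x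
  rw [mul_assoc] at h4
  exact hxy (mul_left_cancel h4).symm

end mult

/-- commuting involutions in a symplectic group -/
theorem card_le_of_elementary {ε : F} {f : (ι → F) → (ι → F) → F} (hf : HForm (RingHom.id F) ε f)
    (halt : ∀ v, f v v = 0) (h2 : (2 : F) ≠ 0) (hn : (Fintype.card ι : F) ≠ 0) {A : Type*}
    [CommGroup A] [Finite A] (ρ : A →* GL ι F) (hinj : Function.Injective ρ)
    (hiso : ∀ a, ρ a ∈ isoG f) (hsq : ∀ a : A, a * a = 1)
    (htr : ∀ a, ρ a ∉ scalars ι F → (ρ a : Matrix ι ι F).trace = 0) :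
    Nat.card A ≤ Fintype.card ι := by
  classical
  have : Nonempty ι := Fintype.card_pos_iff.mp (Nat.pos_of_ne_zero fun h => hn (by simp [h]))
  have := Fintype.ofFinite A
  have hm1 : (-1 : F) ≠ 1 := fun h => h2 (by linear_combination -h)
  have : HasEnoughRootsOfUnity F 2 := ⟨⟨-1, IsPrimitiveRoot.mk_of_lt _ two_pos (by simp)
    fun l h1 h2 => by obtain rfl : l = 1 := by omega
                      simpa using hm1⟩, inferInstance⟩
  have : HasEnoughRootsOfUnity F (Monoid.exponent A) := HasEnoughRootsOfUnity.of_dvd F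
    (Monoid.exponent_dvd_of_forall_pow_eq_one (n := 2) fun a => by rw [sq, hsq])
  have : Finite (A →* Fˣ) := Nat.finite_of_card_ne_zero (by
    rw [CommGroup.card_monoidHom_of_hasEnoughRootsOfUnity]; exact Nat.card_pos.ne')
  have hP : IsPGroup 2 A := fun a => ⟨1, by rw [pow_one, sq, hsq]⟩
  have : Fact (Nat.Prime 2) := ⟨Nat.prime_two⟩
  have hcard : ∀ S : Subgroup A, (Nat.card S : F) ≠ 0 := fun S => by
    obtain ⟨k, hk⟩ := (hP.to_subgroup S).exists_card_eq
    rw [hk]; simpa using pow_ne_zero k h2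
  have hχ : ∀ (χ : A →* Fˣ) a, (χ a : F) * χ a = 1 := fun χ a => by
    rw [← Units.val_mul, ← map_mul, hsq, map_one, Units.val_one]
  let e : (A →* Fˣ) → Matrix ι ι F := fun χ => ∑ a, (χ a : F) • (ρ a : Matrix ι ι F)
  have he1 : ∀ χ b v, (ρ b : Matrix ι ι F) *ᵥ e χ *ᵥ v = (χ b : F) • e χ *ᵥ v := fun χ b v => by
    rw [Matrix.mulVec_mulVec, ← Matrix.smul_mulVec]
    congr 1
    simp only [e, Finset.mul_sum, Finset.smul_sum, Matrix.mul_smul, smul_smul]
    refine Fintype.sum_equiv (Equiv.mulLeft b) _ _ fun a => ?_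
    rw [Equiv.coe_mulLeft, map_mul, map_mul, Units.val_mul, Units.val_mul, ← mul_assoc, hχ, one_mul]
  have he2 : ∀ χ u v, f (e χ *ᵥ u) v = f u (e χ *ᵥ v) := fun χ u v => by
    simp only [e, Matrix.sum_mulVec, Matrix.smul_mulVec, hf.sum_left, hf.sum_right, hf.smul_left,
      hf.smul_right, RingHom.id_apply]
    refine Finset.sum_congr rfl fun a _ => ?_
    rw [hf.adj_spec, hf.adj_of_isoG (hiso a), ← map_inv, inv_eq_of_mul_eq_one_left (hsq a)]
  have he3 : ∀ χ v, e χ *ᵥ e χ *ᵥ v = (Nat.card (⊤ : Subgroup A) : F) • e χ *ᵥ v := fun χ v => by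
    change (∑ a, (χ a : F) • (ρ a : Matrix ι ι F)) *ᵥ _ = _
    simp only [Matrix.sum_mulVec, Matrix.smul_mulVec, he1, smul_smul, hχ, one_smul]
    simp [Nat.cast_smul_eq_nsmul]
  have horth : ∀ χ χ', χ ≠ χ' → ∀ u v, f (e χ *ᵥ u) (e χ' *ᵥ v) = 0 := fun χ χ' h u v => by
    obtain ⟨a, ha⟩ := DFunLike.ne_iff.mp h
    have h3 := mem_isoG.mp (hiso a) (e χ *ᵥ u) (e χ' *ᵥ v)
    rw [he1, he1, hf.smul_left, hf.smul_right, RingHom.id_apply, ← mul_assoc] at h3
    by_contra h0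
    exact ha (Units.ext (by
      rw [← mul_one (χ a : F), ← hχ χ' a, ← mul_assoc, (mul_eq_right₀ h0).mp h3, one_mul]))
  let G := {χ : A →* Fˣ // ∀ a, (ρ a : Matrix ι ι F) = -1 → (χ a : F) = -1}
  have hG : ∀ χ : G, ∃ u v, f (e χ *ᵥ u) (e χ *ᵥ v) ≠ 0 := fun χ => by
    have h3 : (e χ).trace = Nat.card ((scalars ι F).comap ρ) * Fintype.card ι := by
      simp only [e, Matrix.trace_sum, Matrix.trace_smul, smul_eq_mul]
      rw [Finset.sum_congr rfl (g := fun a => if a ∈ (scalars ι F).comap ρ then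
        (Fintype.card ι : F) else 0)]
      · simp [Finset.sum_ite, Fintype.card_subtype]
      · intro a _
        split_ifs with ha
        · obtain ⟨c, hc⟩ := mem_scalars_sc.mp ha
          have h4 : c * c = 1 := sc_injective (ι := ι) (by rw [map_mul, hc, ← map_mul, hsq]; simp)
          rcases mul_self_eq_one_iff.mp (congrArg Units.val h4) with h5 | h5
          · obtain rfl : a = 1 := hinj (by rw [← hc, show c = 1 from Units.ext h5]; simp)
            simp
          · have h6 : (ρ a : Matrix ι ι F) = -1 := by rw [← hc, sc_coe, h5]; simp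
            rw [χ.2 a h6, h6]; simp
        · rw [htr a ha, mul_zero]
    obtain ⟨u, hu⟩ : ∃ u, e χ *ᵥ u ≠ 0 := by
      by_contra! h0
      rw [Matrix.ext_iff_mulVec.mpr fun v => (h0 v).trans (Matrix.zero_mulVec v).symm] at h3
      exact mul_ne_zero (hcard _) hn (h3.symm.trans (Matrix.trace_zero _ _))
    obtain ⟨x, hx⟩ := not_forall.mp (mt (hf.nondeg' _) hu)
    exact ⟨u, x, by rw [← he2, he3, hf.smul_left]; exact mul_ne_zero (hcard _) hx⟩
  choose u v huv using hG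
  have := Fintype.ofFinite G
  have hli : LinearIndependent F (Sum.elim (fun χ : G => e χ *ᵥ u χ) fun χ : G => e χ *ᵥ v χ) := by
    rw [Fintype.linearIndependent_iff]
    intro c hc
    rw [Fintype.sum_sum_type] at hc
    have h3 : ∀ (χ : G) w, c (.inl χ) * f (e χ *ᵥ u χ) (e χ *ᵥ w) +
        c (.inr χ) * f (e χ *ᵥ v χ) (e χ *ᵥ w) = 0 := fun χ w => by
      have h4 := congrArg (f · (e χ *ᵥ w)) hc
      simp only [hf.add_left, hf.sum_left, hf.smul_left, hf.zero_left, Sum.elim_inl,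
        Sum.elim_inr] at h4
      rwa [Finset.sum_eq_single χ (fun χ' _ h => by
          rw [horth _ _ (fun h0 => h (Subtype.ext h0)), mul_zero]) (by simp),
        Finset.sum_eq_single χ (fun χ' _ h => by
          rw [horth _ _ (fun h0 => h (Subtype.ext h0)), mul_zero]) (by simp)] at h4
    rintro (χ | χ)
    · have := h3 χ (v χ)
      rw [halt, mul_zero, add_zero] at this
      exact (mul_eq_zero.mp this).resolve_right (huv χ)
    · have := h3 χ (u χ)
      rw [halt, mul_zero, zero_add] at this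
      exact (mul_eq_zero.mp this).resolve_right fun h0 => huv χ (hf.eq_zero_comm h0)
  have h3 := hli.fintype_card_le_finrank
  rw [Module.finrank_fintype_fun_eq_card, ← Nat.card_eq_fintype_card] at h3
  rw [← CommGroup.card_monoidHom_of_hasEnoughRootsOfUnity A F]
  refine le_trans ?_ h3
  obtain ⟨χ₀, h0⟩ : ∃ χ₀ : A →* Fˣ, ∀ a, (ρ a : Matrix ι ι F) = -1 → (χ₀ a : F) = -1 := by
    by_cases h4 : ∃ a, (ρ a : Matrix ι ι F) = -1
    · obtain ⟨a, ha⟩ := h4
      obtain ⟨i⟩ := ‹Nonempty ι›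
      obtain ⟨χ, h5⟩ := CommGroup.exists_apply_ne_one_of_hasEnoughRootsOfUnity A F (a := a) (by
        rintro rfl; exact hm1 (by simpa using (congrFun (congrFun ha i) i).symm))
      refine ⟨χ, fun b hb => ?_⟩
      obtain rfl : b = a := hinj (Units.ext (hb.trans ha.symm))
      exact (mul_self_eq_one_iff.mp (hχ χ b)).resolve_left fun h6 => h5 (Units.ext h6)
    · exact ⟨1, fun a ha => absurd ⟨a, ha⟩ h4⟩
  refine Nat.card_le_card_of_surjective (Sum.elim (fun χ : G => χ.1) fun χ : G => χ.1 * χ₀)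
    fun χ => ?_
  by_cases h4 : ∀ a, (ρ a : Matrix ι ι F) = -1 → (χ a : F) = -1
  · exact ⟨.inl ⟨χ, h4⟩, rfl⟩
  · push Not at h4
    obtain ⟨a, ha, h4⟩ := h4
    refine ⟨.inr ⟨χ * χ₀, fun b hb => ?_⟩, ?_⟩
    · obtain rfl : b = a := hinj (Units.ext (hb.trans ha.symm))
      rw [MonoidHom.mul_apply, Units.val_mul, h0 b hb,
        (mul_self_eq_one_iff.mp (hχ χ b)).resolve_right h4, one_mul]
    · ext b
      simp [mul_assoc, hχ]

theorem ExtraR.minus [Finite F] {ε : F} {f : (ι → F) → (ι → F) → F}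
    (hf : HForm (RingHom.id F) ε f) (halt : ∀ v, f v v = 0) (h2 : (2 : F) ≠ 0)
    {H N R : Subgroup (GL ι F)} {r : ℕ} (h : ExtraN H N r) (hR : ExtraR H N R r) (hiso : R ≤ isoG f)
    {k : ℕ} (hk : Fintype.card ι = 2 ^ k) : IsOfMinusType k R := by
  intro A hA hsq
  let _ : CommGroup A := { (inferInstance : Group A) with mul_comm := hA.is_comm.comm }
  have := card_le_of_elementary hf halt h2 h.card_ne_zero (R.subtype.comp A.subtype)
    (R.subtype_injective.comp A.subtype_injective) (fun a => hiso a.1.2)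
    (fun a => Subtype.ext (hsq a a.2)) fun a ha => h.trace_eq_zero (hR.le a.1.2) ha
  rw [pow_succ]; have := Nat.two_pow_pos k; omega

lemma ExtraR.card_center_iso [Finite F] {ε : F} {f : (ι → F) → (ι → F) → F}
    (hf : HForm (RingHom.id F) ε f) {H N R : Subgroup (GL ι F)} (h : ExtraN H N 2)
    (hR : ExtraR H N R 2) (hiso : R ≤ isoG f) : Nat.card (Subgroup.center R) = 2 := by
  have := h.nonempty
  rw [hR.card_center h]
  obtain ⟨x, hx, y, hy, hxy⟩ := hR.exists_not_comm h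
  obtain ⟨c, -, h2⟩ := h.exists_comm (hR.le hx) (hR.le hy)
  have h3 : sc ι c ∈ R := by
    rw [show sc ι c = y * x * y⁻¹ * x⁻¹ by rw [h2]; group]
    exact mul_mem (mul_mem (mul_mem hy hx) (inv_mem hy)) (inv_mem hx)
  have h4 : c ≠ 1 := by rintro rfl; exact hxy (by simpa using h2.symm)
  have h5 : ∀ d : Fˣ, sc ι d ∈ R → d = 1 ∨ d = -1 := fun d hd => by
    exact (mul_self_eq_one_iff.mp (hf.sc_mem_isoG.mp (hiso hd))).imp Units.ext Units.ext
  refine Nat.card_eq_two_iff.mpr ⟨1, ⟨c, h3⟩, fun h0 => h4 (congrArg Subtype.val h0).symm, ?_⟩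
  rw [Set.eq_univ_iff_forall]
  rintro ⟨d, hd⟩
  rcases h5 d hd with rfl | rfl
  · exact Or.inl rfl
  · exact Or.inr (Subtype.ext ((h5 c h3).resolve_left h4).symm)

end Cfsg.Agent.H18
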