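import Cfsg.Agent.H18.SLArith

/-! Frames (decompositions into lines), stabilisers of sets of vectors, small fields. -/

set_option autoImplicit false

namespace Cfsg.Agent.H18

open Cfsg.Geo
open scoped MatrixGroups Matrix Kronecker

variable {ι : Type} [Fintype ι] [DecidableEq ι] {F : Type*} [Field F]

section mon

variable {τ : Type} [Fintype τ] [DecidableEq τ]

/-- monomial matrices -/
def monMat (ρ : Equiv.Perm τ) (d : τ → F) : Matrix τ τ F :=
  Matrix.of fun i j => if ρ i = j then d j else 0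

lemma monMat_mulVec (ρ : Equiv.Perm τ) (d : τ → F) (x : τ → F) (i : τ) :
    (monMat ρ d *ᵥ x) i = d (ρ i) * x (ρ i) := by
  simp [monMat, Matrix.mulVec, dotProduct]

lemma monMat_eq (ρ : Equiv.Perm τ) (d : τ → F) :
    monMat ρ d = ρ.permMatrix F * Matrix.diagonal d := by
  ext i j
  simp [monMat, Matrix.mul_diagonal, PEquiv.toMatrix_apply]

lemma det_monMat (ρ : Equiv.Perm τ) (d : τ → F) :
    (monMat ρ d).det = ((Equiv.Perm.sign ρ : ℤ) : F) * ∏ j, d j := by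
  rw [monMat_eq, Matrix.det_mul, Matrix.det_permutation, Matrix.det_diagonal]

lemma sq_prod_of_det_monMat {ρ : Equiv.Perm τ} {d : τ → F} (h : (monMat ρ d).det = 1) :
    (∏ j, d j) ^ 2 = 1 := by
  rw [det_monMat] at h
  rcases Int.units_eq_one_or (Equiv.Perm.sign ρ) with h1 | h1 <;> rw [h1] at h <;> simp at h
  · rw [h, one_pow]
  · rw [neg_eq_iff_eq_neg.mp h]; simp

end mon

lemma trans_trans {κ κ' : Type} [Fintype κ] [DecidableEq κ] [Fintype κ'] [DecidableEq κ']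
    (e : ι ≃ κ) (e' : κ ≃ κ') (P : GL ι F) (X : Matrix κ' κ' F) :
    trans (e.trans e') P X = trans e P (X.submatrix e' e') := rfl

theorem exists_frame {t : ℕ} {D : Fin t → Submodule F (ι → F)} (hD : IsMDecomposition 1 D)
    (v : Fin t → ι → F) (hv : ∀ i, v i ∈ D i) (hv0 : ∀ i, v i ≠ 0) :
    ∃ (e : ι ≃ Fin t) (P : GL ι F),
      (∀ c : Fin t → F, (P : Matrix ι ι F) *ᵥ (c ∘ e) = ∑ i, c i • v i) ∧
      (∀ i (c : Fin t → F), (P : Matrix ι ι F) *ᵥ (c ∘ e) ∈ D i ↔ ∀ j, j ≠ i → c j = 0) ∧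
      ∀ g ∈ decompositionStabilizer D, ∃ (ρ : Equiv.Perm (Fin t)) (d : Fin t → F),
        (∀ j, d j ≠ 0) ∧ (g : Matrix ι ι F) = trans e P (monMat ρ d) := by
  obtain ⟨e, P, h1, h2, h3⟩ := exists_block hD fun i =>
    FiniteDimensional.basisSingleton Unit (hD.finrank_eq i) ⟨v i, hv i⟩
      (fun h => hv0 i (congrArg Subtype.val h))
  refine ⟨e.trans (Equiv.uniqueProd (Fin t) Unit), P, fun c => ?_, fun i c => ?_, fun g hg => ?_⟩
  · have := h1 (c ∘ Equiv.uniqueProd (Fin t) Unit)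
    rw [Fintype.sum_prod_type] at this
    simpa [Function.comp_assoc] using this
  · have := h2 i (c ∘ Equiv.uniqueProd (Fin t) Unit)
    simpa [Function.comp_assoc] using this
  · obtain ⟨ρ, a, h⟩ := h3 g hg
    refine ⟨ρ, fun j => a j () (), fun j => ?_, ?_⟩
    · simpa [Matrix.det_unique] using det_ne_zero_of_blockMon h j
    · rw [h, trans_trans]; congr 1
      ext p q
      rw [blockMon_apply]; rfl

lemma exists_frame' {t : ℕ} {D : Fin t → Submodule F (ι → F)} (hD : IsMDecomposition 1 D) :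
    ∃ (e : ι ≃ Fin t) (P : GL ι F),
      (∀ i (c : Fin t → F), (P : Matrix ι ι F) *ᵥ (c ∘ e) ∈ D i ↔ ∀ j, j ≠ i → c j = 0) ∧
      ∀ g ∈ decompositionStabilizer D, ∃ (ρ : Equiv.Perm (Fin t)) (d : Fin t → F),
        (∀ j, d j ≠ 0) ∧ (g : Matrix ι ι F) = trans e P (monMat ρ d) := by
  choose v hv hv0 using exists_ne_zero_of_decomp hD
  obtain ⟨e, P, -, h⟩ := exists_frame hD v hv hv0
  exact ⟨e, P, h⟩

section setStab

variable {κ : Type} [Fintype κ] [DecidableEq κ]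

/-- the stabiliser of a set of vectors given in coordinates -/
def setStab (e : ι ≃ κ) (P : GL ι F) (p : (κ → F) → Prop) : Subgroup (GL ι F) :=
  stabilizing (glToMat ι F) {v | p ((((P⁻¹ : GL ι F) : Matrix ι ι F) *ᵥ v) ∘ e.symm)}

lemma mem_setStab {e : ι ≃ κ} {P : GL ι F} {p : (κ → F) → Prop} {g : GL ι F} {X : Matrix κ κ F}
    (h : (g : Matrix ι ι F) = trans e P X) : g ∈ setStab e P p ↔ ∀ c, p c ↔ p (X *ᵥ c) := by
  have h1 : ∀ c : κ → F, (((P⁻¹ : GL ι F) : Matrix ι ι F) *ᵥ ((P : Matrix ι ι F) *ᵥ (c ∘ e))) ∘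
      e.symm = c := fun c => by
    rw [inv_mulVec_mulVec, Function.comp_assoc, e.self_comp_symm, Function.comp_id]
  change (∀ v, p _ ↔ p ((((P⁻¹ : GL ι F) : Matrix ι ι F) *ᵥ ((g : Matrix ι ι F) *ᵥ v)) ∘ e.symm)) ↔ _
  constructor
  · intro h2 c
    have := h2 ((P : Matrix ι ι F) *ᵥ (c ∘ e))
    rwa [h, trans_mulVec, h1, h1] at this
  · intro h2 v
    obtain ⟨c, rfl⟩ := exists_eq_mulVec_comp e P v
    rw [h, trans_mulVec, h1, h1]; exact h2 c

lemma mem_setStab_of_finite [Finite F] {e : ι ≃ κ} {P : GL ι F} {p : (κ → F) → Prop} {g : GL ι F}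
    {X : Matrix κ κ F} (h : (g : Matrix ι ι F) = trans e P X) (hp : ∀ c, p c → p (X *ᵥ c)) :
    g ∈ setStab e P p := by
  rw [mem_setStab h]
  refine fun c => ⟨hp c, fun hc => ?_⟩
  have hX : X = (unitsBack (trans e P) g : Matrix κ κ F) := by
    rw [unitsBack_coe, h, AlgEquiv.symm_apply_apply]
  have hinj : Function.Injective fun c : κ → F => X *ᵥ c := fun a b hab => by
    rw [← inv_mulVec_mulVec (unitsBack (trans e P) g) a, ← hX, show X *ᵥ a = X *ᵥ b from hab, hX,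
      inv_mulVec_mulVec]
  have := (Set.toFinite {c | p c}).surjOn_iff_bijOn_of_mapsTo (f := fun c => X *ᵥ c) hp
  have hs : Set.SurjOn (fun c => X *ᵥ c) {c | p c} {c | p c} :=
    ((Set.toFinite {c | p c}).injOn_iff_bijOn_of_mapsTo hp).mp hinj.injOn |>.surjOn
  obtain ⟨c', hc', h2⟩ := hs hc
  rwa [← hinj h2]

/-- an invertible matrix in coordinates -/
def transGL (e : ι ≃ κ) (P : GL ι F) (s : GL κ F) : GL ι F := unitsBack (trans e P).symm s

lemma transGL_coe (e : ι ≃ κ) (P : GL ι F) (s : GL κ F) :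
    (transGL e P s : Matrix ι ι F) = trans e P (s : Matrix κ κ F) := rfl

end setStab

lemma false_of_overgroup {G : Type*} [Group G] {G₀ H M K : Subgroup G} (hH : IsMaximalIn G₀ H)
    (h1 : H ≤ M) (h2 : H ≤ K) (h3 : ¬ G₀ ≤ K) {g : G} (hg : g ∈ G₀) (hgK : g ∈ K) (hgM : g ∉ M) :
    False :=
  hgM (h1 ((eq_of_maximal hH h2 h3).ge ⟨hgK, hg⟩))

/-- the field with four elements -/
abbrev F4 : Type := QuadraticAlgebra (ZMod 2) 1 1

instance instFactF4 : Fact (∀ r : ZMod 2, r ^ 2 ≠ 1 + 1 * r) := ⟨by decide⟩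

instance instFintypeQuad {R : Type} [Fintype R] {a b : R} : Fintype (QuadraticAlgebra R a b) :=
  Fintype.ofEquiv _ (QuadraticAlgebra.equivProd a b).symm

lemma card_quad {R : Type} [Fintype R] {a b : R} :
    Fintype.card (QuadraticAlgebra R a b) = Fintype.card R * Fintype.card R := by
  rw [Fintype.card_congr (QuadraticAlgebra.equivProd a b), Fintype.card_prod]

lemma exists_equiv_F4 [Fintype F] (h : Fintype.card F = 4) : Nonempty (F4 ≃+* F) :=
  ⟨FiniteField.ringEquivOfCardEq (by rw [h, card_quad]; simp)⟩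

/-! ### `SL₄(5)` -/

/-- sixty points of the projective space over the field with five elements -/
def pr5 {R : Type*} [CommRing R] (x : Fin 4 → R) : Prop :=
  ∑ i, x i ^ 4 ≠ 3 ∧ ((∏ i, x i) ^ 2 = 0 ∨ (∏ i, x i) ^ 2 = 1)

/-- a Hadamard matrix -/
def had4 (R : Type*) [CommRing R] : Matrix (Fin 4) (Fin 4) R :=
  !![3, 3, 3, 3; 3, -3, 3, -3; 3, 3, -3, -3; 3, -3, -3, 3]

lemma pr5_map {R S : Type*} [CommRing R] [CommRing S] (φ : R ≃+* S) (x : Fin 4 → R) :
    pr5 (φ ∘ x) ↔ pr5 x := by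
  have h1 : ∑ i, (φ ∘ x) i ^ 4 = φ (∑ i, x i ^ 4) := by simp
  have h2 : (∏ i, (φ ∘ x) i) ^ 2 = φ ((∏ i, x i) ^ 2) := by simp
  rw [pr5, pr5, h1, h2, ← map_ofNat φ 3, φ.injective.ne_iff, map_eq_zero_iff φ φ.injective,
    map_eq_one_iff φ φ.injective]

lemma pr5_had4_aux : ∀ a b c d : ZMod 5,
    (a ^ 4 + b ^ 4 + c ^ 4 + d ^ 4 ≠ 3 ∧ ((a * b * c * d) ^ 2 = 0 ∨ (a * b * c * d) ^ 2 = 1)) →
    ((3 * a + 3 * b + 3 * c + 3 * d) ^ 4 + (3 * a - 3 * b + 3 * c - 3 * d) ^ 4 +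
      (3 * a + 3 * b - 3 * c - 3 * d) ^ 4 + (3 * a - 3 * b - 3 * c + 3 * d) ^ 4 ≠ 3 ∧
      (((3 * a + 3 * b + 3 * c + 3 * d) * (3 * a - 3 * b + 3 * c - 3 * d) *
        (3 * a + 3 * b - 3 * c - 3 * d) * (3 * a - 3 * b - 3 * c + 3 * d)) ^ 2 = 0 ∨
      ((3 * a + 3 * b + 3 * c + 3 * d) * (3 * a - 3 * b + 3 * c - 3 * d) *
        (3 * a + 3 * b - 3 * c - 3 * d) * (3 * a - 3 * b - 3 * c + 3 * d)) ^ 2 = 1)) := by
  decide +kernel

lemma pr5_had4 [Fintype F] (h : Fintype.card F = 5) (x : Fin 4 → F) (hx : pr5 x) :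
    pr5 (had4 F *ᵥ x) := by
  let φ := ZMod.ringEquivOfPrime F (by decide) h
  obtain ⟨y, rfl⟩ : ∃ y : Fin 4 → ZMod 5, x = φ ∘ y := ⟨φ.symm ∘ x, by funext i; simp⟩
  have h1 : had4 F *ᵥ (φ ∘ y) = φ ∘ (had4 (ZMod 5) *ᵥ y) := by
    funext i
    fin_cases i <;> simp [had4, Matrix.mulVec, dotProduct, Fin.sum_univ_four, map_ofNat]
  rw [h1, pr5_map]
  rw [pr5_map] at hx
  have := pr5_had4_aux (y 0) (y 1) (y 2) (y 3) (by
    simpa [pr5, Fin.sum_univ_four, Fin.prod_univ_four] using hx)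
  simpa [pr5, had4, Fin.sum_univ_four, Fin.prod_univ_four, Matrix.mulVec, dotProduct,
    sub_eq_add_neg] using this

lemma pr5_monMat [Fintype F] (h : Fintype.card F = 5) {ρ : Equiv.Perm (Fin 4)} {d : Fin 4 → F}
    (hd : ∀ j, d j ≠ 0) (hdet : (monMat ρ d).det = 1) (x : Fin 4 → F) :
    pr5 x ↔ pr5 (monMat ρ d *ᵥ x) := by
  have h1 : ∑ i, (monMat ρ d *ᵥ x) i ^ 4 = ∑ i, x i ^ 4 := by
    simp only [monMat_mulVec, mul_pow, pow_pred_card (q := 4) h (hd _), one_mul]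
    exact Equiv.sum_comp ρ fun i => x i ^ 4
  have h2 : (∏ i, (monMat ρ d *ᵥ x) i) ^ 2 = (∏ i, x i) ^ 2 := by
    simp only [monMat_mulVec]
    rw [Equiv.prod_comp ρ fun i => d i * x i, Finset.prod_mul_distrib, mul_pow,
      sq_prod_of_det_monMat hdet, one_mul]
  rw [pr5, pr5, h1, h2]

theorem SL4_frame [Fintype F] (h : Fintype.card F = 5) {H : Subgroup (GL ι F)}
    (hH : IsMaximalIn (specialLinear ι F) H) {D : Fin 4 → Submodule F (ι → F)}
    (hD : IsMDecomposition 1 D) (hle : H ≤ decompositionStabilizer D) : False := by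
  obtain ⟨e, P, h1, h2⟩ := exists_frame' hD
  have h5 : (5 : F) = 0 := by simpa [h] using FiniteField.cast_card_eq_zero F
  have h3 : (3 : F) ≠ 0 := fun h0 => one_ne_zero (by linear_combination 2 * h0 - h5 : (1 : F) = 0)
  have hsq : had4 F * had4 F = 1 := by
    ext i j
    fin_cases i <;> fin_cases j <;> simp [had4, Matrix.mul_apply, Fin.sum_univ_four] <;>
      linear_combination 7 * h5
  let s : GL (Fin 4) F := ⟨had4 F, had4 F, hsq, hsq⟩
  refine false_of_overgroup hH hle (K := setStab e P pr5) (fun g hg => ?_) (fun h4 => ?_)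
    (g := transGL e P s) ?_ (mem_setStab_of_finite (transGL_coe e P s) (pr5_had4 h)) fun h4 => ?_
  · obtain ⟨ρ, d, hd, h4⟩ := h2 g (hle hg)
    refine (mem_setStab h4).mpr (pr5_monMat h hd ?_)
    rw [← det_trans e P, ← h4]; exact mem_specialLinear.mp (hH.1.le hg)
  · let t : GL (Fin 4) F := tv ![0, 1, 1, 0] ![1, 0, 0, 0] (by simp)
    have h6 : transGL e P t ∈ specialLinear ι F := by
      rw [mem_specialLinear, transGL_coe, det_trans]; exact mem_specialLinear.mp (tv_mem_SL _ _ _)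
    have h7 := ((mem_setStab (transGL_coe e P t)).mp (h4 h6) ![1, 0, 0, 0]).mp (by
      refine ⟨?_, by simp [Fin.prod_univ_four]⟩
      simp only [Fin.sum_univ_four]
      intro h0
      simp at h0
      exact h3 (by linear_combination h5 + h0))
    apply h7.1
    simp [t, tv_mulVec, Fin.sum_univ_four]
    norm_num
  · rw [mem_specialLinear, transGL_coe, det_trans]
    change (had4 F).det = 1
    simp [had4, Matrix.det_succ_row_zero, Fin.sum_univ_succ, Fin.succAbove]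
    linear_combination 259 * h5
  · obtain ⟨k, hk⟩ := exists_mem_of_stab h4 ((h1 0 ![1, 0, 0, 0]).mpr
      (fun j hj => by fin_cases j <;> simp at hj ⊢))
    rw [transGL_coe, trans_mulVec, h1] at hk
    obtain ⟨j, hj⟩ := exists_ne k
    have := hk j hj
    fin_cases j <;> simp [s, had4, h3] at this

end Cfsg.Agent.H18
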