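import Cfsg.Agent.H18.FormC
import Cfsg.Agent.H18.Frame

/-! Tensor decompositions in the presence of a form. -/

set_option autoImplicit false

namespace Cfsg.Agent.H18

open Cfsg.Geo
open scoped MatrixGroups Matrix Kronecker commutatorElement

variable {ι : Type} [Fintype ι] [DecidableEq ι] {F : Type*} [Field F]
  {σ : F →+* F} {ε : F} {f : (ι → F) → (ι → F) → F}

lemma HForm.adj_of_sim {ε' : F} {f' : (ι → F) → (ι → F) → F} (hf : HForm σ ε f)
    (hf' : HForm σ ε' f') {B : GL ι F} {c : F} (hc : c ≠ 0)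
    (h : ∀ u v, f' ((B : Matrix ι ι F) *ᵥ u) ((B : Matrix ι ι F) *ᵥ v) = c * f u v)
    (X : Matrix ι ι F) : adj σ f' (cj B X) = cj B (adj σ f X) := by
  have h1 := hf'.adj_trans (Equiv.refl ι) B X
  rw [show H18.trF f' (Equiv.refl ι) B = fun u v => c * f u v from funext₂ h,
    adj_smul_form hf hc] at h1
  exact h1

lemma HForm.mem_sim_of_adj_cj [Nonempty ι] (hf : HForm σ ε f) {x : GL ι F}
    (h : ∀ X, adj σ f (cj x X) = cj x (adj σ f X)) : x ∈ similarityGroup f := by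
  obtain ⟨c, hc, h1⟩ := hf.eq_smul_of_adj (hf.trF (Equiv.refl ι) x) Set.univ
    (fun Y hY => scalar_of_commute_all fun X => hY X trivial) fun X _ =>
      (cj x).injective ((h X).symm.trans (hf.adj_trans (Equiv.refl ι) x X))
  exact ⟨Units.mk0 c hc, h1⟩

lemma solvable_of_le {G : Type*} [Group G] {H K : Subgroup G} (h : H ≤ K) (hK : Group.IsSolvable K) :
    Group.IsSolvable H :=
  Group.isSolvable_of_isSolvable_injective (Subgroup.inclusion_injective h)

lemma eq_bot_of_perfect {G : Type*} [Group G] {H : Subgroup G} (hH : Group.IsSolvable H)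
    (h : ⁅H, H⁆ = H) : H = ⊥ := by
  by_contra h0
  have : Nontrivial H := (Subgroup.nontrivial_iff_ne_bot H).mpr h0
  refine (Group.IsSolvable.commutator_lt_top_of_nontrivial H).ne
    (Subgroup.map_injective H.subtype_injective ?_)
  rw [commutator, Subgroup.map_commutator, ← MonoidHom.range_eq_map, Subgroup.range_subtype, h]

lemma solvable_sim (h : Group.IsSolvable (isoG f)) : Group.IsSolvable (similarityGroup f) :=
  Group.isSolvable_of_ker_le_range (Subgroup.inclusion (isoG_le_sim f)) Abelianization.of (by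
    rw [Abelianization.ker_of, Subgroup.inclusion_range, commutator, Subgroup.commutator_le]
    exact fun x _ y _ => commutator_mem_isoG x.2 y.2)

lemma cj_trans {κ : Type} [Fintype κ] [DecidableEq κ] {e : ι ≃ κ} {P g : GL ι F} {s : GL κ F}
    (h : (g : Matrix ι ι F) = trans e P (s : Matrix κ κ F)) (X : Matrix κ κ F) :
    cj g (trans e P X) = trans e P (cj s X) := by
  rw [cj_eq_iff, h, ← map_mul, ← map_mul, cj_mul_self]

lemma cj_wreath_embT {κ α : Type} [Fintype κ] [DecidableEq κ] [Fintype α] [DecidableEq α]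
    (a : κ → GL α F) (π : Equiv.Perm κ) (i : κ) (X : Matrix α α F) :
    cj (pureGL a * permGL F α π) (embT i X) = embT (π i) (cj (a (π i)) X) := by
  rw [cj_mul, embT, cj_permGL, mulSingle_comp_symm, cj_pureGL, embT]
  congr 1
  funext j
  by_cases hj : j = π i
  · subst hj; simp
  · simp [hj]

/-- a tensor decomposition compatible with the form -/
structure KronD (σ : F →+* F) (f : (ι → F) → (ι → F) → F) {a b : ℕ} (e : ι ≃ Fin a × Fin b)
    (P : GL ι F) (ε₁ : F) (f₁ : (Fin a → F) → (Fin a → F) → F) (ε₂ : F)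
    (f₂ : (Fin b → F) → (Fin b → F) → F) : Prop where
  two_le₁ : 2 ≤ a
  two_le₂ : 2 ≤ b
  hf₁ : HForm σ ε₁ f₁
  hf₂ : HForm σ ε₂ f₂
  adj₁ : ∀ X, adj σ f (trans e P (X ⊗ₖ (1 : Matrix (Fin b) (Fin b) F))) =
    trans e P (adj σ f₁ X ⊗ₖ (1 : Matrix (Fin b) (Fin b) F))
  adj₂ : ∀ Y, adj σ f (trans e P ((1 : Matrix (Fin a) (Fin a) F) ⊗ₖ Y)) =
    trans e P ((1 : Matrix (Fin a) (Fin a) F) ⊗ₖ adj σ f₂ Y)

/-- a tensor power decomposition compatible with the form -/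
structure PowD (σ : F →+* F) (f : (ι → F) → (ι → F) → F) {k t : ℕ} (e : ι ≃ (Fin t → Fin k))
    (P : GL ι F) (ε₁ : F) (f₁ : (Fin k → F) → (Fin k → F) → F) : Prop where
  two_le_k : 2 ≤ k
  two_le_t : 2 ≤ t
  hf₁ : HForm σ ε₁ f₁
  adj₁ : ∀ i X, adj σ f (trans e P (embT i X)) = trans e P (embT i (adj σ f₁ X))

namespace KronD
variable {a b : ℕ} {e : ι ≃ Fin a × Fin b} {P : GL ι F} {ε₁ ε₂ : F}
  {f₁ : (Fin a → F) → (Fin a → F) → F} {f₂ : (Fin b → F) → (Fin b → F) → F}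

lemma card (_ : KronD σ f e P ε₁ f₁ ε₂ f₂) : Fintype.card ι = a * b := by
  simpa using Fintype.card_congr e

lemma swap (h : KronD σ f e P ε₁ f₁ ε₂ f₂) :
    KronD σ f (e.trans (Equiv.prodComm _ _)) P ε₂ f₂ ε₁ f₁ :=
  ⟨h.two_le₂, h.two_le₁, h.hf₂, h.hf₁, fun X => by rw [trans_swap, trans_swap, h.adj₂],
    fun X => by rw [trans_swap, trans_swap, h.adj₁]⟩

lemma smul (h : KronD σ f e P ε₁ f₁ ε₂ f₂) {c d ε₁' ε₂' : F} (hc : c ≠ 0) (hd : d ≠ 0)
    (h1 : HForm σ ε₁' fun u v => c * f₁ u v) (h2 : HForm σ ε₂' fun u v => d * f₂ u v) :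
    KronD σ f e P ε₁' (fun u v => c * f₁ u v) ε₂' fun u v => d * f₂ u v :=
  ⟨h.two_le₁, h.two_le₂, h1, h2, fun X => by rw [adj_smul_form h.hf₁ hc, h.adj₁],
    fun X => by rw [adj_smul_form h.hf₂ hd, h.adj₂]⟩

lemma form (hf : HForm σ ε f) (h : KronD σ f e P ε₁ f₁ ε₂ f₂) :
    ∃ c : F, c ≠ 0 ∧ ε * σ c = c * (ε₁ * ε₂) ∧
      ∀ x y, trF f e P x y = c * frm σ (gramMatrix f₁ ⊗ₖ gramMatrix f₂) x y := by
  have := h.two_le₁
  have := h.two_le₂
  have : Nonempty (Fin a) := ⟨⟨0, by omega⟩⟩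
  have : Nonempty (Fin b) := ⟨⟨0, by omega⟩⟩
  exact (hf.trF e P).eq_smul_kron h.hf₁ h.hf₂
    (fun X => (trans e P).injective (by rw [← hf.adj_trans, h.adj₁]))
    fun X => (trans e P).injective (by rw [← hf.adj_trans, h.adj₂])

lemma struct (hf : HForm σ ε f) (h : KronD σ f e P ε₁ f₁ ε₂ f₂) :
    IsTensorFormStructure σ f f₁ f₂ e P := by
  obtain ⟨c, h1, -, h2⟩ := h.form hf
  exact isTensorFormStructure_of h1 h2

lemma sim (hf : HForm σ ε f) (h : KronD σ f e P ε₁ f₁ ε₂ f₂) {g : GL ι F}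
    (hg : g ∈ tensorProductSubgroup a b e P) (hs : g ∈ similarityGroup f) :
    ∃ x ∈ similarityGroup f₁, ∃ y ∈ similarityGroup f₂, (g : Matrix ι ι F) =
      trans e P ((x : Matrix (Fin a) (Fin a) F) ⊗ₖ (y : Matrix (Fin b) (Fin b) F)) := by
  have := h.two_le₁
  have := h.two_le₂
  have : Nonempty (Fin a) := ⟨⟨0, by omega⟩⟩
  have : Nonempty (Fin b) := ⟨⟨0, by omega⟩⟩
  obtain ⟨x, y, hxy⟩ := mem_tensorProductSubgroup.mp hg
  refine ⟨x, h.hf₁.mem_sim_of_adj_cj fun X => ?_, y, h.hf₂.mem_sim_of_adj_cj fun X => ?_, hxy⟩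
  · refine algHom_matrix_injective (kronLeft (Fin a) (Fin b) F) ((trans e P).injective ?_)
    have := hf.adj_cj hs (trans e P (X ⊗ₖ (1 : Matrix (Fin b) (Fin b) F)))
    rwa [h.adj₁, cj_kron hxy, cj_kron hxy, map_one, h.adj₁] at this
  · refine algHom_matrix_injective (kronRight (Fin a) (Fin b) F) ((trans e P).injective ?_)
    have := hf.adj_cj hs (trans e P ((1 : Matrix (Fin a) (Fin a) F) ⊗ₖ X))
    rwa [h.adj₂, cj_kron hxy, cj_kron hxy, map_one, h.adj₂] at this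

lemma form_kronV (h : KronD σ f e P ε₁ f₁ ε₂ f₂) (x y : Fin a → F) (z w : Fin b → F) :
    frm σ (gramMatrix f₁ ⊗ₖ gramMatrix f₂) (kronV x z) (kronV y w) = f₁ x y * f₂ z w := by
  rw [h.hf₁.eq_frm, h.hf₂.eq_frm, gram_frm, gram_frm]
  simp only [frm_eq_sum, Fintype.sum_prod_type, kronV, Matrix.kroneckerMap_apply, map_mul,
    Finset.sum_mul_sum]
  refine Finset.sum_congr rfl fun i _ => Finset.sum_congr rfl fun j _ =>
    Finset.sum_congr rfl fun k _ => Finset.sum_congr rfl fun l _ => by ring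

/-- the second factor acts irreducibly -/
lemma irr₂ (hf : HForm σ ε f) (h : KronD σ f e P ε₁ f₁ ε₂ f₂) {H : Subgroup (GL ι F)}
    (hi : Irr H) (hH : H ≤ tensorProductSubgroup a b e P) (hs : H ≤ similarityGroup f) :
    Irr (similarityGroup f₂) := by
  intro U hU
  have := h.two_le₁
  let L : (Fin a × Fin b → F) →ₗ[F] (ι → F) :=
    Matrix.toLin' (P : Matrix ι ι F) ∘ₗ LinearMap.funLeft F F e
  let W : Submodule F (Fin a × Fin b → F) :=
    ⨅ i, U.comap (LinearMap.funLeft F F fun j => (i, j))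
  have hL : ∀ c, L c = (P : Matrix ι ι F) *ᵥ (c ∘ e) := fun c => rfl
  have hW : ∀ c, c ∈ W ↔ ∀ i, (fun j => c (i, j)) ∈ U := fun c => by
    simp only [W, Submodule.mem_iInf]; rfl
  rcases hi (W.map L) (by
    rintro g hg _ ⟨c, hc, rfl⟩
    obtain ⟨x, -, y, hy, hxy⟩ := h.sim hf (hH hg) (hs hg)
    refine ⟨((x : Matrix (Fin a) (Fin a) F) ⊗ₖ (y : Matrix (Fin b) (Fin b) F)) *ᵥ c,
      (hW _).mpr fun i => ?_, by rw [hL, hL c, hxy, trans_mulVec]⟩
    have : (fun j => (((x : Matrix (Fin a) (Fin a) F) ⊗ₖ (y : Matrix (Fin b) (Fin b) F)) *ᵥ c) (i, j))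
        = ∑ k, (x : Matrix (Fin a) (Fin a) F) i k • (y : Matrix (Fin b) (Fin b) F) *ᵥ
          fun j => c (k, j) := by
      funext j
      simp [Matrix.mulVec, dotProduct, Fintype.sum_prod_type, Finset.mul_sum, mul_assoc]
    rw [this]
    exact sum_mem fun k _ => U.smul_mem _ (hU y hy _ ((hW c).mp hc k))) with h1 | h1
  · left
    rw [Submodule.eq_bot_iff] at h1 ⊢
    intro z hz
    have := mulVec_comp_eq_zero (h1 _ ⟨fun p => z p.2, (hW _).mpr fun _ => hz, hL _⟩)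
    funext j; exact congrFun this (⟨0, by omega⟩, j)
  · right
    rw [Submodule.eq_top_iff'] at h1 ⊢
    intro z
    obtain ⟨c, hc, h2⟩ := h1 (L fun p => z p.2)
    rw [← sub_eq_zero, ← map_sub, hL] at h2
    have := (hW c).mp hc ⟨0, by omega⟩
    rwa [sub_eq_zero.mp (mulVec_comp_eq_zero h2)] at this

end KronD

lemma KronD.pow {a : ℕ} {e : ι ≃ Fin a × Fin a} {P : GL ι F} {ε₁ ε₂ : F}
    {f₁ f₂ : (Fin a → F) → (Fin a → F) → F} (h : KronD σ f e P ε₁ f₁ ε₂ f₂) {B : GL (Fin a) F}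
    {c : F} (hc : c ≠ 0) (hB : ∀ u v, f₂ ((B : Matrix _ _ F) *ᵥ u) ((B : Matrix _ _ F) *ᵥ v) =
      c * f₁ u v) :
    ∃ (e' : ι ≃ (Fin 2 → Fin a)) (P' : GL ι F), PowD σ f e' P' ε₁ f₁ ∧
      tensorProductSubgroup a a e P ≤ tensorWreathSubgroup a 2 e' P' ∧
      transGL e' P' (permGL F (Fin a) (Equiv.swap 0 1)) ∉ tensorProductSubgroup a a e P := by
  have ha := h.two_le₁
  have : Nonempty (Fin a) := ⟨⟨0, by omega⟩⟩
  obtain ⟨e', P', h1, h2, h3⟩ := exists_wreath_of_kron (by omega) e P B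
  refine ⟨e', P', ⟨ha, le_rfl, h.hf₁, fun i X => ?_⟩, h3, fun h4 => ?_⟩
  · fin_cases i
    · exact (congrArg _ (h1 X)).trans ((h.adj₁ X).trans (h1 _).symm)
    · exact (congrArg _ (h2 X)).trans ((h.adj₂ _).trans (by
        rw [h.hf₁.adj_of_sim h.hf₂ hc hB]; exact (h2 _).symm))
  · obtain ⟨x, y, hxy⟩ := mem_tensorProductSubgroup.mp h4
    have h5 : ∀ X, trans e P ((1 : Matrix (Fin a) (Fin a) F) ⊗ₖ cj B X) =
        trans e P (cj x X ⊗ₖ (1 : Matrix (Fin a) (Fin a) F)) := fun X => by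
      have h6 := cj_kron hxy X 1
      rw [map_one, ← h1, cj_trans (transGL_coe _ _ _), embT, cj_permGL, mulSingle_comp_symm] at h6
      rw [← h6, ← h2]; rfl
    refine matrix_not_comm (F := F) (ι := Fin a) (by simpa using ha) fun X Y => ?_
    refine (cj B).injective (algHom_matrix_injective (kronRight (Fin a) (Fin a) F) ?_)
    rw [map_mul, map_mul, map_mul, map_mul, kronRight_apply, kronRight_apply,
      (trans e P).injective (h5 X)]
    exact kron_commute _ _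

namespace PowD
variable {k t : ℕ} {e : ι ≃ (Fin t → Fin k)} {P : GL ι F} {ε₁ : F}
  {f₁ : (Fin k → F) → (Fin k → F) → F}

lemma card (_ : PowD σ f e P ε₁ f₁) : Fintype.card ι = k ^ t := by
  simpa using Fintype.card_congr e

lemma smul (h : PowD σ f e P ε₁ f₁) {c ε₁' : F} (hc : c ≠ 0)
    (h1 : HForm σ ε₁' fun u v => c * f₁ u v) : PowD σ f e P ε₁' fun u v => c * f₁ u v :=
  ⟨h.two_le_k, h.two_le_t, h1, fun i X => by rw [adj_smul_form h.hf₁ hc, h.adj₁]⟩

lemma form (hf : HForm σ ε f) (h : PowD σ f e P ε₁ f₁) :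
    ∃ c : F, c ≠ 0 ∧ ε * σ c = c * ε₁ ^ t ∧
      ∀ x y, trF f e P x y = c * frm σ (pureT fun _ : Fin t => gramMatrix f₁) x y :=
  hf.tensorPower h.hf₁ (by have := h.two_le_k; omega) h.adj₁

lemma struct (hf : HForm σ ε f) (h : PowD σ f e P ε₁ f₁) :
    IsTensorPowerFormStructure σ f f₁ e P := by
  obtain ⟨c, h1, -, h2⟩ := h.form hf
  exact isTensorPowerFormStructure_of h1 h2

lemma sim (hf : HForm σ ε f) (h : PowD σ f e P ε₁ f₁) {g : GL ι F}
    (hg : g ∈ tensorWreathSubgroup k t e P) (hs : g ∈ similarityGroup f) :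
    ∃ (a : Fin t → GL (Fin k) F) (π : Equiv.Perm (Fin t)), (∀ i, a i ∈ similarityGroup f₁) ∧
      (g : Matrix ι ι F) = trans e P (pureGL a * permGL F (Fin k) π : GL (Fin t → Fin k) F) := by
  have := h.two_le_k
  have : Nonempty (Fin k) := ⟨⟨0, by omega⟩⟩
  obtain ⟨s, hs', h1⟩ := (mem_map_trans e P _ g).mp hg
  obtain ⟨a, π, rfl⟩ := exists_eq_of_mem_wreath hs'
  refine ⟨a, π, fun i => h.hf₁.mem_sim_of_adj_cj fun X => ?_, h1⟩
  obtain ⟨i, rfl⟩ := π.surjective i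
  refine algHom_matrix_injective (embAlg (π i)) ((trans e P).injective ?_)
  have := hf.adj_cj hs (trans e P (embT i X))
  rwa [h.adj₁, cj_trans h1, cj_trans h1, cj_wreath_embT, cj_wreath_embT, h.adj₁] at this

lemma perm_mem (hf : HForm σ ε f) (h : PowD σ f e P ε₁ f₁) (π : Equiv.Perm (Fin t)) :
    transGL e P (permGL F (Fin k) π) ∈ isoG f := by
  obtain ⟨c, -, -, h1⟩ := h.form hf
  intro u v
  obtain ⟨x, rfl⟩ := exists_eq_mulVec_comp e P u
  obtain ⟨y, rfl⟩ := exists_eq_mulVec_comp e P v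
  change f (trans e P _ *ᵥ _) (trans e P _ *ᵥ _) = _
  rw [trans_mulVec, trans_mulVec]
  refine (h1 _ _).trans (Eq.trans ?_ (h1 _ _).symm)
  rw [frm_mulVec_mulVec]
  congr 2
  have h2 : (permT F (Fin k) π).map σ = permT F (Fin k) π := by
    ext x y; simp [permT, apply_ite σ]
  have h3 : (permT F (Fin k) π)ᵀ = permT F (Fin k) π.symm := by
    ext x y
    have : x = y ∘ π ↔ y = x ∘ π.symm :=
      ⟨fun h => by rw [h]; funext i; simp, fun h => by rw [h]; funext i; simp⟩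
    simp [permT, this]
  change (permT F (Fin k) π)ᵀ * _ * (permT F (Fin k) π).map σ = _
  rw [h2, h3]
  exact cj_permGL π.symm fun _ => gramMatrix f₁

lemma form_pureV (h : PowD σ f e P ε₁ f₁) (x y : Fin t → Fin k → F) :
    frm σ (pureT fun _ : Fin t => gramMatrix f₁) (pureV x) (pureV y) = ∏ i, f₁ (x i) (y i) := by
  rw [h.hf₁.eq_frm, gram_frm]
  have : σ ∘ pureV y = pureV fun i => σ ∘ y i := by funext z; simp [pureV]
  simp only [frm, this, pureT_mulVec]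
  simp only [dotProduct, pureV, Finset.prod_univ_sum, Fintype.piFinset_univ, Finset.prod_mul_distrib]

theorem solvable {e : ι ≃ (Fin 2 → Fin k)} (hf : HForm σ ε f) (h : PowD σ f e P ε₁ f₁)
    (hs : Group.IsSolvable (isoG f₁)) :
    Group.IsSolvable (tensorWreathSubgroup k 2 e P ⊓ isoG f : Subgroup (GL ι F)) := by
  have := solvable_sim hs
  let S := similarityGroup f₁
  have : Group.IsSolvable (Fin 2 → S) := Group.isSolvable_of_isSolvable_injective
    (f := (Pi.evalMonoidHom (fun _ => S) 0).prod (Pi.evalMonoidHom (fun _ => S) 1)) fun x y hxy => by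
      funext i
      fin_cases i
      · exact congrArg Prod.fst hxy
      · exact congrArg Prod.snd hxy
  have : Group.IsSolvable (Equiv.Perm (Fin 2)) := Group.isSolvable_of_comm (by decide)
  have : Group.IsSolvable ((Fin 2 → S) ⋊[mulAutArrow] Equiv.Perm (Fin 2)) :=
    Group.isSolvable_of_ker_le_range SemidirectProduct.inl SemidirectProduct.rightHom
      SemidirectProduct.range_inl_eq_ker_rightHom.ge
  let Φ : (Fin 2 → S) ⋊[mulAutArrow] Equiv.Perm (Fin 2) →* GL (Fin 2 → Fin k) F :=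
    SemidirectProduct.lift (MonoidHom.mk' (fun a => pureGL fun i => (a i : GL (Fin k) F))
      fun a b => (pureGL_mul _ _).symm) (MonoidHom.mk' (permGL F (Fin k))
      fun a b => (permGL_mul _ _).symm) fun π => MonoidHom.ext fun a =>
        eq_mul_inv_of_mul_eq (permGL_mul_pureGL π fun i => (a i : GL (Fin k) F)).symm
  let Ψ := (Units.map (trans e P).toMonoidHom).comp Φ
  refine solvable_of_le (K := Ψ.range) (fun g hg => ?_)
    (Group.isSolvable_of_surjective Ψ.rangeRestrict_surjective)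
  obtain ⟨a, π, h1, h2⟩ := h.sim hf hg.1 (isoG_le_sim f hg.2)
  exact ⟨⟨fun i => ⟨a i, h1 i⟩, π⟩, Units.ext h2.symm⟩

end PowD

lemma KronD.overgroup {a : ℕ} {e : ι ≃ Fin a × Fin a} {P : GL ι F} {H : Subgroup (GL ι F)}
    (hf : HForm σ ε f) (hH : H ≤ tensorProductSubgroup a a e P) (hiso : H ≤ isoG f)
    {e' : ι ≃ (Fin 2 → Fin a)} {P' : GL ι F} {ε₁ : F} {f₁ : (Fin a → F) → (Fin a → F) → F}
    (h : PowD σ f e' P' ε₁ f₁) (h1 : tensorProductSubgroup a a e P ≤ tensorWreathSubgroup a 2 e' P')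
    (h2 : transGL e' P' (permGL F (Fin a) (Equiv.swap 0 1)) ∉ tensorProductSubgroup a a e P)
    (hs : Group.IsSolvable (isoG f₁)) :
    ∃ H', H < H' ∧ H' ≤ isoG f ∧ Group.IsSolvable H' :=
  ⟨_, lt_of_le_of_ne (le_inf (hH.trans h1) hiso) fun h3 => h2 (hH (h3.ge
    ⟨(mem_map_trans _ _ _ _).mpr ⟨_, permGL_mem _, rfl⟩, h.perm_mem hf _⟩)), inf_le_right,
    h.solvable hf hs⟩

/-- The structure theorem for irreducible groups of isometries, raw form. -/
theorem HForm.master [Finite F] (hf : HForm σ ε f) (hn : 2 ≤ Fintype.card ι)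
    {H : Subgroup (GL ι F)} (hH : H ≤ isoG f) (hi : Irr H) :
    (∃ N, scalars ι F < N ∧ N ≤ H ⊔ scalars ι F ∧ (∀ h ∈ H, ∀ x ∈ N, h * x * h⁻¹ ∈ N) ∧
      ctr N ≠ ⊥) ∨
    (∃ (a b : ℕ) (e : ι ≃ Fin a × Fin b) (P : GL ι F) (ε₁ ε₂ : F) (f₁ : _) (f₂ : _),
      KronD σ f e P ε₁ f₁ ε₂ f₂ ∧ H ≤ tensorProductSubgroup a b e P) ∨
    (∃ N r, ExtraN (H ⊔ scalars ι F) N r) ∨
    (∃ (k t : ℕ) (e : ι ≃ (Fin t → Fin k)) (P : GL ι F) (ε₁ : F) (f₁ : _),
      PowD σ f e P ε₁ f₁ ∧ ¬ Group.IsSolvable (isoG f₁) ∧ H ≤ tensorWreathSubgroup k t e P) ∨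
    ∃ P, Resid (H ⊔ scalars ι F) P := by
  have : Nonempty ι := Fintype.card_pos_iff.mp (by omega)
  have hs : H ⊔ scalars ι F ≤ similarityGroup f :=
    sup_le (hH.trans (isoG_le_sim f)) (scalars_le_similarityGroup hf.toSesq)
  rcases H18.master (H := H ⊔ scalars ι F) hn le_sup_right (irr_sup_scalars.mpr hi) with
    ⟨N, h0, h1, h2, h3⟩ | ⟨N, a, φ, h0, h1, h2, h3, h4⟩ | h | ⟨L, t, m, φ₀, φ, h⟩ | h
  · exact Or.inl ⟨N, h0, h1, fun g hg => h2 g (Subgroup.mem_sup_left hg), h3⟩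
  · obtain ⟨b, e, P, hb, h5, h6⟩ := exists_tensor_of_algHom (by omega) φ h4
    have : Nonempty (Fin a) := ⟨⟨0, by omega⟩⟩
    have : Nonempty (Fin b) := ⟨⟨0, by omega⟩⟩
    obtain ⟨ε₁, ε₂, f₁, f₂, a1, a2, a3, a4⟩ := (hf.trF e P).exists_kron fun X => by
      obtain ⟨Y, hY⟩ : adj σ f (φ X) ∈ φ.range :=
        h3 ▸ hf.adj_mem_spanAlg (h0.trans hs) (h3 ▸ ⟨X, rfl⟩)
      exact ⟨Y, (trans e P).injective (by rw [← hf.adj_trans, h5, h5]; exact hY.symm)⟩
    exact Or.inr (Or.inl ⟨a, b, e, P, ε₁, ε₂, f₁, f₂, ⟨h2, hb, a1, a2,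
      fun X => by rw [hf.adj_trans, a3], fun X => by rw [hf.adj_trans, a4]⟩, fun g hg =>
        h6 g (cj_mem_range h1 h3 g (Subgroup.mem_sup_left hg))⟩)
  · exact Or.inr (Or.inr (Or.inl h))
  · have hm := h.two_le_m
    have : Nonempty (Fin m) := ⟨⟨0, by omega⟩⟩
    obtain ⟨e, P, h1, h2⟩ := h.exists_wreath
    obtain ⟨ε₁, f₁, a1, a2⟩ := hf.exists_factor φ₀ fun X => by
      obtain ⟨Y, hY⟩ : adj σ f (φ₀ X) ∈ φ₀.range :=
        h.range ▸ hf.adj_mem_spanAlg (h.le.trans hs) (h.range ▸ ⟨X, rfl⟩)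
      exact ⟨Y, hY.symm⟩
    refine Or.inr (Or.inr (Or.inr (Or.inl ⟨m, t, e, P, ε₁, f₁, ⟨hm, h.two_le_t, a1, fun i X => ?_⟩,
      fun hsol => ?_, le_sup_left.trans h2⟩)))
    · obtain ⟨g, hg, h3⟩ := h.conj i
      rw [h1, h1, h3, h3, hf.adj_cj (hs hg), a2]
    · have hL : L ≤ isoG f := h.perfect.ge.trans (commutator_le_isoG (h.le.trans hs))
      let Ψ := (Units.map φ₀.toMonoidHom).comp (isoG f₁).subtype
      have h3 : L = ⊥ := eq_bot_of_perfect (solvable_of_le (K := Ψ.range) (fun x hx => ?_)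
        (Group.isSolvable_of_surjective Ψ.rangeRestrict_surjective)) h.perfect
      · refine matrix_not_comm (F := F) (ι := Fin m) (by simpa using hm) fun X Y =>
          algHom_matrix_injective φ₀ ?_
        rw [map_mul, map_mul]
        exact commute_of_mem_spanAlg (R := F) (N := L) (fun x hx => by
          rw [h3] at hx; rw [Subgroup.mem_bot.mp hx]; simp) (h.range ▸ ⟨Y, rfl⟩)
      · obtain ⟨X, hX⟩ : (x : Matrix ι ι F) ∈ φ₀.range := h.range ▸ coe_mem_spanAlg hx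
        have h4 : adj σ f₁ X * X = 1 := algHom_matrix_injective φ₀ (by
          rw [map_mul, ← a2, show φ₀ X = x from hX, hf.adj_of_isoG (hL hx), map_one, Units.inv_mul])
        refine ⟨⟨⟨X, adj σ f₁ X, mul_eq_one_comm.mp h4, h4⟩, fun u v => ?_⟩, Units.ext hX⟩
        change f₁ (X *ᵥ u) (X *ᵥ v) = _
        rw [a1.adj_spec, Matrix.mulVec_mulVec, h4, Matrix.one_mulVec]
  · exact Or.inr (Or.inr (Or.inr (Or.inr h)))

end Cfsg.Agent.H18
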