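import Cfsg.Agent.H18.TensorForm

/-! The structure theorem for subgroups of the general linear group. -/

set_option autoImplicit false

namespace Cfsg.Agent.H18

open Cfsg.Geo
open scoped MatrixGroups Matrix Kronecker

variable {ι : Type} [Fintype ι] [DecidableEq ι] {F : Type*} [Field F]

lemma le_subgroupNormalizer {H R : Subgroup (GL ι F)} (h : ∀ g ∈ H, ∀ x ∈ R, g * x * g⁻¹ ∈ R) :
    H ≤ subgroupNormalizer R := by
  intro g hg
  rw [subgroupNormalizer, Subgroup.mem_normalizer_iff]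
  refine fun y => ⟨h g hg y, fun hy => ?_⟩
  have := h g⁻¹ (H.inv_mem hg) _ hy
  simpa [mul_assoc] using this

lemma exists_stab_of_not_irr {H : Subgroup (GL ι F)} (h : ¬ Irr H) :
    ∃ W : Submodule F (ι → F), W ≠ ⊥ ∧ W ≠ ⊤ ∧ H ≤ subspaceStabilizer W := by
  simp only [Irr, not_forall, not_or] at h
  obtain ⟨W, h1, h2, h3⟩ := h
  exact ⟨W, h2, h3, le_subspaceStabilizer h1⟩

/-- contained in a subfield subgroup -/
def InC5 [Fintype F] (H : Subgroup (GL ι F)) : Prop :=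
  ∃ (F₀ : Subfield F) (r : ℕ) (P : GL ι F), r.Prime ∧ Fintype.card F = Nat.card F₀ ^ r ∧
    H ≤ subfieldSubgroup F₀ P

lemma inC5_of_realisable [Fintype F] [Nonempty ι] {H N : Subgroup (GL ι F)} (hN : spanAlg F N = ⊤)
    (hn : ∀ h ∈ H, ∀ x ∈ N, h * x * h⁻¹ ∈ N) {F₀ : Subfield F} (h0 : F₀ ≠ ⊤)
    (hR : RealisableOver F₀ (matrixSet N)) : InC5 H := by
  obtain ⟨F₁, r, P, -, hr, hc, hP⟩ := exists_prime_subfield_of_realisable h0 hR
  exact ⟨F₁, r, P, hr, hc, fun g hg => mem_subfieldSubgroup_of_normalizes hN hP (hn g hg)⟩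

lemma InC8.mono [Fintype F] {H K : Subgroup (GL ι F)} (h : InC8 K) (hle : H ≤ K) : InC8 H := by
  rcases h with ⟨f, h1, h2⟩ | ⟨σ, f, h1, h2⟩ | ⟨Q, h1, h2, h3⟩
  · exact Or.inl ⟨f, h1, hle.trans h2⟩
  · exact Or.inr (Or.inl ⟨σ, f, h1, hle.trans h2⟩)
  · exact Or.inr (Or.inr ⟨Q, h1, h2, hle.trans h3⟩)

lemma exists_card_eq_pow (F : Type*) [Field F] [Fintype F] :
    ∃ p e : ℕ, p.Prime ∧ CharP F p ∧ 0 < e ∧ Fintype.card F = p ^ e := by
  obtain ⟨p, hp⟩ := CharP.exists F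
  obtain ⟨e, hp', he⟩ := FiniteField.card F p
  exact ⟨p, e, hp', hp, e.2, he⟩

lemma ne_of_dvd_pow_sub_one {r p e : ℕ} (hr : r.Prime) (he : 0 < e) (h : r ∣ p ^ e - 1) : r ≠ p := by
  rintro rfl
  have h1 : r ∣ r ^ e := dvd_pow_self r he.ne'
  have h2 : 1 ≤ r ^ e := Nat.one_le_pow _ _ hr.pos
  have := (Nat.dvd_sub_iff_right h2 h1).mp h
  exact hr.one_lt.ne' (Nat.dvd_one.mp this)

lemma pow_pow_eq_self_of_dvd {c : Fˣ} {z k : ℕ} (hc : c ^ z = 1) (hk : 0 < k) (h : z ∣ k - 1) :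
    (c : F) ^ k = c := by
  obtain ⟨l, hl⟩ := h
  have : k = z * l + 1 := by omega
  rw [this, ← Units.val_pow_eq_pow_val, pow_succ, pow_mul, hc]; simp

lemma pow_eq_inv_of_dvd {c : Fˣ} {z k : ℕ} (hc : c ^ z = 1) (h : z ∣ k + 1) :
    (c : F) ^ k = ((c⁻¹ : Fˣ) : F) := by
  obtain ⟨l, hl⟩ := h
  have : c ^ k * c = 1 := by rw [← pow_succ, hl, pow_mul, hc, one_pow]
  rw [← Units.val_pow_eq_pow_val, eq_inv_of_mul_eq_one_left this]

lemma exists_frob_half [Fintype F] {p d : ℕ} (hp : p.Prime) [CharP F p]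
    (he : Fintype.card F = p ^ (2 * d)) :
    ∃ σ : F →+* F, (∀ x, σ x = x ^ p ^ d) ∧ ∀ x, σ (σ x) = x := by
  have := Fact.mk hp
  refine ⟨iterateFrobenius F p d, fun x => iterateFrobenius_def .., fun x => ?_⟩
  rw [iterateFrobenius_def, iterateFrobenius_def, ← pow_mul, ← pow_add, ← two_mul, ← he,
    FiniteField.pow_card]

/-- either the field is minimal for the centre or the group is realisable over a subfield -/
lemma ExtraR.minimal_or [Fintype F] {H N R : Subgroup (GL ι F)} {r : ℕ} (h : ExtraN H N r)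
    (hR : ExtraR H N R r) {p e : ℕ} (hp : p.Prime) [hc : CharP F p] (he : Fintype.card F = p ^ e) :
    IsMinimalFieldFor (Nat.card (Subgroup.center R)) p e F ∨
      ∃ F₀ : Subfield F, F₀ ≠ ⊤ ∧ RealisableOver F₀ (matrixSet R) := by
  by_cases hm : ∃ d, 0 < d ∧ d < e ∧ Nat.card (Subgroup.center R) ∣ p ^ d - 1
  · obtain ⟨d, h1, h2, h3⟩ := hm
    obtain ⟨F₀, h4, h5⟩ := exists_subfield_pow hp he h1 h2
    exact Or.inr ⟨F₀, h4, hR.realisable h F₀ fun c hc => (h5 c).mpr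
      (pow_pow_eq_self_of_dvd hc (pow_pos hp.pos d) h3)⟩
  · push Not at hm
    exact Or.inl ⟨hp, hc, he, he ▸ hR.card_center_dvd h, hm⟩

lemma gcd_cases {q r : ℕ} (hr : r.Prime) (h : r ∣ q) :
    (Odd r ∧ Nat.gcd q (r * Nat.gcd 2 r) = r) ∨ (r = 2 ∧ Nat.gcd q (r * Nat.gcd 2 r) = 4) ∨
      (r = 2 ∧ Nat.gcd q (r * Nat.gcd 2 r) = 2) := by
  rcases hr.eq_two_or_odd' with rfl | ⟨k, hk⟩
  · right
    have h1 : Nat.gcd q 4 ∣ 2 ^ 2 := Nat.gcd_dvd_right q 4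
    have h2 : 2 ∣ Nat.gcd q 4 := Nat.dvd_gcd h (by decide)
    change (_ ∧ Nat.gcd q 4 = 4) ∨ (_ ∧ Nat.gcd q 4 = 2)
    obtain ⟨i, hi, he⟩ := (Nat.dvd_prime_pow Nat.prime_two).mp h1
    rw [he] at h2 ⊢
    interval_cases i
    · exact absurd h2 (by decide)
    · simp
    · simp
  · left
    have : Nat.gcd 2 r = 1 := by rw [hk]; simp
    rw [this, mul_one]
    exact ⟨⟨k, hk⟩, Nat.gcd_eq_right h⟩

lemma dvd_succ_of_min {z p d : ℕ} (hz : z.Prime ∨ (z = 4 ∧ Odd p)) (hp : 0 < p)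
    (h1 : z ∣ p ^ (2 * d) - 1) (h2 : ¬ z ∣ p ^ d - 1) : z ∣ p ^ d + 1 := by
  have h3 : p ^ (2 * d) - 1 = (p ^ d + 1) * (p ^ d - 1) := by
    rw [mul_comm 2 d, pow_mul, ← Nat.sq_sub_sq, one_pow]
  rcases hz with hz | ⟨rfl, ho⟩
  · rw [h3] at h1; exact ((Nat.Prime.dvd_mul hz).mp h1).resolve_right h2
  · obtain ⟨k, hk⟩ := ho.pow (n := d)
    rw [hk] at h2 ⊢
    omega

theorem linear_extra [Fintype F] (hn : 3 ≤ Fintype.card ι) {H N : Subgroup (GL ι F)} {r : ℕ}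
    (hH : Irr H) (h : ExtraN H N r) :
    InC5 H ∨ (∃ R : Subgroup (GL ι F), IsLinearSymplecticTypeData r R ∧
      (∃ m, Fintype.card ι = r ^ m) ∧ H ≤ subgroupNormalizer R) ∨ InC8 H := by
  have := h.nonempty
  have hR := h.extraR_core
  obtain ⟨p, e, hp, hc, he0, he⟩ := exists_card_eq_pow F
  rcases hR.minimal_or h hp he with hmin | ⟨F₀, h1, h2⟩
  swap
  · exact Or.inl (inC5_of_realisable (hR.span h) hR.normal h1 h2)
  right
  obtain ⟨m, hm1, hm⟩ := hR.exists_card_eq_pow h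
  have hrp : r ≠ p := ne_of_dvd_pow_sub_one h.prime he0 (he ▸ h.dvd_card)
  have hcard := hR.card_eq h
  have hun : ∀ d, e = 2 * d → (Nat.card (Subgroup.center h.core)).Prime ∨
      (Nat.card (Subgroup.center h.core) = 4 ∧ Odd p) → InC8 H := by
    rintro d rfl hz
    obtain ⟨σ, hσ, hσ2⟩ := exists_frob_half hp he
    obtain ⟨ε, f, hf, hs⟩ := hR.exists_hform h hσ2 fun c hc => by
      rw [hσ]
      exact pow_eq_inv_of_dvd hc (dvd_succ_of_min hz hp.pos hmin.2.2.2.1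
        (hmin.2.2.2.2 d (by omega) (by omega)))
    exact inC8_of_hform hf h.two_le hH hs
  have hz := h.card_center_core
  rcases gcd_cases h.prime h.dvd_card with ⟨h1, h2⟩ | ⟨h1, h2⟩ | ⟨h1, h2⟩
  · rw [h2] at hz
    rcases Nat.even_or_odd' e with ⟨d, hd | hd⟩
    · exact Or.inr (hun d hd (Or.inl (by rw [hz]; exact h.prime)))
    · refine Or.inl ⟨_, ⟨hR.symplecticType h, absIrr_of_spanAlg_eq_top (hR.span h), p, e, hrp,
        hmin, Or.inl ⟨h1, ⟨d, hd⟩, hz, m, hm1, ?_⟩⟩, ⟨m, hm⟩, le_subgroupNormalizer hR.normal⟩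
      rw [hcard, hz, hm]; ring
  · rw [h2] at hz
    subst h1
    have hpo : Odd p := hp.odd_of_ne_two hrp.symm
    by_cases he1 : e = 1
    · refine Or.inl ⟨_, ⟨hR.symplecticType h, absIrr_of_spanAlg_eq_top (hR.span h), p, e, hrp,
        hmin, Or.inr (Or.inl ⟨rfl, he1, hz, ?_, m, ?_⟩)⟩, ⟨m, hm⟩, le_subgroupNormalizer hR.normal⟩
      · rw [hm] at hn ⊢
        rcases m with _ | _ | m
        · omega
        · omega
        · rw [pow_succ, pow_succ]; have := Nat.one_le_two_pow (n := m); omega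
      · rw [hcard, hz, hm]; ring
    · refine Or.inr (hun 1 ?_ (Or.inr ⟨hz, hpo⟩))
      by_contra h3
      apply hmin.2.2.2.2 2 two_pos (by omega)
      rw [hz]
      obtain ⟨k, rfl⟩ := hpo
      exact ⟨k * k + k, by rw [Nat.sub_eq_iff_eq_add (Nat.one_le_pow _ _ (by omega))]; ring⟩
  · rw [h2] at hz
    obtain ⟨ε, f, hf, hs⟩ := hR.exists_hform h (σ := RingHom.id F) (fun _ => rfl) fun c hc => by
      rw [hz] at hc
      simpa using pow_eq_inv_of_dvd (k := 1) hc dvd_rfl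
    exact Or.inr (inC8_of_hform hf h.two_le hH hs)

lemma fixes_of_fixesForm {P : Subgroup (GL ι F)} {f : (ι → F) → (ι → F) → F}
    (h : FixesForm (matrixSet P) f) :
    ∀ x ∈ P, ∀ u v, f ((x : Matrix ι ι F) *ᵥ u) ((x : Matrix ι ι F) *ᵥ v) = f u v :=
  fun x hx => h _ ⟨x, hx, rfl⟩

lemma fixes_of_fixesQuadForm {P : Subgroup (GL ι F)} {Q : (ι → F) → F}
    (h : FixesQuadForm (matrixSet P) Q) :
    ∀ x ∈ P, ∀ u v, QuadraticMap.polar Q ((x : Matrix ι ι F) *ᵥ u) ((x : Matrix ι ι F) *ᵥ v) =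
      QuadraticMap.polar Q u v := fun x hx u v => by
  simp only [QuadraticMap.polar, ← Matrix.mulVec_add, h _ ⟨x, hx, rfl⟩]

theorem linear_resid [Fintype F] (hn : 2 ≤ Fintype.card ι) {H P : Subgroup (GL ι F)}
    (hH : Irr H) (h : Resid (H ⊔ scalars ι F) P) :
    InC5 H ∨ InC8 H ∨ InLinearResidualClass H := by
  have : Nonempty ι := Fintype.card_pos_iff.mp (by omega)
  have hn' : ∀ g ∈ H, ∀ x ∈ P, g * x * g⁻¹ ∈ P := fun g hg => h.normal g (Subgroup.mem_sup_left hg)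
  by_cases h5 : ∃ F₀ : Subfield F, F₀ ≠ ⊤ ∧ RealisableOver F₀ (matrixSet P)
  · obtain ⟨F₀, h1, h2⟩ := h5
    exact Or.inl (inC5_of_realisable h.span hn' h1 h2)
  push Not at h5
  have key : ∀ {σ : F →+* F} {ε : F} {f : (ι → F) → (ι → F) → F}, HForm σ ε f →
      (∀ x ∈ P, ∀ u v, f ((x : Matrix ι ι F) *ᵥ u) ((x : Matrix ι ι F) *ᵥ v) = f u v) → InC8 H :=
    fun hf hfix => inC8_of_hform hf hn hH fun g hg =>
      hf.mem_similarityGroup_of_normalizes h.span hfix (hn' g hg)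
  right
  by_cases h8 : InC8 H
  · exact Or.inl h8
  refine Or.inr ⟨P, h.core h5, ?_, ?_, ?_⟩
  · rintro ⟨Q, h1, h2⟩; exact h8 (key (hform_of_quad h1) (fixes_of_fixesQuadForm h2))
  · rintro ⟨f, h1, h2⟩; exact h8 (key (hform_of_symplectic h1) (fixes_of_fixesForm h2))
  · rintro ⟨σ, f, h1, h2⟩; exact h8 (key (hform_of_unitary h1) (fixes_of_fixesForm h2))

theorem decomp_or_field [Fintype F] [Nonempty ι] {H : Subgroup (GL ι F)} (hH : Irr H)
    (C : Subalgebra F (Matrix ι ι F)) (hc : ∀ x ∈ C, ∀ y ∈ C, x * y = y * x)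
    (hn : ∀ h ∈ H, ∀ x ∈ C, cj h x ∈ C) (hne : C ≠ ⊥) :
    (∃ (t m : ℕ) (D : Fin t → Submodule F (ι → F)), IsMDecomposition m D ∧
      H ≤ decompositionStabilizer D) ∨
    ∃ (r : ℕ) (K : Subalgebra F (Matrix ι ι F)), r.Prime ∧ IsFieldSubalgebra r K ∧
      H ≤ subalgebraNormalizer K := by
  by_cases hid : ∀ e ∈ C, e * e = e → e = 0 ∨ e = 1
  · obtain ⟨r, K, h1, h2, -, h3⟩ := exists_prime_subfield_normalized C hc
      (exists_inv_of_no_idempotent hH C hc hn hid) hn hne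
    exact Or.inr ⟨r, K, h1, h2, h3⟩
  · push Not at hid
    obtain ⟨e₀, h1, h2, h3, h4⟩ := hid
    obtain ⟨t, m, e, -, -, h5, h6, -⟩ := exists_decomposition_of_idempotents hH
      {e | e ∈ C ∧ e * e = e} (fun e he => he.2) (fun e he f hf => hc e he.1 f hf.1)
      (fun e he f hf => ⟨C.mul_mem he.1 hf.1, by
        rw [mul_assoc, ← mul_assoc f, ← hc e he.1 f hf.1, mul_assoc e, hf.2, ← mul_assoc, he.2]⟩)
      (fun h hh e he => ⟨hn h hh e he.1, by rw [← map_mul, he.2]⟩) ⟨h1, h2⟩ h3 h4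
    exact Or.inl ⟨t, m, _, h5, h6⟩

lemma cj_mem_range {H N : Subgroup (GL ι F)} (hn : ∀ h ∈ H, ∀ x ∈ N, h * x * h⁻¹ ∈ N)
    {A : Subalgebra F (Matrix ι ι F)} (hA : A = spanAlg F N) :
    ∀ h ∈ H, ∀ X ∈ A, cj h X ∈ A := fun h hh X hX => by
  rw [hA] at hX ⊢; exact cj_mem_spanAlg (hn h hh) hX

/-- the cases of the structure theorem for linear groups -/
def LinCase [Fintype F] (H : Subgroup (GL ι F)) : Prop :=
  (∃ W : Submodule F (ι → F), W ≠ ⊥ ∧ W ≠ ⊤ ∧ H ≤ subspaceStabilizer W) ∨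
  (∃ (t m : ℕ) (D : Fin t → Submodule F (ι → F)), IsMDecomposition m D ∧
      H ≤ decompositionStabilizer D) ∨
  (∃ (r : ℕ) (K : Subalgebra F (Matrix ι ι F)), r.Prime ∧ IsFieldSubalgebra r K ∧
      H ≤ subalgebraNormalizer K) ∨
  (∃ (a b : ℕ) (e : ι ≃ Fin a × Fin b) (P : GL ι F), 2 ≤ a ∧ a < b ∧
      H ≤ tensorProductSubgroup a b e P) ∨
  InC5 H ∨
  (∃ (r : ℕ) (R : Subgroup (GL ι F)), IsLinearSymplecticTypeData r R ∧
      (∃ m, Fintype.card ι = r ^ m) ∧ H ≤ subgroupNormalizer R) ∨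
  (∃ (m t : ℕ) (e : ι ≃ (Fin t → Fin m)) (P : GL ι F), 3 ≤ m ∧ 2 ≤ t ∧
      H ≤ tensorWreathSubgroup m t e P) ∨
  InC8 H ∨ InLinearResidualClass H

theorem linCase [Fintype F] (hn : 3 ≤ Fintype.card ι) (H : Subgroup (GL ι F)) : LinCase H := by
  have : Nonempty ι := Fintype.card_pos_iff.mp (by omega)
  by_cases hH : Irr H
  swap
  · exact Or.inl (exists_stab_of_not_irr hH)
  have hw : ∀ (m t : ℕ) (e : ι ≃ (Fin t → Fin m)) (P : GL ι F), 2 ≤ m → 2 ≤ t →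
      H ≤ tensorWreathSubgroup m t e P → LinCase H := by
    intro m t e P hm ht hle
    by_cases h2 : m = 2
    · subst h2
      obtain ⟨f, hf, hs⟩ := exists_hform_wreath_two e P
      iterate 7 right
      exact Or.inl (inC8_of_hform hf (by omega) hH (hle.trans hs))
    · iterate 6 right
      exact Or.inl ⟨m, t, e, P, by omega, ht, hle⟩
  rcases master (H := H ⊔ scalars ι F) (by omega) le_sup_right (irr_sup_scalars.mpr hH) with
    ⟨N, -, -, h1, h2⟩ | ⟨N, a, φ, -, h1, h2, h3, h4⟩ | ⟨N, r, h⟩ | ⟨L, t, m, φ₀, φ, h⟩ | ⟨P, h⟩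
  · rcases decomp_or_field hH (ctr N) (ctr_comm N)
      (fun g hg => cj_mem_ctr h1 g (Subgroup.mem_sup_left hg)) h2 with h | h
    · exact Or.inr (Or.inl h)
    · exact Or.inr (Or.inr (Or.inl h))
  · obtain ⟨b, e, P, hb, -, h5⟩ := exists_tensor_of_algHom (by omega) φ h4
    have hle : H ≤ tensorProductSubgroup a b e P := fun g hg =>
      h5 g (cj_mem_range h1 h3 g (Subgroup.mem_sup_left hg))
    rcases lt_trichotomy a b with hab | rfl | hab
    · iterate 3 right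
      exact Or.inl ⟨a, b, e, P, h2, hab, hle⟩
    · obtain ⟨e', P', -, -, h6⟩ := exists_wreath_of_kron (by omega) e P 1
      exact hw a 2 e' P' h2 le_rfl (hle.trans h6)
    · iterate 3 right
      exact Or.inl ⟨b, a, _, P, hb, hab, by rwa [tensorProductSubgroup_swap]⟩
  · rcases linear_extra hn (irr_sup_scalars.mpr hH) h with ⟨F₀, s, P, h1, h2, h3⟩ | ⟨R, h1, h2, h3⟩ | h1
    · iterate 4 right
      exact Or.inl ⟨F₀, s, P, h1, h2, le_sup_left.trans h3⟩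
    · iterate 5 right
      exact Or.inl ⟨r, R, h1, h2, le_sup_left.trans h3⟩
    · iterate 7 right
      exact Or.inl (h1.mono le_sup_left)
  · obtain ⟨e, P, -, h1⟩ := h.exists_wreath
    exact hw m t e P h.two_le_m h.two_le_t (le_sup_left.trans h1)
  · rcases linear_resid (by omega) hH h with h | h | h
    · iterate 4 right
      exact Or.inl h
    · iterate 7 right
      exact Or.inl h
    · iterate 8 right
      exact h

end Cfsg.Agent.H18
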