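import Cfsg.Agent.H18.TensorPow

/-! The form-independent part of the structure theorem for irreducible linear groups. -/

set_option autoImplicit false

namespace Cfsg.Agent.H18

open Cfsg.Geo
open scoped MatrixGroups Matrix Kronecker commutatorElement

variable {ι : Type} [Fintype ι] [DecidableEq ι] {F : Type*} [Field F]

/-- conjugate subgroup -/
def cjS {G : Type*} [Group G] (h : G) (T : Subgroup G) : Subgroup G :=
  T.map (MulAut.conj h).toMonoidHom

section cjS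
variable {G : Type*} [Group G]

lemma mem_cjS {h x : G} {T : Subgroup G} : x ∈ cjS h T ↔ h⁻¹ * x * h ∈ T := by
  constructor
  · rintro ⟨y, hy, rfl⟩; simpa [mul_assoc] using hy
  · exact fun hx => ⟨_, hx, by simp [mul_assoc]⟩

lemma conj_mem_cjS {h x : G} {T : Subgroup G} (hx : x ∈ T) : h * x * h⁻¹ ∈ cjS h T := ⟨x, hx, rfl⟩

lemma cjS_cjS (h k : G) (T : Subgroup G) : cjS h (cjS k T) = cjS (h * k) T := by
  ext x; simp [mem_cjS, mul_assoc]

lemma cjS_one (T : Subgroup G) : cjS 1 T = T := by ext x; simp [mem_cjS]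

lemma cjS_commutator (h : G) (T U : Subgroup G) : cjS h ⁅T, U⁆ = ⁅cjS h T, cjS h U⁆ :=
  Subgroup.map_commutator _ _ _

lemma cjS_eq_of_normal {H T : Subgroup G} (hn : ∀ h ∈ H, ∀ x ∈ T, h * x * h⁻¹ ∈ T) {h : G}
    (hh : h ∈ H) : cjS h T = T := by
  ext x
  rw [mem_cjS]
  refine ⟨fun hx => by simpa [mul_assoc] using hn h hh _ hx, fun hx => ?_⟩
  simpa using hn h⁻¹ (H.inv_mem hh) x hx

lemma commutator_self_le (T : Subgroup G) : ⁅T, T⁆ ≤ T :=
  Subgroup.commutator_le.mpr fun x hx y hy => by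
    rw [commutatorElement_def]
    exact T.mul_mem (T.mul_mem (T.mul_mem hx hy) (T.inv_mem hx)) (T.inv_mem hy)

lemma commutator_normal_of {H T : Subgroup G} (hn : ∀ h ∈ H, ∀ x ∈ T, h * x * h⁻¹ ∈ T) :
    ∀ h ∈ H, ∀ x ∈ ⁅T, T⁆, h * x * h⁻¹ ∈ ⁅T, T⁆ := fun h hh x hx => by
  have := conj_mem_cjS (h := h) hx
  rwa [cjS_commutator, cjS_eq_of_normal hn hh] at this

end cjS

lemma commutator_sc_mul (c d : Fˣ) (x y : GL ι F) : ⁅sc ι c * x, sc ι d * y⁆ = ⁅x, y⁆ := by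
  rw [commutatorElement_def, commutatorElement_def,
    sc_comm c, sc_comm d, mul_inv_rev, mul_inv_rev, mul_assoc x, sc_comm c, mul_assoc y,
    ← map_inv, ← map_inv]
  simp only [mul_assoc]
  congr 2
  rw [← mul_assoc (sc ι d), ← mul_assoc (sc ι d * _), ← map_mul, ← map_mul, ← mul_assoc,
    sc_comm, mul_assoc, ← mul_assoc (sc ι _), ← map_mul]
  simp [mul_assoc]

lemma commute_commutator {g : GL ι F} {T : Subgroup (GL ι F)}
    (h : ∀ x ∈ T, g * x * g⁻¹ * x⁻¹ ∈ scalars ι F) : ∀ y ∈ ⁅T, T⁆, g * y = y * g := by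
  have : ⁅T, T⁆ ≤ Subgroup.centralizer {g} := by
    rw [Subgroup.commutator_le]
    intro x hx y hy
    rw [Subgroup.mem_centralizer_iff]
    rintro g' hg'
    rw [Set.mem_singleton_iff.mp hg']
    obtain ⟨c, hc⟩ := mem_scalars_sc.mp (h x hx)
    obtain ⟨d, hd⟩ := mem_scalars_sc.mp (h y hy)
    have h1 : g * x * g⁻¹ = sc ι c * x := by rw [hc]; group
    have h2 : g * y * g⁻¹ = sc ι d * y := by rw [hd]; group
    have h3 : g * ⁅x, y⁆ * g⁻¹ = ⁅x, y⁆ := by
      rw [conjugate_commutatorElement, h1, h2, commutator_sc_mul]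
    exact mul_inv_eq_iff_eq_mul.mp h3
  exact fun y hy => Subgroup.mem_centralizer_iff.mp (this hy) g rfl

lemma commutator_sup_scalars (T : Subgroup (GL ι F)) :
    ⁅T ⊔ scalars ι F, T ⊔ scalars ι F⁆ = ⁅T, T⁆ := by
  refine le_antisymm ?_ (Subgroup.commutator_mono le_sup_left le_sup_left)
  rw [Subgroup.commutator_le]
  intro x hx y hy
  obtain ⟨x, hx', c, rfl⟩ := mem_sup_scalars.mp hx
  obtain ⟨y, hy', d, rfl⟩ := mem_sup_scalars.mp hy
  rw [commutator_sc_mul]; exact Subgroup.commutator_mem_commutator hx' hy'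

/-- the centre of the enveloping algebra -/
def ctr (N : Subgroup (GL ι F)) : Subalgebra F (Matrix ι ι F) :=
  spanAlg F N ⊓ Subalgebra.centralizer F (spanAlg F N : Set (Matrix ι ι F))

lemma mem_ctr {N : Subgroup (GL ι F)} {X : Matrix ι ι F} :
    X ∈ ctr N ↔ X ∈ spanAlg F N ∧ ∀ Y ∈ spanAlg F N, Y * X = X * Y := Iff.rfl

lemma ctr_comm (N : Subgroup (GL ι F)) : ∀ x ∈ ctr N, ∀ y ∈ ctr N, x * y = y * x :=
  fun _ hx _ hy => hy.2 _ hx.1

lemma cj_mem_ctr {H N : Subgroup (GL ι F)} (hn : ∀ h ∈ H, ∀ x ∈ N, h * x * h⁻¹ ∈ N) :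
    ∀ h ∈ H, ∀ x ∈ ctr N, cj h x ∈ ctr N := by
  intro h hh x hx
  refine mem_ctr.mpr ⟨cj_mem_spanAlg (hn h hh) hx.1, fun Y hY => ?_⟩
  have := hx.2 _ (cj_mem_spanAlg (h := h⁻¹) (fun x hx => hn h⁻¹ (H.inv_mem hh) x hx) hY)
  rw [← cj_cj_inv h Y, ← map_mul, ← map_mul, this]

lemma HForm.adj_mem_ctr {σ : F →+* F} {ε : F} {f : (ι → F) → (ι → F) → F} (hf : HForm σ ε f)
    {N : Subgroup (GL ι F)} (hN : N ≤ similarityGroup f) : ∀ x ∈ ctr N, adj σ f x ∈ ctr N := by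
  intro x hx
  refine mem_ctr.mpr ⟨hf.adj_mem_spanAlg hN hx.1, fun Y hY => ?_⟩
  rw [← hf.adj_adj Y, ← hf.adj_mul, ← hf.adj_mul, hx.2 _ (hf.adj_mem_spanAlg hN hY)]

/-- `H` permutes transitively the factors of a tensor power decomposition -/
structure TPow (H L : Subgroup (GL ι F)) (t m : ℕ)
    (φ₀ : Matrix (Fin m) (Fin m) F →ₐ[F] Matrix ι ι F)
    (φ : Fin t → Matrix (Fin m) (Fin m) F →ₐ[F] Matrix ι ι F) : Prop where
  two_le_t : 2 ≤ t
  two_le_m : 2 ≤ m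
  comm : ∀ i j, i ≠ j → ∀ X Y, Commute (φ i X) (φ j Y)
  gen : ∀ A : Subalgebra F (Matrix ι ι F), (∀ i X, φ i X ∈ A) → A = ⊤
  perm : ∀ h ∈ H, ∃ π : Equiv.Perm (Fin t), ∀ i X, ∃ Y, cj h (φ i X) = φ (π i) Y
  conj : ∀ i, ∃ h ∈ H, ∀ X, φ i X = cj h (φ₀ X)
  le : L ≤ H
  perfect : ⁅L, L⁆ = L
  range : φ₀.range = spanAlg F L

/-- `H` is almost simple modulo scalars with absolutely irreducible socle -/
structure Resid (H P : Subgroup (GL ι F)) : Prop where
  le : P ≤ ⁅H, H⁆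
  normal : ∀ h ∈ H, ∀ x ∈ P, h * x * h⁻¹ ∈ P
  perfect : ⁅P, P⁆ = P
  simple : IsSimpleGroup (P ⧸ (scalars ι F).subgroupOf P)
  nonabelian : ¬ IsMulCommutative (P ⧸ (scalars ι F).subgroupOf P)
  span : spanAlg F P = ⊤

lemma Resid.core [Nonempty ι] {H P : Subgroup (GL ι F)} (h : Resid (H ⊔ scalars ι F) P)
    (hs : ∀ F₀ : Subfield F, F₀ ≠ ⊤ → ¬ RealisableOver F₀ (matrixSet P)) : IsResidualCore H P where
  le := h.le.trans (by rw [commutator_sup_scalars]; exact commutator_self_le H)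
  normal g hg := h.normal g (Subgroup.mem_sup_left hg)
  perfect := h.perfect
  simple := h.simple
  nonabelian := h.nonabelian
  centralizer_scalar g _ hc := mem_scalars_of_commute h.span fun x hx =>
    commute_commutator hc x (h.perfect.symm ▸ hx)
  absIrred := absIrr_of_spanAlg_eq_top h.span
  no_subfield := hs

lemma not_comm_of_range {m : ℕ} (hm : 0 < m) {φ : Matrix (Fin m) (Fin m) F →ₐ[F] Matrix ι ι F}
    {x y : Matrix ι ι F} (hx : x ∈ φ.range) (hy : y ∈ φ.range) (h : x * y ≠ y * x) : 2 ≤ m := by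
  by_contra hlt
  obtain rfl : m = 1 := by omega
  obtain ⟨X, rfl⟩ := hx
  obtain ⟨Y, rfl⟩ := hy
  apply h
  change φ X * φ Y = φ Y * φ X
  rw [← map_mul, ← map_mul]; congr 1
  ext i j
  simp [Matrix.mul_apply, Subsingleton.elim i 0, Subsingleton.elim j 0, mul_comm]

theorem extraN_of_abelian [Finite F] (hn : 2 ≤ Fintype.card ι) {H N : Subgroup (GL ι F)}
    (h1 : scalars ι F ≤ N) (h2 : N ≤ H) (h3 : ∀ h ∈ H, ∀ x ∈ N, h * x * h⁻¹ ∈ N)
    (h4 : spanAlg F N = ⊤) (h5 : ⁅N, N⁆ ≤ scalars ι F)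
    (hmin : ∀ M, scalars ι F ≤ M → M ≤ N → (∀ h ∈ H, ∀ x ∈ M, h * x * h⁻¹ ∈ M) →
      M = scalars ι F ∨ M = N) : ∃ r, ExtraN H N r := by
  have hc : ∀ x ∈ N, ∀ y ∈ N, x * y * x⁻¹ * y⁻¹ ∈ scalars ι F := fun x hx y hy =>
    h5 (Subgroup.commutator_mem_commutator hx hy)
  let π := QuotientGroup.mk' (scalars ι F)
  have hπ : ∀ x, π x = 1 ↔ x ∈ scalars ι F := fun x => QuotientGroup.eq_one_iff x
  have hcq : ∀ x ∈ N, ∀ y ∈ N, Commute (π x) (π y) := fun x hx y hy => by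
    rw [← commutatorElement_eq_one_iff_commute, ← map_commutatorElement, hπ]
    exact hc x hx y hy
  obtain ⟨x, hx, y, -, hxy⟩ := exists_not_comm hn h4
  have hx1 : π x ≠ 1 := fun h => hxy (scalars_comm ((hπ x).mp h) y)
  obtain ⟨r, hr, hdvd⟩ := Nat.exists_prime_and_dvd (mt orderOf_eq_one_iff.mp hx1)
  obtain ⟨k, hk⟩ := hdvd
  have hpos : 0 < orderOf (π x) := orderOf_pos _
  let M : Subgroup (GL ι F) :=
    { carrier := {x | x ∈ N ∧ x ^ r ∈ scalars ι F}
      mul_mem' := fun {a b} ha hb => ⟨N.mul_mem ha.1 hb.1, by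
        rw [← hπ, map_pow, map_mul, (hcq a ha.1 b hb.1).mul_pow, ← map_pow, ← map_pow,
          (hπ _).mpr ha.2, (hπ _).mpr hb.2, one_mul]⟩
      one_mem' := ⟨N.one_mem, by rw [one_pow]; exact one_mem _⟩
      inv_mem' := fun {a} ha => ⟨N.inv_mem ha.1, by rw [inv_pow]; exact inv_mem ha.2⟩ }
  rcases hmin M (fun z hz => ⟨h1 hz, pow_mem hz r⟩) (fun z hz => hz.1) (fun h hh z hz =>
    ⟨h3 h hh z hz.1, by rw [conj_pow, conj_scalar hz.2]; exact hz.2⟩) with h | h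
  · exfalso
    have : x ^ k ∈ M := ⟨pow_mem hx k, by
      rw [← hπ, ← pow_mul, map_pow, mul_comm, ← hk, pow_orderOf_eq_one]⟩
    rw [h, ← hπ, map_pow] at this
    have hk0 : 0 < k := Nat.pos_of_ne_zero (by rintro rfl; rw [mul_zero] at hk; omega)
    have h6 := Nat.le_of_dvd hk0 (orderOf_dvd_of_pow_eq_one this)
    have := hr.two_le
    nlinarith
  · exact ⟨r, hr, hn, h1, h2, h3, h4, hc, fun z hz => (h.ge hz).2, hmin⟩

theorem tpow_or_resid [Finite F] (hn : 2 ≤ Fintype.card ι) {H N : Subgroup (GL ι F)}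
    (h1 : scalars ι F ≤ N) (h2 : N ≤ H) (h3 : ∀ h ∈ H, ∀ x ∈ N, h * x * h⁻¹ ∈ N)
    (h4 : spanAlg F N = ⊤) (h5 : ¬ ⁅N, N⁆ ≤ scalars ι F)
    (hmin : ∀ M, scalars ι F ≤ M → M ≤ N → (∀ h ∈ H, ∀ x ∈ M, h * x * h⁻¹ ∈ M) →
      M = scalars ι F ∨ M = N) :
    (∃ L t m φ₀ φ, TPow H L t m φ₀ φ) ∨ ∃ P, Resid H P := by
  classical
  have : Nonempty ι := Fintype.card_pos_iff.mp (by omega)
  set Z := scalars ι F with hZ
  have hNZ : N ≠ Z := fun h => h5 (h ▸ commutator_self_le N)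
  obtain ⟨T, hT⟩ := exists_minimal_of_wellFoundedLT
    (fun T : Subgroup (GL ι F) => Z < T ∧ T ≤ N ∧ ∀ h ∈ N, ∀ x ∈ T, h * x * h⁻¹ ∈ T)
    ⟨N, lt_of_le_of_ne h1 hNZ.symm, le_rfl, fun h hh x hx => h3 h (h2 hh) x hx⟩
  obtain ⟨hT1, hT2, hT3⟩ := hT.prop
  have hTmin : ∀ S, Z ≤ S → S ≤ T → (∀ h ∈ N, ∀ x ∈ S, h * x * h⁻¹ ∈ S) → S = Z ∨ S = T := by
    intro S h6 h7 h8
    by_cases h9 : S = Z
    · exact Or.inl h9
    · exact Or.inr (le_antisymm h7
        (hT.le_of_le ⟨lt_of_le_of_ne h6 (Ne.symm h9), h7.trans hT2, h8⟩ h7))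
  have hcZ : ∀ h, Z ≤ cjS h T := fun h z hz => by
    rw [mem_cjS]; simpa [conj_scalar hz h⁻¹ ▸ hz] using
      hT1.le (by simpa using (conj_scalar hz h⁻¹).symm ▸ hz : h⁻¹ * z * h⁻¹⁻¹ ∈ Z)
  have hcN : ∀ h ∈ H, cjS h T ≤ N := by
    rintro h hh _ ⟨x, hx, rfl⟩; exact h3 h hh x (hT2 hx)
  have hcn : ∀ h ∈ H, ∀ g ∈ N, ∀ x ∈ cjS h T, g * x * g⁻¹ ∈ cjS h T := by
    intro h hh g hg x hx
    rw [mem_cjS] at hx ⊢
    have := hT3 _ (h3 h⁻¹ (H.inv_mem hh) g hg) _ hx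
    simpa [mul_assoc] using this
  -- distinct conjugates commute modulo scalars
  have hcomm0 : ∀ h ∈ H, cjS h T ≠ T → ∀ x ∈ T, ∀ y ∈ cjS h T, y * x * y⁻¹ * x⁻¹ ∈ Z := by
    intro h hh hne x hx y hy
    rcases hTmin (T ⊓ cjS h T) (le_inf hT1.le (hcZ h)) inf_le_left (fun g hg z hz =>
      ⟨hT3 g hg z hz.1, hcn h hh g hg z hz.2⟩) with h6 | h6
    · rw [← h6]
      refine ⟨T.mul_mem (hT3 y (hcN h hh hy) x hx) (T.inv_mem hx), ?_⟩
      have := (cjS h T).mul_mem hy (hcn h hh x (hT2 hx) _ ((cjS h T).inv_mem hy))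
      simpa [mul_assoc] using this
    · exfalso
      apply hne
      have h7 : T ≤ cjS h T := h6.ge.trans inf_le_right
      refine (Subgroup.eq_of_le_of_card_ge h7 (le_of_eq ?_)).symm
      exact Subgroup.card_map_of_injective (MulAut.conj h).injective
  have hcomm : ∀ h ∈ H, ∀ k ∈ H, cjS h T ≠ cjS k T → ∀ x ∈ cjS k T, ∀ y ∈ cjS h T,
      y * x * y⁻¹ * x⁻¹ ∈ Z := by
    intro h hh k hk hne x hx y hy
    have := hcomm0 (k⁻¹ * h) (H.mul_mem (H.inv_mem hk) hh) (fun h0 => hne (by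
      have h6 := congrArg (cjS k) h0
      rwa [cjS_cjS, mul_inv_cancel_left] at h6)) _ (mem_cjS.mp hx) (k⁻¹ * y * k) (by
        rw [mem_cjS] at hy ⊢; simpa [mul_assoc] using hy)
    have h6 := conj_scalar this k
    have h7 : y * x * y⁻¹ * x⁻¹ = k⁻¹ * y * k * (k⁻¹ * x * k) * (k⁻¹ * y * k)⁻¹ * (k⁻¹ * x * k)⁻¹ := by
      rw [← h6]; group
    rw [h7]; exact this
  -- the conjugates generate `N`
  have hgen : ∀ K : Subgroup (GL ι F), (∀ h ∈ H, cjS h T ≤ K) → N ≤ K := by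
    intro K hK
    rcases hmin (⨆ h : H, cjS (h : GL ι F) T) ((hcZ 1).trans (le_iSup_of_le 1 le_rfl))
      (iSup_le fun h => hcN h h.2) (fun g hg x hx => by
        have : cjS g (⨆ h : H, cjS (h : GL ι F) T) ≤ ⨆ h : H, cjS (h : GL ι F) T := by
          rw [cjS, Subgroup.map_iSup]
          refine iSup_le fun h => le_iSup_of_le ⟨g * h, H.mul_mem hg h.2⟩ ?_
          exact (cjS_cjS g h T).le
        exact this (conj_mem_cjS hx)) with h6 | h6
    · exfalso
      apply hT1.not_ge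
      rw [← h6, ← cjS_one T]
      exact le_iSup_of_le (1 : H) (by rw [cjS_one]; exact (cjS_one T).ge)
    · rw [← h6]; exact iSup_le fun h => hK h h.2
  have hnab : ¬ ⁅T, T⁆ ≤ Z := by
    intro h6
    apply h5
    let π := QuotientGroup.mk' Z
    have hπ : ∀ x y, Commute (π x) (π y) ↔ x * y * x⁻¹ * y⁻¹ ∈ Z := fun x y => by
      rw [← commutatorElement_eq_one_iff_commute, ← map_commutatorElement]
      exact QuotientGroup.eq_one_iff _
    have h7 : ∀ h ∈ H, ∀ k ∈ H, ∀ x ∈ cjS k T, ∀ y ∈ cjS h T, Commute (π y) (π x) := by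
      intro h hh k hk x hx y hy
      rw [hπ]
      by_cases hne : cjS h T = cjS k T
      · rw [← hne] at hx
        have h8 := Subgroup.commutator_mem_commutator hy hx
        rw [← cjS_commutator] at h8
        obtain ⟨z, hz, h9⟩ := h8
        change h * z * h⁻¹ = y * x * y⁻¹ * x⁻¹ at h9
        rw [← h9, conj_scalar (h6 hz)]; exact h6 hz
      · exact hcomm h hh k hk hne x hx y hy
    rw [Subgroup.commutator_le]
    intro y hy x hx
    refine (hπ y x).mp ?_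
    have h8 : ∀ h ∈ H, ∀ y ∈ cjS h T, Commute (π y) (π x) := fun h hh y hy =>
      Subgroup.mem_centralizer_iff.mp (hgen ((Subgroup.centralizer {π y}).comap π)
        (fun k hk x hx => Subgroup.mem_centralizer_iff.mpr (by
          rintro _ rfl; exact h7 h hh k hk x hx y hy)) hx) _ rfl
    exact (Subgroup.mem_centralizer_iff.mp (hgen ((Subgroup.centralizer {π x}).comap π)
      (fun k hk y hy => Subgroup.mem_centralizer_iff.mpr (by
        rintro _ rfl; exact (h8 k hk y hy).symm)) hy) _ rfl).symm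
  set L := ⁅T, T⁆ with hL
  have hLT : L ≤ T := commutator_self_le T
  have hLn : ∀ h ∈ N, ∀ x ∈ L, h * x * h⁻¹ ∈ L := commutator_normal_of hT3
  have hLZ : L ⊔ Z = T := by
    rcases hTmin (L ⊔ Z) le_sup_right (sup_le hLT hT1.le) (sup_scalars_normal hLn) with h6 | h6
    · exact absurd (le_sup_left.trans h6.le) hnab
    · exact h6
  have hperf : ⁅L, L⁆ = L := by rw [← commutator_sup_scalars, hLZ]
  have hspan : spanAlg F L = spanAlg F T := by rw [← hLZ, spanAlg_sup_scalars]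
  by_cases hone : ∀ h ∈ H, cjS h T = T
  · right
    have hTN : T = N := le_antisymm hT2 (hgen T fun h hh => (hone h hh).le)
    have hnc : ∃ x ∈ L, ∃ y ∈ L, ⁅x, y⁆ ∉ Z := by
      by_contra! h6
      exact hnab (hperf ▸ Subgroup.commutator_le.mpr h6)
    obtain ⟨x, hx, y, hy, hxy⟩ := hnc
    have hnc' : ¬ Commute (QuotientGroup.mk ⟨x, hx⟩ : L ⧸ Z.subgroupOf L)
        (QuotientGroup.mk ⟨y, hy⟩) := by
      intro h6
      rw [← commutatorElement_eq_one_iff_commute] at h6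
      apply hxy
      have h7 : (QuotientGroup.mk ⁅(⟨x, hx⟩ : L), ⟨y, hy⟩⁆ : L ⧸ Z.subgroupOf L) = 1 := h6
      exact Subgroup.mem_subgroupOf.mp ((QuotientGroup.eq_one_iff _).mp h7)
    refine ⟨L, Subgroup.commutator_mono (hT2.trans h2) (hT2.trans h2),
      commutator_normal_of (hTN ▸ h3), hperf, ?_, fun hc => hnc' (hc.is_comm.comm _ _),
      by rw [hspan, hTN, h4]⟩
    have hnt : Nontrivial (L ⧸ Z.subgroupOf L) := by
      by_contra h6
      rw [not_nontrivial_iff_subsingleton] at h6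
      exact hnc' (Subsingleton.elim _ _)
    refine ⟨fun A hA => ?_⟩
    let B : Subgroup (GL ι F) := (A.comap (QuotientGroup.mk' _)).map L.subtype
    have hBn : ∀ h ∈ L, ∀ x ∈ B, h * x * h⁻¹ ∈ B := by
      rintro h hh _ ⟨x, hx, rfl⟩
      exact ⟨(⟨h, hh⟩ : L) * x * (⟨h, hh⟩ : L)⁻¹,
        (hA.comap (QuotientGroup.mk' _)).conj_mem x hx (⟨h, hh⟩ : L), rfl⟩
    rcases hTmin (B ⊔ Z) le_sup_right (sup_le ((Subgroup.map_subtype_le _).trans hLT) hT1.le)
      (by rw [← hTN, ← hLZ]; exact normal_sup_scalars (sup_scalars_normal hBn)) with h6 | h6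
    · left
      rw [eq_bot_iff]
      intro a ha
      obtain ⟨b, rfl⟩ := QuotientGroup.mk_surjective a
      rw [Subgroup.mem_bot, QuotientGroup.eq_one_iff, Subgroup.mem_subgroupOf]
      exact h6.le (Subgroup.mem_sup_left ⟨b, ha, rfl⟩)
    · right
      rw [eq_top_iff]
      intro a _
      obtain ⟨b, rfl⟩ := QuotientGroup.mk_surjective a
      obtain ⟨_, ⟨b', hb', rfl⟩, c, hc⟩ := mem_sup_scalars.mp (h6.ge (hLT b.2))
      have : (QuotientGroup.mk b : L ⧸ Z.subgroupOf L) = QuotientGroup.mk b' := by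
        rw [eq_comm, QuotientGroup.eq, Subgroup.mem_subgroupOf, Subgroup.coe_mul, Subgroup.coe_inv,
          hc, sc_comm]
        simpa using sc_mem c
      rw [this]; exact hb'
  · left
    -- elements of `L` commute with the other conjugates
    have hLc : ∀ h ∈ H, ∀ k ∈ H, cjS h T ≠ cjS k T → ∀ x ∈ cjS k L, ∀ y ∈ cjS h T,
        y * x = x * y := by
      intro h hh k hk hne x hx y hy
      rw [hL, cjS_commutator] at hx
      exact commute_commutator (fun x hx => hcomm h hh k hk hne x hx y hy) x hx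
    have hcLT : ∀ h, cjS h L ≤ cjS h T := fun h => Subgroup.map_mono hLT
    obtain ⟨m, φ₀, hm, hφ₀⟩ := exists_matrix_algHom_of_irr (k := F) (spanAlg F L)
      (irr_of_spanAlg_eq_top h4) (fun h hh X hX => cj_mem_spanAlg (hLn h hh) hX) (fun Y hY hc => by
        refine scalar_of_commute h4 fun x hx => ?_
        let K : Subgroup (GL ι F) :=
          { carrier := {g | Y * (g : Matrix ι ι F) = g * Y}
            mul_mem' := fun {a b} ha hb => by
              simp only [Set.mem_setOf_eq, Units.val_mul] at *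
              rw [← mul_assoc, ha, mul_assoc, hb, mul_assoc]
            one_mem' := by simp
            inv_mem' := fun {a} ha => by
              simp only [Set.mem_setOf_eq] at *
              exact (Commute.units_inv_right ha) }
        refine hgen K (fun h hh g hg => ?_) hx
        by_cases hne : cjS h T = cjS 1 T
        · rw [hne, cjS_one] at hg
          exact hc _ (hspan ▸ coe_mem_spanAlg hg)
        · exact (commute_of_mem_spanAlg (fun x hx => by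
            rw [← Units.val_mul, ← Units.val_mul,
              hLc h hh 1 H.one_mem hne x (by rwa [cjS_one]) g hg]) hY).symm)
    let S := Set.range fun h : H => cjS (h : GL ι F) T
    let eS := Finite.equivFin S
    have hS : ∀ s : S, ∃ h ∈ H, cjS h T = s := fun ⟨_, h, rfl⟩ => ⟨h, h.2, rfl⟩
    choose g hg hgS using hS
    let φ : Fin (Nat.card S) → Matrix (Fin m) (Fin m) F →ₐ[F] Matrix ι ι F := fun i =>
      (cj (g (eS.symm i))).toAlgHom.comp φ₀
    have hφ : ∀ i X, φ i X ∈ spanAlg F (cjS (g (eS.symm i)) L) := fun i X =>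
      cj_mem_spanAlg (fun x hx => conj_mem_cjS hx) (hφ₀ ▸ ⟨X, rfl⟩ : φ₀ X ∈ spanAlg F L)
    have hφ' : ∀ i, ∀ Y ∈ spanAlg F (eS.symm i : Subgroup (GL ι F)), ∃ X, Y = φ i X := by
      intro i Y hY
      have : cj (g (eS.symm i))⁻¹ Y ∈ φ₀.range := by
        rw [hφ₀, hspan]
        refine cj_mem_spanAlg (fun x hx => ?_) hY
        rw [← hgS, mem_cjS] at hx
        simpa using hx
      obtain ⟨X, hX⟩ := this
      refine ⟨X, ?_⟩
      change Y = cj _ (φ₀ X)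
      rw [show φ₀ X = _ from hX, cj_cj_inv]
    refine ⟨L, Nat.card S, m, φ₀, φ, ?_, ?_, ?_, ?_, ?_, fun i => ⟨_, hg _, fun _ => rfl⟩,
      hLT.trans (hT2.trans h2), hperf, hφ₀⟩
    · push Not at hone
      obtain ⟨h, hh, hne⟩ := hone
      have : Nontrivial S := ⟨⟨⟨_, ⟨h, hh⟩, rfl⟩, ⟨_, 1, rfl⟩, fun h0 => hne (by
        simpa [cjS_one] using congrArg Subtype.val h0)⟩⟩
      exact Finite.one_lt_card
    · obtain ⟨x, hx, y, hy, hxy⟩ : ∃ x ∈ L, ∃ y ∈ L, x * y ≠ y * x := by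
        by_contra! h6
        apply hnab
        rw [← hperf, Subgroup.commutator_le]
        intro x hx y hy
        rw [commutatorElement_eq_one_iff_mul_comm.mpr (h6 x hx y hy)]; exact one_mem _
      refine not_comm_of_range hm (hφ₀ ▸ coe_mem_spanAlg hx) (hφ₀ ▸ coe_mem_spanAlg hy)
        fun h0 => hxy (Units.ext h0)
    · intro i j hij X Y
      refine commute_of_mem_spanAlg (R := F) (fun y hy => ?_) (hφ j Y)
      refine (commute_of_mem_spanAlg (R := F) (fun x hx => ?_) (hφ i X)).symm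
      rw [← Units.val_mul, ← Units.val_mul, hLc _ (hg _) _ (hg _) (fun h0 => hij ?_) x hx y
        (hcLT _ hy)]
      rw [hgS, hgS] at h0
      exact (eS.symm.injective (Subtype.ext h0)).symm
    · intro A hA
      rw [eq_top_iff, ← h4]
      refine spanAlg_le fun x hx => ?_
      let K : Subgroup (GL ι F) :=
        { carrier := {g | (g : Matrix ι ι F) ∈ A ∧ ((g⁻¹ : GL ι F) : Matrix ι ι F) ∈ A}
          mul_mem' := fun {a b} ha hb => ⟨A.mul_mem ha.1 hb.1, by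
            rw [mul_inv_rev]; exact A.mul_mem hb.2 ha.2⟩
          one_mem' := ⟨A.one_mem, by rw [inv_one]; exact A.one_mem⟩
          inv_mem' := fun {a} ha => ⟨ha.2, by rw [inv_inv]; exact ha.1⟩ }
      have h6 : ∀ h ∈ H, ∀ y ∈ cjS h T, (y : Matrix ι ι F) ∈ A := by
        intro h hh y hy
        obtain ⟨X, hX⟩ := hφ' (eS ⟨_, ⟨h, hh⟩, rfl⟩) y (by
          rw [Equiv.symm_apply_apply]; exact coe_mem_spanAlg hy)
        rw [hX]; exact hA _ _
      exact (hgen K (fun h hh y hy => ⟨h6 h hh y hy, h6 h hh _ (inv_mem hy)⟩) hx).1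
    · intro h hh
      have hm : ∀ h ∈ H, ∀ s : S, cjS h s ∈ S := fun h hh s =>
        ⟨⟨h * g s, H.mul_mem hh (hg s)⟩, by rw [← hgS s, cjS_cjS]⟩
      let πS : Equiv.Perm S :=
        { toFun := fun s => ⟨_, hm h hh s⟩
          invFun := fun s => ⟨_, hm h⁻¹ (H.inv_mem hh) s⟩
          left_inv := fun s => Subtype.ext (by simp [cjS_cjS, cjS_one])
          right_inv := fun s => Subtype.ext (by simp [cjS_cjS, cjS_one]) }
      refine ⟨(eS.symm.trans πS).trans eS, fun i X => hφ' _ _ ?_⟩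
      simp only [Equiv.trans_apply, Equiv.symm_apply_apply]
      refine cj_mem_spanAlg (fun x hx => ?_) (hφ i X)
      have := hcLT _ hx
      rw [hgS] at this
      exact conj_mem_cjS this

lemma scalars_not_irr (hn : 2 ≤ Fintype.card ι) : ¬ Irr (scalars ι F) := by
  intro h
  obtain ⟨i, j, hij⟩ := Fintype.exists_pair_of_one_lt_card (α := ι) hn
  rcases h (Submodule.span F {Pi.single i 1}) (by
    rintro _ ⟨c, rfl⟩ v hv
    change (sc ι c : Matrix ι ι F) *ᵥ v ∈ _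
    rw [sc_coe, Matrix.smul_mulVec, Matrix.one_mulVec]
    exact Submodule.smul_mem _ _ hv) with h | h
  · rw [Submodule.span_singleton_eq_bot] at h
    simpa using congrFun h i
  · have : (Pi.single j 1 : ι → F) ∈ Submodule.span F {Pi.single i 1} := h ▸ Submodule.mem_top
    obtain ⟨c, hc⟩ := Submodule.mem_span_singleton.mp this
    simpa [hij.symm] using congrFun hc j

/-- The structure theorem for irreducible linear groups over a finite field. -/
theorem master [Finite F] (hn : 2 ≤ Fintype.card ι) {H : Subgroup (GL ι F)}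
    (hZ : scalars ι F ≤ H) (hH : Irr H) :
    (∃ N, scalars ι F < N ∧ N ≤ H ∧ (∀ h ∈ H, ∀ x ∈ N, h * x * h⁻¹ ∈ N) ∧ ctr N ≠ ⊥) ∨
    (∃ (N : Subgroup (GL ι F)) (a : ℕ) (φ : Matrix (Fin a) (Fin a) F →ₐ[F] Matrix ι ι F),
      N ≤ H ∧ (∀ h ∈ H, ∀ x ∈ N, h * x * h⁻¹ ∈ N) ∧ 2 ≤ a ∧ φ.range = spanAlg F N ∧
      φ.range ≠ ⊤) ∨
    (∃ N r, ExtraN H N r) ∨ (∃ L t m φ₀ φ, TPow H L t m φ₀ φ) ∨ ∃ P, Resid H P := by
  have : Nonempty ι := Fintype.card_pos_iff.mp (by omega)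
  have hne : H ≠ scalars ι F := fun h => scalars_not_irr hn (h ▸ hH)
  obtain ⟨N, hN⟩ := exists_minimal_of_wellFoundedLT
    (fun N : Subgroup (GL ι F) => scalars ι F < N ∧ N ≤ H ∧ ∀ h ∈ H, ∀ x ∈ N, h * x * h⁻¹ ∈ N)
    ⟨H, lt_of_le_of_ne hZ hne.symm, le_rfl, fun h hh x hx =>
      H.mul_mem (H.mul_mem hh hx) (H.inv_mem hh)⟩
  obtain ⟨h1, h2, h3⟩ := hN.prop
  have hmin : ∀ M, scalars ι F ≤ M → M ≤ N → (∀ h ∈ H, ∀ x ∈ M, h * x * h⁻¹ ∈ M) →
      M = scalars ι F ∨ M = N := by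
    intro S h6 h7 h8
    by_cases h9 : S = scalars ι F
    · exact Or.inl h9
    · exact Or.inr (le_antisymm h7
        (hN.le_of_le ⟨lt_of_le_of_ne h6 (Ne.symm h9), h7.trans h2, h8⟩ h7))
  by_cases hc : ctr N = ⊥
  swap
  · exact Or.inl ⟨N, h1, h2, h3, hc⟩
  obtain ⟨a, φ, ha, hφ⟩ := exists_matrix_algHom_of_irr (k := F) (spanAlg F N) hH
    (fun h hh X hX => cj_mem_spanAlg (h3 h hh) hX) (fun Y hY hY' => by
      have : Y ∈ ctr N := mem_ctr.mpr ⟨hY, fun X hX => (hY' X hX).symm⟩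
      rw [hc, Algebra.mem_bot] at this
      obtain ⟨c, rfl⟩ := this
      exact ⟨c, Algebra.algebraMap_eq_smul_one c⟩)
  by_cases ht : φ.range = ⊤
  · rw [ht] at hφ
    by_cases h5 : ⁅N, N⁆ ≤ scalars ι F
    · exact Or.inr (Or.inr (Or.inl ⟨N, extraN_of_abelian hn h1.le h2 h3 hφ.symm h5 hmin⟩))
    · exact Or.inr (Or.inr (Or.inr (tpow_or_resid hn h1.le h2 h3 hφ.symm h5 hmin)))
  · refine Or.inr (Or.inl ⟨N, a, φ, h2, h3, ?_, hφ, ht⟩)
    by_contra hlt
    obtain ⟨x, hx, hx'⟩ := SetLike.exists_of_lt h1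
    have : (x : Matrix ι ι F) ∈ ctr N := mem_ctr.mpr ⟨coe_mem_spanAlg hx, fun Y hY => by
      by_contra h0
      exact hlt (not_comm_of_range ha (hφ ▸ hY) (hφ ▸ coe_mem_spanAlg hx) h0)⟩
    rw [hc, Algebra.mem_bot] at this
    obtain ⟨c, hc⟩ := this
    exact hx' (mem_scalars_of_eq_smul (c := c) (by rw [← hc, Algebra.algebraMap_eq_smul_one]))

end Cfsg.Agent.H18
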