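import Cfsg.Agent.H18.MdJ

/-! Normalisers of cubic fields in `SU₃(3)` and `SU₃(5)` are not maximal. -/

set_option autoImplicit false
set_option synthInstance.maxSize 4096

namespace Cfsg.Agent.H18

open Cfsg.Geo Matrix
open scoped MatrixGroups

variable {ι : Type} [Fintype ι] [DecidableEq ι] {F : Type*} [Field F] [Fintype F]
  {σ : F →+* F} {f : (ι → F) → (ι → F) → F} {a : F} {H : Subgroup (GL ι F)}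

/-- centres of reflections -/
def L21F9 : Fin 21 → Fin 3 → F9 :=
  ![![⟨0, 0⟩, ⟨1, 0⟩, ⟨0, 2⟩], ![⟨1, 0⟩, ⟨0, 0⟩, ⟨0, 2⟩], ![⟨1, 0⟩, ⟨0, 1⟩, ⟨1, 0⟩], ![⟨1,
    0⟩, ⟨0, 2⟩, ⟨0, 0⟩], ![⟨1, 0⟩, ⟨0, 2⟩, ⟨0, 1⟩], ![⟨1, 0⟩, ⟨0, 2⟩, ⟨1, 0⟩], ![⟨1, 0⟩, ⟨0,
    2⟩, ⟨1, 1⟩], ![⟨1, 0⟩, ⟨1, 0⟩, ⟨2, 0⟩], ![⟨1, 0⟩, ⟨1, 1⟩, ⟨2, 0⟩], ![⟨1, 0⟩, ⟨1, 2⟩, ⟨0,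
    1⟩], ![⟨1, 0⟩, ⟨1, 2⟩, ⟨0, 2⟩], ![⟨1, 0⟩, ⟨1, 2⟩, ⟨2, 1⟩], ![⟨1, 0⟩, ⟨1, 2⟩, ⟨2, 2⟩],
    ![⟨1, 0⟩, ⟨2, 0⟩, ⟨0, 1⟩], ![⟨1, 0⟩, ⟨2, 0⟩, ⟨1, 2⟩], ![⟨1, 0⟩, ⟨2, 0⟩, ⟨2, 0⟩], ![⟨1, 0⟩,
    ⟨2, 1⟩, ⟨0, 1⟩], ![⟨1, 0⟩, ⟨2, 1⟩, ⟨0, 2⟩], ![⟨1, 0⟩, ⟨2, 1⟩, ⟨1, 0⟩], ![⟨1, 0⟩, ⟨2, 1⟩,
    ⟨2, 0⟩], ![⟨1, 0⟩, ⟨2, 2⟩, ⟨1, 0⟩]]

lemma z7_F9 : ∀ a b c : F9, fm qc (G7 ⟨1, 2⟩) ![a, b, c] ![a, b, c] = 3 →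
    fm qc (G7 ⟨1, 2⟩) (C7 ⟨1, 2⟩ *ᵥ ![a, b, c]) ![a, b, c] = ⟨1, 2⟩ →
    (Matrix.of ![![a, b, c], C7 ⟨1, 2⟩ *ᵥ ![a, b, c],
      C7 ⟨1, 2⟩ *ᵥ C7 ⟨1, 2⟩ *ᵥ ![a, b, c]]).det = 1 →
    ∃ j, ∃ s : F9, ![a, b, c] = s • z7 ⟨1, 2⟩ j := by decide +kernel

theorem SU3_field3 (h : SuH σ 3 f a H) (hn : Fintype.card ι = 3)
    {K : Subalgebra F (Matrix ι ι F)} (hK : IsFieldSubalgebra 3 K) (h1 : IsAdjointClosedFor f K)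
    (hle : H ≤ subalgebraNormalizer K) : False := by
  obtain ⟨φ⟩ := exists_equiv_F9 h.hF
  obtain ⟨m, hm⟩ := h.md7 hn hK h1 hle (φ := φ) (τ := qc) (fun x => by rw [h.tau φ, qc_F9])
    (by decide) (by decide) (by decide) (β := ⟨1, 2⟩) (by decide +kernel) (by decide +kernel)
    (G' := !![⟨1, 0⟩, ⟨2, 0⟩, ⟨0, 2⟩; ⟨2, 0⟩, ⟨1, 0⟩, ⟨2, 0⟩; ⟨0, 1⟩, ⟨2, 0⟩, ⟨1, 0⟩])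
    (by decide +kernel) (by decide +kernel)
  exact h.field7 m hm z7_F9 (by decide +kernel) (by decide +kernel) (by decide +kernel)
    (by decide +kernel) (by decide +kernel) (L := L21F9)
    (pres_PS ![20, 14, 5, 0, 17, 6, 7, 10, 9, 16, 15, 1, 2, 18, 8, 12, 19, 13, 3, 11, 4]
      (by decide +kernel))
    (pres_PS ![8, 15, 17, 1, 11, 18, 0, 4, 6, 10, 13, 7, 20, 9, 2, 3, 12, 14, 19, 5, 16]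
      (by decide +kernel))
    (A := tvm qc (G7 ⟨1, 2⟩) ⟨0, 1⟩ ![⟨0, 0⟩, ⟨0, 0⟩, ⟨1, 0⟩])
    (B := !![⟨2, 0⟩, ⟨0, 0⟩, ⟨0, 0⟩; ⟨0, 1⟩, ⟨0, 2⟩, ⟨2, 1⟩; ⟨1, 0⟩, ⟨2, 2⟩, ⟨0, 1⟩])
    (by decide +kernel) (by decide +kernel) ⟨0, 1, one_ne_zero, (one_smul _ _).symm⟩
    (by decide +kernel) (by decide +kernel) (by decide +kernel)
    (pres_PS ![0, 18, 2, 10, 14, 16, 6, 17, 8, 19, 3, 11, 13, 12, 4, 20, 5, 7, 1, 9, 15]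
      (by decide +kernel)) (by decide +kernel)

/-- centres of reflections -/
def L21F25 : Fin 21 → Fin 3 → F25 :=
  ![![⟨1, 0⟩, ⟨0, 1⟩, ⟨2, 0⟩], ![⟨1, 0⟩, ⟨0, 1⟩, ⟨2, 1⟩], ![⟨1, 0⟩, ⟨0, 1⟩, ⟨3, 2⟩], ![⟨1,
    0⟩, ⟨0, 1⟩, ⟨4, 0⟩], ![⟨1, 0⟩, ⟨0, 2⟩, ⟨3, 0⟩], ![⟨1, 0⟩, ⟨0, 3⟩, ⟨2, 3⟩], ![⟨1, 0⟩, ⟨0,
    4⟩, ⟨2, 3⟩], ![⟨1, 0⟩, ⟨1, 1⟩, ⟨3, 2⟩], ![⟨1, 0⟩, ⟨1, 2⟩, ⟨1, 0⟩], ![⟨1, 0⟩, ⟨1, 2⟩, ⟨2,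
    3⟩], ![⟨1, 0⟩, ⟨1, 2⟩, ⟨3, 2⟩], ![⟨1, 0⟩, ⟨1, 2⟩, ⟨3, 3⟩], ![⟨1, 0⟩, ⟨1, 3⟩, ⟨1, 0⟩],
    ![⟨1, 0⟩, ⟨1, 4⟩, ⟨2, 2⟩], ![⟨1, 0⟩, ⟨2, 1⟩, ⟨4, 3⟩], ![⟨1, 0⟩, ⟨2, 4⟩, ⟨2, 3⟩], ![⟨1, 0⟩,
    ⟨4, 1⟩, ⟨1, 0⟩], ![⟨1, 0⟩, ⟨4, 4⟩, ⟨1, 0⟩], ![⟨1, 0⟩, ⟨4, 4⟩, ⟨1, 3⟩], ![⟨1, 0⟩, ⟨4, 4⟩,
    ⟨3, 1⟩], ![⟨1, 0⟩, ⟨4, 4⟩, ⟨3, 2⟩]]

lemma z7_F25 : ∀ a b c : F25, fm qc (G7 ⟨2, 4⟩) ![a, b, c] ![a, b, c] = 3 →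
    fm qc (G7 ⟨2, 4⟩) (C7 ⟨2, 4⟩ *ᵥ ![a, b, c]) ![a, b, c] = ⟨2, 4⟩ →
    (Matrix.of ![![a, b, c], C7 ⟨2, 4⟩ *ᵥ ![a, b, c],
      C7 ⟨2, 4⟩ *ᵥ C7 ⟨2, 4⟩ *ᵥ ![a, b, c]]).det = 1 →
    ∃ j, ∃ s : F25, ![a, b, c] = s • z7 ⟨2, 4⟩ j := by decide +kernel

theorem SU3_field5 (h : SuH σ 5 f a H) (hn : Fintype.card ι = 3)
    {K : Subalgebra F (Matrix ι ι F)} (hK : IsFieldSubalgebra 3 K) (h1 : IsAdjointClosedFor f K)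
    (hle : H ≤ subalgebraNormalizer K) : False := by
  obtain ⟨φ⟩ := exists_equiv_F25 h.hF
  obtain ⟨m, hm⟩ := h.md7 hn hK h1 hle (φ := φ) (τ := qc) (fun x => by rw [h.tau φ, qc_F25])
    (by decide) (by decide) (by decide) (β := ⟨2, 4⟩) (by decide +kernel) (by decide +kernel)
    (G' := !![⟨1, 0⟩, ⟨3, 1⟩, ⟨0, 3⟩; ⟨3, 4⟩, ⟨1, 0⟩, ⟨3, 1⟩; ⟨0, 2⟩, ⟨3, 4⟩, ⟨1, 0⟩])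
    (by decide +kernel) (by decide +kernel)
  exact h.field7 m hm z7_F25 (by decide +kernel) (by decide +kernel) (by decide +kernel)
    (by decide +kernel) (by decide +kernel) (L := L21F25)
    (pres_PS ![13, 16, 10, 15, 6, 3, 2, 8, 19, 0, 9, 7, 20, 4, 12, 1, 17, 18, 5, 14, 11]
      (by decide +kernel))
    (pres_PS ![5, 12, 3, 7, 16, 20, 18, 2, 9, 17, 1, 4, 10, 15, 6, 19, 11, 8, 14, 13, 0]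
      (by decide +kernel))
    (A := tvm qc (G7 ⟨2, 4⟩) ⟨0, 1⟩ ![⟨0, 0⟩, ⟨1, 0⟩, ⟨1, 0⟩])
    (B := !![⟨4, 0⟩, ⟨2, 1⟩, ⟨0, 4⟩; ⟨0, 0⟩, ⟨1, 2⟩, ⟨3, 0⟩; ⟨0, 0⟩, ⟨4, 2⟩, ⟨4, 3⟩])
    (by decide +kernel) (by decide +kernel) ⟨0, 1, one_ne_zero, (one_smul _ _).symm⟩
    (by decide +kernel) (by decide +kernel) (by decide +kernel)
    (pres_PS ![0, 1, 3, 2, 11, 20, 18, 7, 13, 19, 12, 4, 10, 8, 14, 17, 16, 15, 6, 9, 5]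
      (by decide +kernel)) (by decide +kernel)

end Cfsg.Agent.H18
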