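import Cfsg.Agent.H12.SubA
import Cfsg.Agent.S0801

/-!
Two opposite root groups in a subgroup of `SL₂(F)`.
-/

set_option autoImplicit false

namespace Cfsg.Agent.H18.Mi

open Cfsg.Agent.H12 Matrix MatrixGroups

variable {F : Type*} [Field F]

theorem odd_pair [Finite F] (h2 : (2 : F) ≠ 0) {H : Subgroup SL(2, F)} {u v : F} (hu : u ≠ 0)
    (hv : v ≠ 0) (h1 : upper u ∈ H) (h3 : lower v ∈ H) :
    (∀ x ∈ Subfield.closure ({u * v} : Set F), upper (x / v) ∈ H ∧ lower (x * v) ∈ H) ∨
      ((3 : F) = 0 ∧ (u * v) ^ 2 = -1) := by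
  let F₀ := Subfield.closure ({u * v} : Set F)
  let l₀ : F₀ := ⟨u * v, Subfield.subset_closure rfl⟩
  have := Fintype.ofFinite F₀
  have b1 : Subfield.closure ({l₀} : Set F₀) = ⊤ := by
    rw [← Subfield.comap_map F₀.subtype (Subfield.closure _), RingHom.map_field_closure,
      Set.image_singleton]
    ext x; simpa using x.2
  have b2 : l₀ ≠ 0 := fun e => mul_ne_zero hu hv (congrArg Subtype.val e)
  rcases S0801.result (F := F₀) (fun e => h2 (congrArg Subtype.val e)) l₀ b2 b1 with
    ⟨b3, -⟩ | ⟨b3, b4, -⟩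
  · left
    have key : ∀ g : SL(2, F₀), ∃ k ∈ H, k.1 = !![(g 0 0 : F), g 0 1 / v; g 1 0 * v, g 1 1] :=
      fun g => by
      have hg := b3 ▸ Subgroup.mem_top g
      induction hg using Subgroup.closure_induction'' with
      | mem x hx =>
        rcases hx with hx | hx
        · refine ⟨_, h3, ?_⟩
          simp [show ∀ i j, x i j = x.1 i j from fun _ _ => rfl, hx]
        · refine ⟨_, h1, ?_⟩
          simp [show ∀ i j, x i j = x.1 i j from fun _ _ => rfl, hx, l₀, hv]
      | inv_mem x hx =>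
        rcases hx with hx | hx
        · refine ⟨_, lower_neg v ▸ H.inv_mem h3, ?_⟩
          simp [show ∀ i j, x⁻¹ i j = x.1.adjugate i j from fun _ _ => rfl, hx]
        · refine ⟨_, upper_neg u ▸ H.inv_mem h1, ?_⟩
          simp [show ∀ i j, x⁻¹ i j = x.1.adjugate i j from fun _ _ => rfl, hx, l₀, hv, neg_div]
      | one => exact ⟨1, one_mem _, by simp [Matrix.one_fin_two]⟩
      | mul x y _ _ hx hy =>
        obtain ⟨k, a1, a2⟩ := hx
        obtain ⟨k', a3, a4⟩ := hy
        refine ⟨_, mul_mem a1 a3, ?_⟩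
        rw [show (k * k').1 = k.1 * k'.1 from rfl, a2, a4]
        ext i j
        fin_cases i <;> fin_cases j <;>
          simp [show ∀ i j, (x * y) i j = (x.1 * y.1) i j from fun _ _ => rfl, Matrix.mul_apply] <;>
          field_simp
    intro x hx
    obtain ⟨k, a1, a2⟩ := key (upper ⟨x, hx⟩)
    obtain ⟨k', a3, a4⟩ := key (lower ⟨x, hx⟩)
    refine ⟨?_, ?_⟩
    · convert a1; refine Subtype.ext ?_
      rw [a2]; simp [show ∀ (y : F₀) i j, upper y i j = (upper y).1 i j from fun _ _ _ => rfl]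
    · convert a3; refine Subtype.ext ?_
      rw [a4]; simp [show ∀ (y : F₀) i j, lower y i j = (lower y).1 i j from fun _ _ _ => rfl]
  · refine Or.inr ⟨?_, congrArg Subtype.val b4⟩
    have := congrArg F₀.subtype (FiniteField.cast_card_eq_zero F₀)
    rw [b3, map_natCast, map_zero] at this
    exact pow_eq_zero_iff two_ne_zero |>.mp (by rw [← this]; norm_num)

/-- The upper root elements of `H`. -/
def upS (H : Subgroup SL(2, F)) : AddSubgroup F where
  carrier := {x | upper x ∈ H}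
  zero_mem' := by simp
  add_mem' {a b} ha hb := by simpa [upper_add] using H.mul_mem ha hb
  neg_mem' {a} ha := by simpa [upper_neg] using ha

/-- The lower root elements of `H`. -/
def loS (H : Subgroup SL(2, F)) : AddSubgroup F where
  carrier := {x | lower x ∈ H}
  zero_mem' := by simp
  add_mem' {a b} ha hb := by simpa [lower_add] using H.mul_mem ha hb
  neg_mem' {a} ha := by simpa [lower_neg] using ha

theorem half_mem [Finite F] (h2 : (2 : F) ≠ 0) {A : AddSubgroup F} {x : F} (h : 2 * x ∈ A) :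
    x ∈ A := by
  have := Fintype.ofFinite F
  obtain ⟨m, hm⟩ := odd_card_of_two_ne_zero h2
  have h1 : ((2 * m + 1 : ℕ) : F) = 0 := hm ▸ FiniteField.cast_card_eq_zero F
  have h3 := A.neg_mem (A.nsmul_mem h m)
  convert h3
  push_cast at h1
  rw [nsmul_eq_mul]
  linear_combination x * h1

theorem odd_sets [Finite F] (h2 : (2 : F) ≠ 0) {U L : AddSubgroup F} {l : F} (hl : l ≠ 0)
    (h1 : l ∈ U) (h3 : (1 : F) ∈ L)
    (H : ∀ u ∈ U, ∀ v ∈ L, u ≠ 0 → v ≠ 0 → (∀ x ∈ Subfield.closure ({u * v} : Set F),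
      x / v ∈ U ∧ x * v ∈ L) ∨ ((3 : F) = 0 ∧ (u * v) ^ 2 = -1)) :
    ∃ K : Subfield F, (∀ x, l * x ∈ U ↔ x ∈ K) ∧ (∀ x, x ∈ L ↔ x ∈ K) ∧
      (l ∈ K ∨ ((3 : F) = 0 ∧ l ^ 2 = -1 ∧ ∀ x ∈ K, x = 0 ∨ x = 1 ∨ x = -1)) := by
  have hc : ∀ x : F, x ∈ Subfield.closure ({x} : Set F) := fun x => Subfield.subset_closure rfl
  have hi : ∀ x : F, (3 : F) = 0 → x ^ 2 = -1 → x + 1 ≠ 0 ∧ (x + 1) ^ 2 ≠ -1 := fun x a b =>
    ⟨fun e => h2 (by
      rw [show x = -1 by linear_combination e] at b; linear_combination b),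
    fun e => h2 (by
      have : x = 1 := by linear_combination b - e + x * a
      rw [this] at b; linear_combination b)⟩
  by_cases h4 : (1 : F) ∈ U
  · have a1 : ∀ u ∈ U, u ∈ L := fun u hu => by
      by_cases h0 : u = 0
      · exact h0 ▸ L.zero_mem
      rcases H u hu 1 h3 h0 one_ne_zero with b | ⟨b1, b2⟩
      · simpa using (b _ (hc _)).2
      rw [mul_one] at b2
      rcases H _ (U.add_mem hu h4) 1 h3 (hi u b1 b2).1 one_ne_zero with b | ⟨-, b⟩
      · simpa using L.sub_mem (b _ (hc _)).2 h3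
      · exact absurd (by simpa using b) (hi u b1 b2).2
    have a2 : ∀ v ∈ L, (∀ x ∈ Subfield.closure ({v} : Set F), x ∈ U) ∨ v ^ 2 = -1 ∧ (3 : F) = 0 :=
      fun v hv => by
      by_cases h0 : v = 0
      · left
        rcases H 1 h4 1 h3 one_ne_zero one_ne_zero with b | ⟨-, b⟩
        · intro x hx
          have : x ∈ Subfield.closure ({1 * 1} : Set F) :=
            Subfield.closure_le.mpr (by simp [h0, zero_mem]) hx
          simpa using (b x this).1
        · exact absurd (by linear_combination b) h2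
      rcases H 1 h4 v hv one_ne_zero h0 with b | ⟨b1, b2⟩
      · rw [one_mul] at b
        exact Or.inl fun x hx => by simpa [h0] using (b _ (mul_mem hx (hc v))).1
      · exact Or.inr ⟨by simpa using b2, b1⟩
    have a3 : ∀ v ∈ L, v ∈ U := fun v hv => by
      rcases a2 v hv with b | ⟨b1, b2⟩
      · exact b _ (hc _)
      rcases a2 _ (L.add_mem hv h3) with b | ⟨b, -⟩
      · simpa using U.sub_mem (b _ (hc _)) h4
      · exact absurd b (hi v b2 b1).2
    have a4 : ∀ v ∈ L, v * v ∈ L := fun v hv => by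
      rcases a2 v hv with b | ⟨b1, -⟩
      · exact a1 _ (b _ (mul_mem (hc _) (hc _)))
      · rw [← pow_two, b1]; exact L.neg_mem h3
    let K : Subfield F :=
      { L with
        one_mem' := h3
        mul_mem' := fun {a b} ha hb => half_mem h2 (A := L) (by
          convert L.sub_mem (L.sub_mem (a4 _ (L.add_mem ha hb)) (a4 _ ha)) (a4 _ hb) using 1; ring)
        inv_mem' := fun v hv => by
          rcases a2 v hv with b | ⟨b1, -⟩
          · exact a1 _ (b _ (inv_mem (hc _)))
          · rw [inv_eq_of_mul_eq_one_right (show v * -v = 1 by linear_combination -b1)]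
            exact L.neg_mem hv }
    have hlK : l ∈ K := a1 l h1
    refine ⟨K, fun x => ⟨fun h => ?_, fun h => a3 _ (K.mul_mem hlK h)⟩, fun x => Iff.rfl, Or.inl hlK⟩
    simpa [hl] using K.mul_mem (K.inv_mem hlK) (a1 _ h)
  · have a1 : ∀ u ∈ U, u ≠ 0 → (3 : F) = 0 ∧ u ^ 2 = -1 := fun u hu h0 => by
      rcases H u hu 1 h3 h0 one_ne_zero with b | b
      · exact absurd (by simpa using (b 1 (one_mem _)).1) h4
      · simpa using b
    obtain ⟨a2, a3⟩ := a1 l h1 hl
    have a4 : ∀ v ∈ L, v ≠ 0 → v ^ 2 = -1 ∨ v ^ 2 = 1 := fun v hv h0 => by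
      rcases H l h1 v hv hl h0 with b | ⟨-, b⟩
      · have := (a1 _ (b 1 (one_mem _)).1 (by simpa using h0)).2
        left; field_simp at this; linear_combination this
      · right; linear_combination -b + v ^ 2 * a3
    have a5 : ∀ v ∈ L, v = 0 ∨ v = 1 ∨ v = -1 := fun v hv => by
      by_cases h0 : v = 0
      · exact Or.inl h0
      rcases a4 v hv h0 with b | b
      · rcases a4 _ (L.add_mem hv h3) (hi v a2 b).1 with c | c
        · exact absurd c (hi v a2 b).2
        · have : v = -1 := by linear_combination b - c + v * a2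
          exact Or.inr (Or.inr this)
      · exact Or.inr (sq_eq_one_iff.mp b)
    let K : Subfield F :=
      { L with
        one_mem' := h3
        mul_mem' := fun {a b} ha hb => by
          rcases a5 a ha with rfl | rfl | rfl
          · simpa using L.zero_mem
          · simpa using hb
          · simpa using hb
        inv_mem' := fun v hv => by
          rcases a5 v hv with rfl | rfl | rfl
          · simpa using L.zero_mem
          · simpa using h3
          · simpa using h3 }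
    refine ⟨K, fun x => ⟨fun h => ?_, fun h => ?_⟩, fun x => Iff.rfl, Or.inr ⟨a2, a3, a5⟩⟩
    · by_cases h0 : x = 0
      · exact h0 ▸ K.zero_mem
      have := (a1 _ h (mul_ne_zero hl h0)).2
      rcases sq_eq_one_iff.mp (show x ^ 2 = 1 by linear_combination -this + x ^ 2 * a3)
        with rfl | rfl
      · exact K.one_mem
      · exact K.neg_mem K.one_mem
    · rcases a5 x h with rfl | rfl | rfl
      · simpa using U.zero_mem
      · simpa using h1
      · simpa using h1

theorem exists_inv_or_central {G : Type*} [Group G] [Finite G] {M : Subgroup G} {a s : G}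
    (ha : a ∈ M) (hs : s ∈ M) (a2 : a * a = 1) (s2 : s * s = 1) :
    (∃ k ∈ M, k * s = a * k ∧ k * a = s * k) ∨
      ∃ z ∈ M, z ≠ 1 ∧ z * z = 1 ∧ Commute z a ∧ Commute z s := by
  have h1 : ∀ n : ℕ, s * ((a * s) ^ n)⁻¹ = (a * s) ^ n * s := fun n => by
    have : s * (a * s)⁻¹ * s⁻¹ = a * s := by
      rw [_root_.mul_inv_rev, inv_eq_of_mul_eq_one_right s2, inv_eq_of_mul_eq_one_right a2,
        ← mul_assoc, s2, one_mul]
    rw [← inv_pow]
    conv_rhs => rw [← this, conj_pow]
    group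
  have h2 := pow_orderOf_eq_one (a * s)
  have h3 := orderOf_pos (a * s)
  rcases (orderOf (a * s)).even_or_odd' with ⟨m, hm | hm⟩
  · have h4 : (a * s) ^ m * (a * s) ^ m = 1 := by rw [← pow_add, ← two_mul, ← hm, h2]
    have h5 : Commute ((a * s) ^ m) s := by
      rw [Commute, SemiconjBy, ← h1, inv_eq_of_mul_eq_one_right h4]
    refine Or.inr ⟨_, pow_mem (mul_mem ha hs) m, pow_ne_one_of_lt_orderOf (by omega) (by omega),
      h4, ?_, h5⟩
    simpa [mul_assoc, s2] using ((Commute.refl (a * s)).pow_left m).mul_right h5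
  · have h4 : (a * s) ^ (m + 1) * s * ((a * s) ^ (m + 1))⁻¹ = a := by
      rw [mul_assoc, h1, ← mul_assoc, ← pow_add, show m + 1 + (m + 1) = 2 * m + 1 + 1 by ring, ← hm,
        pow_succ, h2, one_mul, mul_assoc, s2, mul_one]
    have h5 : (a * s) ^ (m + 1) * s * ((a * s) ^ (m + 1) * s) = 1 := by
      nth_rw 1 [← h1]
      calc s * ((a * s) ^ (m + 1))⁻¹ * ((a * s) ^ (m + 1) * s) = s * s := by group
        _ = 1 := s2
    have h6 : (a * s) ^ (m + 1) * s * s = a * ((a * s) ^ (m + 1) * s) := by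
      generalize (a * s) ^ (m + 1) = k at h4
      rw [← h4]; group
    refine Or.inl ⟨_, mul_mem (pow_mem (mul_mem ha hs) (m + 1)) hs, h6, ?_⟩
    generalize (a * s) ^ (m + 1) * s = w at h5 h6
    calc w * a = w * (a * w) * w := by rw [mul_assoc, mul_assoc, h5, mul_one]
      _ = s * w := by rw [← h6, ← mul_assoc, h5, one_mul]

theorem exists_swap_two [Finite F] (h2 : (2 : F) = 0) {H : Subgroup SL(2, F)} {u v : F} (hu : u ≠ 0)
    (hv : v ≠ 0) (h1 : upper u ∈ H) (h3 : lower v ∈ H) :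
    ∃ q : F, q ≠ 0 ∧ u = v * q ^ 2 ∧ ∃ w ∈ H, w.1 = !![0, q; q⁻¹, 0] := by
  have a2 : upper u * upper u = 1 := by
    rw [← upper_add, show u + u = 0 by linear_combination u * h2, upper_zero]
  have s2 : lower v * lower v = 1 := by
    rw [← lower_add, show v + v = 0 by linear_combination v * h2, lower_zero]
  rcases exists_inv_or_central h1 h3 a2 s2 with ⟨k, hk, e, e'⟩ | ⟨z, -, z1, z2, c1, c2⟩
  · have e1 : k.1 * (lower v).1 = (upper u).1 * k.1 := congrArg Subtype.val e
    have e5 : k.1 * (upper u).1 = (lower v).1 * k.1 := congrArg Subtype.val e'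
    have e6 := congrFun (congrFun e5 0) 1
    have d := sl2_det k
    have e2 := fun i j => congrFun (congrFun e1 i) j
    have e3 := e2 0 0
    have e4 := e2 1 0
    simp [Matrix.mul_apply, hv, hu] at e3 e4 e6
    have h0 : k.1 0 1 ≠ 0 := fun h => by
      change k.1 0 0 * k.1 1 1 - k.1 0 1 * k.1 1 0 = 1 at d
      simp [h, e4] at d
    have d' : k.1 0 1 * k.1 1 0 = 1 := by
      change k.1 0 0 * k.1 1 1 - k.1 0 1 * k.1 1 0 = 1 at d
      rw [e4] at d; linear_combination -d - h2
    refine ⟨_, h0, by linear_combination -k.1 0 1 * e3 - u * d', k, hk, ?_⟩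
    ext i j; fin_cases i <;> fin_cases j <;> simp [e4, e6, inv_eq_of_mul_eq_one_right d']
  · exfalso
    have e1 : z.1 * (upper u).1 = (upper u).1 * z.1 := congrArg Subtype.val c1.eq
    have e2 : z.1 * (lower v).1 = (lower v).1 * z.1 := congrArg Subtype.val c2.eq
    have e3 : z.1 * z.1 = 1 := congrArg Subtype.val z2
    have a := congrFun (congrFun e1 0) 0
    have b := congrFun (congrFun e1 0) 1
    have c := congrFun (congrFun e2 0) 0
    have d := congrFun (congrFun e3 0) 0
    simp [Matrix.mul_apply, hu, hv] at a b c d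
    refine z1 (Subtype.ext ?_)
    have f : z.1 0 0 = 1 := by
      have : (z.1 0 0 - 1) ^ 2 = 0 := by rw [a] at d; linear_combination d + (1 - z.1 0 0) * h2
      exact sub_eq_zero.mp (pow_eq_zero_iff two_ne_zero |>.mp this)
    have g : z.1 1 1 = 1 := mul_left_cancel₀ hu (by rw [f] at b; linear_combination -b)
    ext i j; fin_cases i <;> fin_cases j <;> simp [a, c, f, g]

theorem exists_diag_two [Finite F] (h2 : (2 : F) = 0) {H : Subgroup SL(2, F)} {u u' v : F}
    (hu : u ≠ 0) (hu' : u' ≠ 0) (hv : v ≠ 0) (h1 : upper u ∈ H) (h1' : upper u' ∈ H)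
    (h3 : lower v ∈ H) : ∃ d : F, d ≠ 0 ∧ u' = d ^ 2 * u ∧ ∃ w ∈ H, w.1 = !![d, 0; 0, d⁻¹] := by
  obtain ⟨q, a1, a2, w, a3, a4⟩ := exists_swap_two h2 hu hv h1 h3
  obtain ⟨q', b1, b2, w', b3, b4⟩ := exists_swap_two h2 hu' hv h1' h3
  refine ⟨q' / q, div_ne_zero b1 a1, by rw [a2, b2]; field_simp, _, mul_mem b3 a3, ?_⟩
  rw [show (w' * w).1 = w'.1 * w.1 from rfl, a4, b4]
  ext i j; fin_cases i <;> fin_cases j <;> simp [Matrix.mul_apply, div_eq_mul_inv, mul_comm]

theorem conj_upper {H : Subgroup SL(2, F)} {w : SL(2, F)} (hw : w ∈ H) {d : F} (hd : d ≠ 0)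
    (e : w.1 = !![d, 0; 0, d⁻¹]) {x : F} (hx : upper x ∈ H) : upper (d ^ 2 * x) ∈ H := by
  convert mul_mem (mul_mem hw hx) (inv_mem hw) using 1
  rw [eq_mul_inv_iff_mul_eq]
  refine Subtype.ext ?_
  change (upper _).1 * w.1 = w.1 * (upper x).1
  rw [e]; ext i j; fin_cases i <;> fin_cases j <;> simp [Matrix.mul_apply]; field_simp

theorem even_opp [Finite F] (h2 : (2 : F) = 0) {H : Subgroup SL(2, F)} {l : F} (hl : l ≠ 0)
    (h1 : upper l ∈ H) (h3 : lower 1 ∈ H) :
    ∃ K : Subfield F, (∀ x, upper (l * x) ∈ H ↔ x ∈ K) ∧ (∀ x, lower x ∈ H ↔ x ∈ K) ∧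
      (l ∈ K ∨ ∀ x ∈ K, x = 0 ∨ x = 1) := by
  have a1 : ∀ x y, upper (l * x) ∈ H → upper (l * y) ∈ H → x ≠ 0 → upper (l * (y / x)) ∈ H :=
    fun x y hx hy h0 => by
    obtain ⟨d, b1, b2, w, b3, b4⟩ := exists_diag_two h2 (mul_ne_zero hl h0) hl one_ne_zero hx h1 h3
    convert conj_upper b3 b1 b4 hy using 2
    have : d ^ 2 * x = 1 := mul_left_cancel₀ hl (by linear_combination -b2)
    field_simp
    linear_combination -y * this
  have a2 : ∀ x, upper (l * x) ∈ H → upper (l * x⁻¹) ∈ H := fun x hx => by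
    by_cases h0 : x = 0
    · simp [h0]
    · simpa using a1 x 1 hx (by simpa using h1) h0
  let K : Subfield F :=
    { carrier := {x | upper (l * x) ∈ H}
      zero_mem' := by simp
      one_mem' := by simpa using h1
      add_mem' := fun {a b} ha hb => by simpa [mul_add, upper_add] using H.mul_mem ha hb
      neg_mem' := fun {a} ha => by simpa [upper_neg] using ha
      inv_mem' := a2
      mul_mem' := fun {a b} ha hb => by
        by_cases h0 : b = 0
        · simp [h0]
        · simpa using a1 _ a (a2 b hb) ha (inv_ne_zero h0) }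
  refine ⟨K, fun x => Iff.rfl, fun x => ?_, or_iff_not_imp_right.mpr fun h => ?_⟩
  · obtain ⟨q, b1, b2, w, b3, b4⟩ := exists_swap_two h2 hl one_ne_zero h1 h3
    have : w * lower x * w⁻¹ = upper (l * x) := by
      rw [mul_inv_eq_iff_eq_mul]
      refine Subtype.ext ?_
      change w.1 * (lower x).1 = (upper _).1 * w.1
      rw [b4, b2]; ext i j; fin_cases i <;> fin_cases j <;> simp [Matrix.mul_apply]; field_simp
    change _ ↔ upper (l * x) ∈ H
    rw [← this, mul_mem_cancel_right (inv_mem b3), mul_mem_cancel_left b3]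
  · push Not at h
    obtain ⟨x, hx, x0, x1⟩ := h
    let H' := H.comap (MulAut.conj (upper (1 : F))).toMonoidHom
    have c1 : ∀ y, upper y ∈ H → upper y ∈ H' := fun y hy => by
      change upper 1 * upper y * (upper 1)⁻¹ ∈ H
      rwa [← upper_add, add_comm, upper_add, mul_inv_cancel_right]
    have c2 : lower l ∈ H' := by
      change upper 1 * lower l * (upper 1)⁻¹ ∈ H
      convert mul_mem (mul_mem h3 h1) (inv_mem h3) using 1
      rw [← upper_neg, ← lower_neg]
      refine Subtype.ext ?_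
      change (upper 1).1 * (lower l).1 * (upper (-1)).1 = (lower 1).1 * (upper l).1 * (lower (-1)).1
      ext i j; fin_cases i <;> fin_cases j <;> simp [Matrix.mul_apply, Fin.sum_univ_two] <;>
        first | linear_combination l * h2 | linear_combination -l * h2
    obtain ⟨d, b1, b2, w, b3, b4⟩ :=
      exists_diag_two h2 hl (mul_ne_zero hl x0) hl (c1 _ h1) (c1 _ hx) c2
    obtain ⟨d', e1, e2, w', e3, e4⟩ :=
      exists_diag_two h2 (mul_ne_zero hl x0) hl one_ne_zero hx h1 h3
    have f1 : d ^ 2 = x := mul_left_cancel₀ hl (by linear_combination -b2)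
    have f2 : d' ^ 2 * x = 1 := mul_left_cancel₀ hl (by linear_combination -e2)
    have f3 : d' * d = 1 := by
      have : (d' * d - 1) ^ 2 = 0 := by
        linear_combination f2 + d' ^ 2 * f1 + (1 - d' * d) * h2
      exact sub_eq_zero.mp (pow_eq_zero_iff two_ne_zero |>.mp this)
    have f4 : upper (1 - x) ∈ H := by
      convert mul_mem (show upper 1 * w * (upper 1)⁻¹ ∈ H from b3) e3 using 1
      rw [← upper_neg]
      refine Subtype.ext ?_
      change (upper _).1 = (upper 1).1 * w.1 * (upper (-1)).1 * w'.1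
      rw [b4, e4, eq_inv_of_mul_eq_one_left f3, ← f1]
      ext i j; fin_cases i <;> fin_cases j <;> simp [Matrix.mul_apply, Fin.sum_univ_two, b1]
      field_simp; ring
    have f5 : (1 - x) / l ∈ K := by
      change upper (l * _) ∈ H
      rwa [mul_div_cancel₀ _ hl]
    have f6 := K.div_mem (K.sub_mem K.one_mem hx) f5
    rwa [div_div_cancel₀ (sub_ne_zero.mpr x1.symm)] at f6

theorem sl2_opp [Finite F] {H : Subgroup SL(2, F)} {l : F} (hl : l ≠ 0)
    (h1 : upper l ∈ H) (h3 : lower 1 ∈ H) :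
    ∃ K : Subfield F, (∀ x, upper (l * x) ∈ H ↔ x ∈ K) ∧ (∀ x, lower x ∈ H ↔ x ∈ K) ∧
      (l ∈ K ∨ ((3 : F) = 0 ∧ l ^ 2 = -1 ∧ ∀ x ∈ K, x = 0 ∨ x = 1 ∨ x = -1) ∨
        ((2 : F) = 0 ∧ ∀ x ∈ K, x = 0 ∨ x = 1)) := by
  by_cases h2 : (2 : F) = 0
  · obtain ⟨K, a, b, c⟩ := even_opp h2 hl h1 h3
    exact ⟨K, a, b, c.imp_right fun c => Or.inr ⟨h2, c⟩⟩
  · obtain ⟨K, a, b, c⟩ := odd_sets h2 (U := upS H) (L := loS H) hl h1 h3
      fun u hu v hv u0 v0 => odd_pair h2 u0 v0 hu hv
    exact ⟨K, a, b, c.imp_right Or.inl⟩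

end Cfsg.Agent.H18.Mi
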