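import Cfsg.Agent.H18.MiA

/-!
Transvections in an irreducible group of dimension three: opposite flags and the common root field.
-/

set_option autoImplicit false

namespace Cfsg.Agent.H18.Mi

open Cfsg.Agent.H12 Matrix MatrixGroups Module

variable {F V : Type*} [Field F] [AddCommGroup V] [Module F V] {M : Subgroup (V ≃ₗ[F] V)}
  {a b c d : V} {α β γ δ : Dual F V}

theorem opp [Finite F] (h : TR M a α) (h' : TR M b β) (hl : α b * β a ≠ 0) :
    ∃ K : Subfield F, (∀ x, TR M a (x • α) ↔ x ∈ K) ∧ (∀ x, TR M b (x • β) ↔ x ∈ K) ∧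
      (α b * β a ∈ K ∨ ((3 : F) = 0 ∧ (α b * β a) ^ 2 = -1 ∧ ∀ x ∈ K, x = 0 ∨ x = 1 ∨ x = -1) ∨
        ((2 : F) = 0 ∧ ∀ x ∈ K, x = 0 ∨ x = 1)) := by
  have h1 := left_ne_zero_of_mul hl
  have h2 := right_ne_zero_of_mul hl
  let S : Submonoid SL(2, F) :=
    { carrier := {A | ∃ g ∈ M, ∀ y, g y =
        y + ((A.1 0 0 - 1) * (β y / β a) + A.1 0 1 * (α y / (α b * β a))) • a +
          (A.1 1 0 * β y + (A.1 1 1 - 1) * (α y / α b)) • b}
      one_mem' := ⟨1, one_mem _, fun y => by simp⟩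
      mul_mem' := by
        rintro A A' ⟨g, a1, a2⟩ ⟨g', a3, a4⟩
        refine ⟨_, mul_mem a1 a3, fun y => ?_⟩
        rw [LinearEquiv.mul_apply, a2, a4, show (A * A').1 = A.1 * A'.1 from rfl]
        simp only [map_add, map_smul, h.1, h'.1, Matrix.mul_apply, Fin.sum_univ_two, smul_eq_mul]
        match_scalars <;> field_simp <;> ring }
  let H : Subgroup SL(2, F) :=
    { S with
      inv_mem' := fun {A} hA => (Submonoid.powers_le.mpr (show A ∈ S from hA))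
        (mem_powers_iff_mem_zpowers.mpr (inv_mem (Subgroup.mem_zpowers A))) }
  have e1 : ∀ x, upper (α b * β a * x) ∈ H ↔ TR M a (x • α) := fun x => by
    have : ∀ y, α b * β a * x * (α y / (α b * β a)) = x * α y := fun y => by field_simp
    change (∃ g ∈ M, ∀ y, g y = _) ↔ _
    simp [TR, h.1, this]
  have e2 : ∀ x, lower x ∈ H ↔ TR M b (x • β) := fun x => by
    change (∃ g ∈ M, ∀ y, g y = _) ↔ _
    simp [TR, h'.1]
  obtain ⟨K, a1, a2, a3⟩ := sl2_opp (H := H) hl (by simpa using (e1 1).mpr (by simpa using h))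
    ((e2 1).mpr (by simpa using h'))
  exact ⟨K, fun x => (e1 x).symm.trans (a1 x), fun x => (e2 x).symm.trans (a2 x), a3⟩

theorem span3 (h3 : finrank F V = 3)
    (h : ∀ r s t : F, r • a + s • b + t • c = 0 → r = 0 ∧ s = 0 ∧ t = 0) (v : V) :
    ∃ r s t : F, v = r • a + s • b + t • c := by
  have : FiniteDimensional F V := Module.finite_of_finrank_pos (by omega)
  have h1 : LinearIndependent F ![a, b, c] := Fintype.linearIndependent_iff.mpr fun g hg i => by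
    obtain ⟨a1, a2, a3⟩ := h (g 0) (g 1) (g 2) (by simpa [Fin.sum_univ_three] using hg)
    fin_cases i <;> assumption
  obtain ⟨g, hg⟩ := (Submodule.mem_span_range_iff_exists_fun F).mp
    ((h1.span_eq_top_of_card_eq_finrank' (by simp [h3])).ge (Submodule.mem_top (x := v)))
  exact ⟨g 0, g 1, g 2, by simpa [Fin.sum_univ_three] using hg.symm⟩

/-- Irreducibility. -/
def IrrV (M : Subgroup (V ≃ₗ[F] V)) : Prop :=
  ∀ W : Submodule F V, (∀ g ∈ M, ∀ v ∈ W, g v ∈ W) → W = ⊥ ∨ W = ⊤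

/-- A non-empty invariant family of transvections. -/
structure Cls (M : Subgroup (V ≃ₗ[F] V)) (Q : V → Dual F V → Prop) : Prop where
  tr : ∀ {b β}, Q b β → TR M b β
  ne : ∀ {b β}, Q b β → b ≠ 0
  ne' : ∀ {b β}, Q b β → β ≠ 0
  conj : ∀ {b β}, Q b β → ∀ g ∈ M, Q (g b) (β ∘ₗ g.symm.toLinearMap)
  ex : ∃ b β, Q b β

variable {Q : V → Dual F V → Prop}

theorem Cls.conj_tr (hQ : Cls M Q) (h : TR M a α) (h' : Q b β) : Q (b + α b • a) (β - β a • α) := by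
  obtain ⟨g, h1, h2⟩ := h.2
  convert hQ.conj h' g h1 using 1
  · rw [h2]
  · ext x; simp [symm_apply_of_tr h.1 h2, mul_comm]

theorem Cls.exists_left (hQ : Cls M Q) (hI : IrrV M) (hα : α ≠ 0) : ∃ b β, Q b β ∧ α b ≠ 0 := by
  by_contra H
  push Not at H
  rcases hI (Submodule.span F {b | ∃ β, Q b β}) (fun g hg v hv => by
    refine (Submodule.span_le (p := (Submodule.span F {b | ∃ β, Q b β}).comap g.toLinearMap)).mpr ?_ hv
    rintro b ⟨β, h⟩
    exact Submodule.subset_span ⟨_, hQ.conj h g hg⟩) with h | h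
  · obtain ⟨b, β, h1⟩ := hQ.ex
    exact hQ.ne h1 (h.le (Submodule.subset_span ⟨β, h1⟩))
  · refine hα (LinearMap.ker_eq_top.mp (top_le_iff.mp (h ▸ Submodule.span_le.mpr ?_)))
    rintro b ⟨β, h⟩
    exact H b β h

theorem Cls.exists_right (hQ : Cls M Q) (hI : IrrV M) (ha : a ≠ 0) : ∃ b β, Q b β ∧ β a ≠ 0 := by
  by_contra H
  push Not at H
  let W : Submodule F V :=
    { carrier := {v | ∀ b β, Q b β → β v = 0}
      zero_mem' := fun _ _ _ => map_zero _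
      add_mem' := fun h1 h2 b β h => by rw [map_add, h1 b β h, h2 b β h, add_zero]
      smul_mem' := fun c v h1 b β h => by rw [map_smul, h1 b β h, smul_zero] }
  rcases hI W (fun g hg v hv b β h => hv _ _ (hQ.conj h g⁻¹ (inv_mem hg))) with h | h
  · exact ha (h.le H)
  · obtain ⟨b, β, h1⟩ := hQ.ex
    exact hQ.ne' h1 (LinearMap.ext fun v => h.ge Submodule.mem_top b β h1)

theorem Cls.exists_opp (hQ : Cls M Q) (hI : IrrV M) (h3 : finrank F V = 3) (h : α a = 0)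
    (ha : a ≠ 0) (hα : α ≠ 0) : ∃ b β, Q b β ∧ α b * β a ≠ 0 := by
  by_contra H
  push Not at H
  obtain ⟨b, β, h1, h2⟩ := hQ.exists_left hI hα
  obtain ⟨c, γ, h4, h5⟩ := hQ.exists_right hI ha
  have a1 : β a = 0 := (mul_eq_zero.mp (H b β h1)).resolve_left h2
  have a2 : α c = 0 := (mul_eq_zero.mp (H c γ h4)).resolve_right h5
  have a3 : β c = 0 := by simpa [a1, a2, h2, h5] using H _ _ (hQ.conj_tr (hQ.tr h4) h1)
  have a4 := (hQ.tr h1).1
  refine hQ.ne' h1 (LinearMap.ext fun v => ?_)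
  obtain ⟨r, s, t, rfl⟩ := span3 h3 (a := a) (b := b) (c := c) (fun r s t e => by
    have e1 : s = 0 := by simpa [h, a2, h2] using congrArg α e
    have e2 : r = 0 := by simpa [e1, (hQ.tr h4).1, h5] using congrArg γ e
    exact ⟨e2, e1, by simpa [e1, e2, hQ.ne h4] using e⟩) v
  simp [a1, a3, a4]

theorem tr_conj_iff {g : V ≃ₗ[F] V} (hg : g ∈ M) :
    TR M (g b) (β ∘ₗ g.symm.toLinearMap) ↔ TR M b β :=
  ⟨fun h => by simpa using h.conj (ψ := β) (inv_mem hg) (fun x => rfl), fun h => h.conj' hg⟩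

theorem cls_tr (hex : ∃ a α, TR M a α ∧ a ≠ 0 ∧ α ≠ 0) {p : V → Dual F V → Prop}
    (hp : ∀ b β, p b β → ∀ g ∈ M, p (g b) (β ∘ₗ g.symm.toLinearMap))
    (hex : ∃ a α, (TR M a α ∧ a ≠ 0 ∧ α ≠ 0) ∧ p a α) :
    Cls M fun a α => (TR M a α ∧ a ≠ 0 ∧ α ≠ 0) ∧ p a α where
  tr h := h.1.1
  ne h := h.1.2.1
  ne' h := h.1.2.2
  conj {b β} h g hg := ⟨⟨h.1.1.conj' hg, by simpa using h.1.2.1, fun e => h.1.2.2
    (LinearMap.ext fun x => by simpa using LinearMap.congr_fun e (g x))⟩, hp _ _ h.2 g hg⟩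
  ex := hex

/-- The standing hypotheses: `K` is the common root field. -/
structure TK (M : Subgroup (V ≃ₗ[F] V)) (K : Subfield F) : Prop where
  irr : IrrV M
  dim : finrank F V = 3
  ex : ∃ a α, TR M a α ∧ a ≠ 0 ∧ α ≠ 0
  root : ∀ {a α}, TR M a α → a ≠ 0 → α ≠ 0 → ∀ x, TR M a (x • α) ↔ x ∈ K
  lm : ∀ {a α b β}, TR M a α → TR M b β → α b * β a ∈ K ∨
    ((3 : F) = 0 ∧ (α b * β a) ^ 2 = -1 ∧ ∀ x ∈ K, x = 0 ∨ x = 1 ∨ x = -1)
  big : ∃ x ∈ K, x ≠ 0 ∧ x ≠ 1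

theorem exists_TK [Finite F] (hI : IrrV M) (h3 : finrank F V = 3)
    (hex : ∃ a α, TR M a α ∧ a ≠ 0 ∧ α ≠ 0) : (∃ K, TK M K) ∨ ((2 : F) = 0 ∧
      ∀ a α, TR M a α → a ≠ 0 → α ≠ 0 → ∀ x : F, TR M a (x • α) → x = 0 ∨ x = 1) := by
  obtain ⟨a, α, h, ha, hα⟩ := id hex
  obtain ⟨b, β, h1, h2⟩ := (cls_tr hex (p := fun _ _ => True) (fun _ _ _ _ _ => trivial)
    ⟨a, α, ⟨h, ha, hα⟩, trivial⟩).exists_opp hI h3 h.1 ha hα
  obtain ⟨K, a1, -, -⟩ := opp h h1.1.1 h2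
  have hQ := cls_tr hex (p := fun b β => ∀ x : F, TR M b (x • β) ↔ x ∈ K)
    (fun b β hb g hg x => by rw [← hb, ← tr_conj_iff hg (β := x • β), LinearMap.smul_comp])
    ⟨a, α, ⟨h, ha, hα⟩, a1⟩
  have a2 : ∀ {c γ}, TR M c γ → c ≠ 0 → γ ≠ 0 → ∀ x : F, TR M c (x • γ) ↔ x ∈ K :=
    fun {c γ} h hc hγ x => by
      obtain ⟨d, δ, b1, b2⟩ := hQ.exists_opp hI h3 h.1 hc hγ
      obtain ⟨K', b3, b4, -⟩ := opp h b1.1.1 b2
      rw [b3, ← b4, b1.2]
  by_cases H : (2 : F) = 0 ∧ ∀ x ∈ K, x = 0 ∨ x = 1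
  · exact Or.inr ⟨H.1, fun c γ h hc hγ x hx => H.2 x ((a2 h hc hγ x).mp hx)⟩
  refine Or.inl ⟨K, hI, h3, hex, a2, fun {c γ d δ} hc hd => ?_, ?_⟩
  swap
  · by_cases h2 : (2 : F) = 0
    · simpa [h2, not_or] using H
    · exact ⟨-1, K.neg_mem K.one_mem, by simp, fun e => h2 (by linear_combination -e)⟩
  by_cases h0 : γ d * δ c = 0
  · exact Or.inl (h0 ▸ K.zero_mem)
  obtain ⟨K', b3, -, b4⟩ := opp hc hd h0
  obtain rfl : K' = K := Subfield.ext fun x => by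
    rw [← b3, a2 hc (fun e => h0 (by simp [e])) (fun e => h0 (by simp [e]))]
  exact b4.imp_right fun b => b.resolve_right H

end Cfsg.Agent.H18.Mi
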