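import Cfsg.Agent.H18.MiB

/-!
Transvections in dimension three: the linear case.
-/

set_option autoImplicit false

namespace Cfsg.Agent.H18.Mi

open Cfsg.Agent.H12 Module

variable {F V : Type*} [Field F] [AddCommGroup V] [Module F V] {M : Subgroup (V ≃ₗ[F] V)}
  {a a' b c d : V} {α α' β γ δ : Dual F V} {K : Subfield F}

theorem abs_ker {E : Type*} [AddCommGroup E] [Module F E] {W : E → Prop}
    (add : ∀ x y, W x → W y → W (x + y)) (smul : ∀ k ∈ K, ∀ x, W x → W (k • x)) (l : E →ₗ[F] F)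
    (hl : ∀ w, W w → l w ∈ K ∨
      ((3 : F) = 0 ∧ l w ^ 2 = -1 ∧ ∀ x ∈ K, x = 0 ∨ x = 1 ∨ x = -1))
    {u u' : E} (h : W u) (h' : W u') (h0 : l u ≠ 0) (h1 : u' ∉ F ∙ u) :
    ∃ c, W c ∧ c ≠ 0 ∧ l c = 0 := by
  have key : l u' / l u ∈ K := by
    have h2 := hl _ (add _ _ h h')
    rw [map_add] at h2
    rcases hl u h with a | ⟨a3, a, -⟩ <;> rcases hl u' h' with b | ⟨b3, b, -⟩
    · exact K.div_mem b a
    · rcases h2 with c | ⟨-, c, -⟩
      · exact K.div_mem (by simpa using K.sub_mem c a) a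
      · have : l u' = l u := mul_left_cancel₀ h0 (by linear_combination b - c + l u * l u' * b3)
        rw [this, div_self h0]; exact K.one_mem
    · rcases h2 with c | ⟨-, c, -⟩
      · exact K.div_mem b (by simpa using K.sub_mem c b)
      · have : l u' * (l u' - l u) = 0 := by linear_combination c - a - l u * l u' * a3
        rcases mul_eq_zero.mp this with e | e
        · simp [e]
        · rw [sub_eq_zero.mp e, div_self h0]; exact K.one_mem
    · rcases sq_eq_sq_iff_eq_or_eq_neg.mp (b.trans a.symm) with e | e <;> simp [e, neg_div, h0]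
  refine ⟨_, add _ _ h' (smul _ (K.neg_mem key) _ h), fun e => h1 ?_, by simp [h0]⟩
  exact Submodule.mem_span_singleton.mpr ⟨l u' / l u, by linear_combination (norm := module) -e⟩

theorem TK.smul_right (hK : TK M K) (h : TR M a α) {k : F} (hk : k ∈ K) : TR M a (k • α) := by
  by_cases ha : a = 0
  · exact ha ▸ TR.zero_left _
  by_cases hα : α = 0
  · simpa [hα] using TR.zero_right a
  exact (hK.root h ha hα k).mpr hk

theorem TK.rich_left (hK : TK M K) (h : TR M a α) (h' : TR M a' α) (h1 : a' ∉ F ∙ a)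
    (h2 : TR M b β) (h0 : α b * β a ≠ 0) : ∃ c, TR M c α ∧ c ≠ 0 ∧ β c = 0 := by
  obtain ⟨c, a1, a2, a3⟩ := abs_ker (K := K) (W := fun w => TR M w α) (fun _ _ => TR.add_left)
    (fun k hk x hx => (hK.smul_right hx hk).smul_of_right) (α b • β)
    (fun w hw => hK.lm hw h2) h h' h0 h1
  exact ⟨c, a1, a2, by simpa [left_ne_zero_of_mul h0] using a3⟩

theorem TK.rich_right (hK : TK M K) (h : TR M a α) (h' : TR M a α') (h1 : α' ∉ F ∙ α)
    (h2 : TR M b β) (h0 : α b * β a ≠ 0) : ∃ γ, TR M a γ ∧ γ ≠ 0 ∧ γ b = 0 := by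
  obtain ⟨c, a1, a2, a3⟩ := abs_ker (K := K) (W := fun w => TR M a w) (fun _ _ => TR.add_right)
    (fun k hk x hx => hK.smul_right hx hk) (β a • Dual.eval F V b)
    (fun w hw => by simpa [mul_comm] using hK.lm hw h2) h h' (by simpa [mul_comm] using h0) h1
  exact ⟨c, a1, a2, by simpa [right_ne_zero_of_mul h0] using a3⟩

theorem TK.rich_mem (hK : TK M K) (h : TR M a α) (h' : TR M a' α) (h1 : a' ∉ F ∙ a)
    (h2 : TR M b β) : α b * β a ∈ K := by
  by_cases h0 : α b * β a = 0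
  · exact h0 ▸ K.zero_mem
  obtain ⟨c, a1, a2, a3⟩ := hK.rich_left h h' h1 h2 h0
  have a4 := (a1.comm h2 a3).comm h (by simp [a1.1])
  rw [smul_smul, mul_comm] at a4
  exact (hK.root a1 a2 (fun e => h0 (by simp [e])) _).mp a4.smul_of_left

theorem notMem_span_of {E : Type*} [AddCommGroup E] [Module F E] {u v : E} (l : E →ₗ[F] F)
    (h1 : l u = 0) (h2 : l v ≠ 0) : v ∉ F ∙ u := fun h => by
  obtain ⟨k, rfl⟩ := Submodule.mem_span_singleton.mp h
  simp [h1] at h2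

theorem dual_dep (h3 : finrank F V = 3) (ha : a ≠ 0) (hb : b ∉ F ∙ a) (hα : α ≠ 0) (h1 : α a = 0)
    (h2 : α b = 0) (h4 : β a = 0) (h5 : β b = 0) : β ∈ F ∙ α := by
  obtain ⟨c, hc⟩ : ∃ c, α c ≠ 0 := by
    by_contra H; push Not at H; exact hα (LinearMap.ext H)
  refine Submodule.mem_span_singleton.mpr ⟨β c / α c, LinearMap.ext fun v => ?_⟩
  obtain ⟨r, s, t, rfl⟩ := span3 h3 (a := a) (b := b) (c := c) (fun r s t e => by
    have e1 : t = 0 := by simpa [h1, h2, hc] using congrArg α e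
    have e2 : s = 0 := by_contra fun hs => hb (Submodule.mem_span_singleton.mpr ⟨-r / s, by
      rw [e1] at e
      have : b = s⁻¹ • s • b := by rw [smul_smul, inv_mul_cancel₀ hs, one_smul]
      rw [this, show s • b = -r • a by linear_combination (norm := module) e, smul_smul,
        div_eq_inv_mul]⟩)
    exact ⟨by simpa [e1, e2, ha] using e, e2, e1⟩) v
  simp [h1, h2, h4, h5, hc]
  field_simp

/-- Distinct flags are opposite. -/
def AllOpp (M : Subgroup (V ≃ₗ[F] V)) : Prop := ∀ a α b β, TR M a α → a ≠ 0 → α ≠ 0 → TR M b β →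
  b ≠ 0 → β ≠ 0 → α b * β a = 0 → b ∈ F ∙ a ∧ β ∈ F ∙ α

theorem exists_same (h3 : finrank F V = 3) (h : ¬ AllOpp M) : ∃ a α, TR M a α ∧ a ≠ 0 ∧ α ≠ 0 ∧
    ((∃ a', TR M a' α ∧ a' ∉ F ∙ a) ∨ ∃ α', TR M a α' ∧ α' ∉ F ∙ α) := by
  unfold AllOpp at h
  push Not at h
  obtain ⟨a, α, b, β, h1, ha, hα, h2, hb, hβ, h0, h4⟩ := h
  by_cases e1 : α b = 0 <;> by_cases e2 : β a = 0
  · refine ⟨a, α, h1, ha, hα, ?_⟩
    by_cases e : b ∈ F ∙ a
    · obtain ⟨k, rfl⟩ := Submodule.mem_span_singleton.mp e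
      refine Or.inr ⟨_, h2.smul_of_left, fun e' => h4 e ?_⟩
      rwa [Submodule.smul_mem_iff _ (by rintro rfl; simp at hb)] at e'
    · obtain ⟨k, rfl⟩ := Submodule.mem_span_singleton.mp (dual_dep h3 ha e hα h1.1 e1 e2 h2.1)
      refine Or.inl ⟨_, h2.smul_of_right, fun e' => e ?_⟩
      rwa [Submodule.smul_mem_iff _ (by rintro rfl; simp at hβ)] at e'
  · refine ⟨_, α, h2.comm h1 e1, smul_ne_zero e2 hb, hα, Or.inl ⟨a, h1, ?_⟩⟩
    exact notMem_span_of β (by simp [h2.1]) e2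
  · refine ⟨_, β, h1.comm h2 e2, smul_ne_zero e1 ha, hβ, Or.inl ⟨b, h2, ?_⟩⟩
    exact notMem_span_of α (by simp [h1.1]) e1
  · simp [e1, e2] at h0

theorem TK.exists_opp (hK : TK M K) (h : α a = 0) (ha : a ≠ 0) (hα : α ≠ 0) :
    ∃ b β, TR M b β ∧ α b * β a ≠ 0 := by
  obtain ⟨a₀, α₀, h0⟩ := hK.ex
  obtain ⟨b, β, h1, h2⟩ := (cls_tr hK.ex (p := fun _ _ => True) (fun _ _ _ _ _ => trivial)
    ⟨a₀, α₀, h0, trivial⟩).exists_opp hK.irr hK.dim h ha hα
  exact ⟨b, β, h1.1.1, h2⟩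

theorem TK.exists_rich (hK : TK M K) (h : ¬ AllOpp M) : ∃ a α, TR M a α ∧ a ≠ 0 ∧ α ≠ 0 ∧
    (∃ a', TR M a' α ∧ a' ∉ F ∙ a) ∧ ∃ α', TR M a α' ∧ α' ∉ F ∙ α := by
  obtain ⟨a, α, h1, ha, hα, h2⟩ := exists_same hK.dim h
  obtain ⟨b, β, h3, h0⟩ := hK.exists_opp h1.1 ha hα
  have e1 := left_ne_zero_of_mul h0
  have e2 := right_ne_zero_of_mul h0
  rcases h2 with ⟨a', h4, h5⟩ | ⟨α', h4, h5⟩
  · obtain ⟨c, a1, a2, a3⟩ := hK.rich_left h1 h4 h5 h3 h0
    exact ⟨c, α, a1, a2, hα, ⟨a, h1, notMem_span_of β a3 e2⟩, _, (a1.comm h3 a3).smul_of_left,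
      notMem_span_of (Dual.eval F V a) h1.1 (by simpa using h0)⟩
  · obtain ⟨γ, a1, a2, a3⟩ := hK.rich_right h1 h4 h5 h3 h0
    exact ⟨a, γ, a1, ha, a2, ⟨_, (a1.comm' h3 a3).smul_of_right,
      notMem_span_of α h1.1 (by simpa [mul_comm] using h0)⟩, α, h1,
      notMem_span_of (Dual.eval F V b) a3 e1⟩

/-- A triangle of root groups. -/
structure Tri (M : Subgroup (V ≃ₗ[F] V)) (e : Fin 3 → V) (ε : Fin 3 → Dual F V) : Prop where
  one : ∀ i, ε i (e i) = 1
  tr : ∀ i j, i ≠ j → TR M (e i) (ε j)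

theorem TK.exists_tri (hK : TK M K) (h : ¬ AllOpp M) : ∃ e ε, Tri M e ε := by
  obtain ⟨a, α, h1, ha, hα, ⟨a', h4, h5⟩, α', h6, h7⟩ := hK.exists_rich h
  obtain ⟨b, β, h3, h0⟩ := hK.exists_opp h1.1 ha hα
  have e1 := left_ne_zero_of_mul h0
  have e2 := right_ne_zero_of_mul h0
  obtain ⟨c, a1, a2, a3⟩ := hK.rich_left h1 h4 h5 h3 h0
  obtain ⟨γ, b1, b2, b3⟩ := hK.rich_right h1 h6 h7 h3 h0
  have c1 : TR M ((α b)⁻¹ • b) ((β a)⁻¹ • β) := by
    refine TR.smul_of_right ?_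
    rw [smul_smul, ← mul_inv]
    exact hK.smul_right h3 (K.inv_mem (hK.rich_mem h1 h4 h5 h3))
  have c2 : TR M c ((β a)⁻¹ • β) := by simpa [e1] using a1.comm c1 (by simp [a3])
  have c3 : γ c ≠ 0 := fun e => b2 (LinearMap.ext fun v => by
    obtain ⟨r, s, t, rfl⟩ := span3 hK.dim (a := a) (b := b) (c := c) (fun r s t e => by
      have e3 : r = 0 := by simpa [h3.1, a3, e2] using congrArg β e
      have e4 : s = 0 := by simpa [h1.1, a1.1, e1] using congrArg α e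
      exact ⟨e3, e4, by simpa [e3, e4, a2] using e⟩) v
    simp [e, b3, b1.1])
  have c4 : γ c ∈ K := by
    simpa [e2] using hK.rich_mem c2 c1 (notMem_span_of α a1.1 (by simp [e1])) b1
  have c5 := hK.smul_right b1 (K.inv_mem c4)
  have c6 : TR M ((α b)⁻¹ • b) ((γ c)⁻¹ • γ) := by simpa [e2] using c5.comm' c1 (by simp [b3])
  refine ⟨![a, (α b)⁻¹ • b, c], ![(β a)⁻¹ • β, α, (γ c)⁻¹ • γ], fun i => ?_, fun i j hij => ?_⟩
  · fin_cases i <;> simp [e1, e2, c3]
  · fin_cases i <;> fin_cases j <;> first | exact absurd rfl hij | assumption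

variable {e : Fin 3 → V} {ε : Fin 3 → Dual F V}

theorem Tri.zero (h : Tri M e ε) {i j : Fin 3} (hij : i ≠ j) : ε j (e i) = 0 := (h.tr i j hij).1

theorem Tri.app (h : Tri M e ε) (i j : Fin 3) : ε i (e j) = if i = j then 1 else 0 := by
  split_ifs with hij
  · exact hij ▸ h.one i
  · exact h.zero (Ne.symm hij)

theorem Tri.sum (h : Tri M e ε) (h3 : finrank F V = 3) (v : V) : v = ∑ i, ε i v • e i := by
  obtain ⟨r, s, t, rfl⟩ := span3 h3 (a := e 0) (b := e 1) (c := e 2) (fun r s t e =>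
    ⟨by simpa [h.app] using congrArg (ε 0) e, by simpa [h.app] using congrArg (ε 1) e,
      by simpa [h.app] using congrArg (ε 2) e⟩) v
  simp [h.app, Fin.sum_univ_three]

theorem exists_third (i j : Fin 3) : ∃ k, k ≠ i ∧ k ≠ j := by revert i j; decide

theorem TK.entry_mem (hK : TK M K) (h : Tri M e ε) (hd : TR M d δ) (i j : Fin 3) :
    ε i d * δ (e j) ∈ K := by
  have a1 : ∀ i j, i ≠ j → ε i d * δ (e j) ∈ K := fun i j hij => by
    obtain ⟨k, h1, h2⟩ := exists_third i j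
    exact hK.rich_mem (h.tr j i hij.symm) (h.tr k i h1)
      (notMem_span_of (ε k) (h.zero h2.symm) (by simp [h.one])) hd
  have a2 : ∀ i j, i ≠ j → ε j d * δ (e j) - ε i d * δ (e i) ∈ K := fun i j hij => by
    obtain ⟨k, h1, h2⟩ := exists_third i j
    have b1 : TR M (e i + e j) (ε j - ε i) := by
      simpa [h.one] using (h.tr j i hij.symm).conj_tr (h.tr i j hij)
    have b2 := hK.rich_mem b1 ((h.tr k j h2).sub_right (h.tr k i h1))
      (notMem_span_of (ε k) (by simp [h.app, h1, h2]) (by simp [h.one])) hd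
    convert K.add_mem (K.sub_mem b2 (a1 j i hij.symm)) (a1 i j hij) using 1
    simp; ring
  by_cases hij : i = j
  swap
  · exact a1 i j hij
  subst hij
  by_contra H
  obtain ⟨j, h1, -⟩ := exists_third i i
  obtain ⟨k, h2, h3⟩ := exists_third i j
  have b1 : ∀ j, j ≠ i → ε j d * δ (e j) ≠ 0 := fun j hj e => H (by simpa [e] using a2 j i hj)
  have b2 := left_ne_zero_of_mul (b1 j h1)
  have b3 := right_ne_zero_of_mul (b1 k h2)
  refine H ?_
  convert K.div_mem (K.mul_mem (a1 i k h2.symm) (a1 j i h1)) (a1 j k h3.symm) using 1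
  field_simp

/-- `M` is generated by its transvections. -/
def Gen (M : Subgroup (V ≃ₗ[F] V)) : Prop := ∀ S : Submonoid (V ≃ₗ[F] V),
  (∀ g ∈ M, ∀ (a : V) (α : Dual F V), α a = 0 → (∀ x, g x = x + α x • a) → g ∈ S) → ∀ g ∈ M, g ∈ S

theorem TK.all_mem (hK : TK M K) (h : Tri M e ε) (hG : Gen M) :
    ∀ g ∈ M, ∀ i j, ε i (g (e j)) ∈ K := by
  let S : Submonoid (V ≃ₗ[F] V) :=
    { carrier := {g | ∀ i j, ε i (g (e j)) ∈ K}
      one_mem' := fun i j => by
        rw [LinearEquiv.coe_one, id, h.app]; split_ifs <;> simp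
      mul_mem' := fun {g g'} hg hg' i j => by
        rw [LinearEquiv.mul_apply, h.sum hK.dim (g' _), map_sum, map_sum]
        exact sum_mem fun k _ => by simpa using K.mul_mem (hg' k j) (hg i k) }
  refine hG S fun g hg a α h0 h1 i j => ?_
  rw [h1, map_add, map_smul, smul_eq_mul, mul_comm]
  exact K.add_mem (S.one_mem i j) (hK.entry_mem h ⟨h0, g, hg, h1⟩ i j)

theorem TK.SLV_le (hK : TK M ⊤) (h : Tri M e ε) : SLV F V ≤ M := by
  have : FiniteDimensional F V := Module.finite_of_finrank_pos (by rw [hK.dim]; omega)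
  refine SLV_le_of_PS (eq_top_iff.mpr fun v _ => ?_)
  rw [h.sum hK.dim v]
  refine sum_mem fun i _ => Submodule.smul_mem _ _ fun φ hφ => ?_
  have : φ = ∑ j, φ (e j) • ε j := LinearMap.ext fun x => by
    conv_lhs => rw [h.sum hK.dim x]
    simp [mul_comm]
  rw [this]
  refine Finset.sum_induction _ (fun ψ => TR M (e i) ψ) (fun _ _ => TR.add_right)
    (TR.zero_right _) fun j _ => ?_
  by_cases hij : i = j
  · subst hij; simpa [hφ] using TR.zero_right _
  · exact hK.smul_right (h.tr i j hij) trivial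

end Cfsg.Agent.H18.Mi
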