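import Cfsg.Agent.H18.MiC
import Cfsg.Agent.H18.FinField
import Cfsg.Agent.H12.MaxU

/-!
Transvections in dimension three: the unitary case.
-/

set_option autoImplicit false

namespace Cfsg.Agent.H18.Mi

open Cfsg.Agent.H12 Module

variable {F V : Type*} [Field F] [AddCommGroup V] [Module F V]

theorem exc9 {l u v D : F} (h3 : (3 : F) = 0) (hl : l ^ 2 = -1) (hu : u ^ 4 = 1) (hv : v ^ 4 = 1)
    (a1 : (u - l * v + D) ^ 4 = 1) (a2 : (u - l * v - D) ^ 4 = 1)
    (a3 : (v - l * u + D) ^ 4 = 1) (a4 : (v - l * u - D) ^ 4 = 1)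
    (a5 : (-l * (u + v) + (1 + l) * D) ^ 4 = 1) (a6 : (-l * (u + v) - (1 + l) * D) ^ 4 = 1)
    (a7 : (-l * (u - v) + (1 - l) * D) ^ 4 = 1) (a8 : (-l * (u - v) - (1 - l) * D) ^ 4 = 1) :
    False := by
  haveI : CharP F 3 := (CharP.charP_iff_prime_eq_zero Nat.prime_three).mpr (by exact_mod_cast h3)
  grind

theorem exists_ann (h3 : finrank F V = 3) (a b : V) :
    ∃ γ : Dual F V, γ ≠ 0 ∧ γ a = 0 ∧ γ b = 0 := by
  have : FiniteDimensional F V := Module.finite_of_finrank_pos (by omega)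
  obtain ⟨w, -, h⟩ := exists_notMem_of_finrank_lt (H := Submodule.span F {a, b}) (W := ⊤)
    (by have := finrank_span_pair_le (F := F) a b; rw [finrank_top]; omega)
  obtain ⟨γ, h1, h2⟩ := exists_dual_one h
  exact ⟨γ, fun e => by simp [e] at h1, h2 _ (Submodule.subset_span (by simp)),
    h2 _ (Submodule.subset_span (by simp))⟩

section unital

variable {σ : F →+* F} {B : V →ₛₗ[σ] V →ₗ[F] F} {M : Subgroup (UG B)}

theorem unital [Finite F] (D : SD B) (h3 : finrank F V = 3) (hT : TH B) (hσ : ∃ μ, σ μ ≠ μ)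
    {a b c d : V}
    (ha : IS M a) (hb : IS M b) (hd : IS M d) (hab : B a b = 1) (had : B a d = 1) (hca : B c a = 0)
    (hcb : B c b = 0) (hcd : B c d ≠ 0) : SUG B ≤ M := by
  have : FiniteDimensional F V := Module.finite_of_finrank_pos (by omega)
  have a0 : a ≠ 0 := fun e => by simp [e] at hab
  have hba : ∀ v, B a v = 1 → B v a = -1 := fun v h => by rw [D.skew, h, map_one]
  have A : ∀ v v', IS M v → B a v = 1 → B v' v' = 0 → B a v' = 1 → B c v' = B c v → IS M v' :=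
    fun v v' h1 h2 h4 h5 h6 => by
      have : v' - v ∈ F ∙ a := by_contra fun H => by
        obtain ⟨k, hk⟩ := Submodule.mem_span_singleton.mp (dual_dep h3 a0 H (α := B a) (β := B c)
          (fun e => by simp [e] at hab) ha.1 (by simp [h2, h5]) hca (by simp [h6]))
        have : k = 0 := by simpa [hab, hcb] using LinearMap.congr_fun hk b
        exact hcd (by rw [← hk, this]; simp)
      obtain ⟨r, hr⟩ := Submodule.mem_span_singleton.mp this
      obtain rfl : v' = v + r • a := by rw [hr]; abel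
      by_cases h0 : r = 0
      · simpa [h0] using h1
      · exact h1.add D (ha.smul D r) (by simp [hba v h2, h0]) h4
  have C : ∀ v, IS M v → B a v = 1 → B c v ≠ 0 → ∀ μ, σ μ ≠ μ →
      ∃ w, IS M w ∧ B a w = 1 ∧ B c w = μ * B c v := fun v h1 h2 h4 μ hμ => by
    have μ0 : μ ≠ 0 := by rintro rfl; simp at hμ
    set l := μ⁻¹ - 1 with hl
    have l1 : l - σ l ≠ 0 := fun e => hμ (by
      rw [hl, map_sub, map_one, map_inv₀] at e
      exact inv_injective (by linear_combination -e))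
    have l0 : l ≠ 0 := by rintro e; simp [e] at l1
    set k := (l * B v b - σ (l * B v b)) / (l - σ l) with hk
    have k1 : σ k = k := by
      rw [hk, map_div₀, map_sub, map_sub, D.invol, D.invol, ← neg_div_neg_eq]; simp
    have w1 : IS M (b + k • a) := by
      by_cases h0 : k = 0
      · simpa [h0] using hb
      · exact hb.add D (ha.smul D k) (by simp [hba b hab, h0])
          (by simp [ha.1, hb.1, hab, hba b hab, k1])
    have w2 : B v (b + k • a) ≠ 0 := fun e => by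
      have : b + k • a = 0 := D.sep _ fun y => by
        obtain ⟨r, s, t, rfl⟩ := span3 h3 (a := v) (b := b + k • a) (c := c) (fun r s t e' => by
          have e1 : t = 0 := by
            have := congrArg (B v) e'
            rw [map_add, map_add, map_smul, map_smul, map_smul, h1.1, e] at this
            simpa [D.ne0 h4] using this
          have e2 : r = 0 := by simpa [e1, hca, hcb, h4] using congrArg (B c) e'
          exact ⟨e2, by simpa [e1, e2, ha.1, hab] using congrArg (B a) e', e1⟩) y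
        rw [map_add, map_add, map_smul, map_smul, map_smul, D.comm0 e, w1.1,
          D.comm0 (show B c (b + k • a) = 0 by simp [hca, hcb])]
        simp
      simpa [ha.1, hab] using congrArg (B a) this
    have w3 := h1.add D (w1.smul D l) (by rw [map_smul]; exact mul_ne_zero l0 w2) (by
      have e1 : B v (b + k • a) = B v b - k := by simp [hba v h2, sub_eq_add_neg]
      rw [map_add B, LinearMap.add_apply, map_add, map_add (B (l • _)), h1.1, (w1.smul D l).1,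
        D.skew v, map_smul, e1, smul_eq_mul, map_mul, map_sub σ (B v b), k1]
      have : k * (l - σ l) = l * B v b - σ l * σ (B v b) := by
        rw [hk, div_mul_cancel₀ _ l1, map_mul]
      linear_combination -this)
    refine ⟨_, w3.smul D μ, ?_, ?_⟩
    · simp [h2, hab, ha.1, hl, μ0, mul_sub]
    · simp [hca, hcb]
  refine D.SUG_le_of_IS' D.ns hT (by omega) (D.sperp_ne_top a0) fun v hv h => ?_
  rw [mem_sperp_singleton] at h
  refine IS.of_smul D (a := (B a v)⁻¹) ?_ (inv_ne_zero h)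
  have v1 : B ((B a v)⁻¹ • v) ((B a v)⁻¹ • v) = 0 := by simp [hv]
  have v2 : B a ((B a v)⁻¹ • v) = 1 := by simp [h]
  generalize (B a v)⁻¹ • v = u at v1 v2
  by_cases h0 : B c u = 0
  · exact A b u hb hab v1 v2 (h0.trans hcb.symm)
  by_cases h1 : σ (B c u / B c d) = B c u / B c d
  · obtain ⟨μ, hμ⟩ := hσ
    have μ0 : μ ≠ 0 := by rintro rfl; simp at hμ
    obtain ⟨w, b1, b2, b3⟩ := C d hd had hcd μ hμ
    obtain ⟨w', b4, b5, b6⟩ := C w b1 b2 (b3 ▸ mul_ne_zero μ0 hcd) (B c u / B c d / μ) (by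
      rw [map_div₀, h1]
      exact fun e => hμ (inv_injective (mul_left_cancel₀ (div_ne_zero h0 hcd)
        (by simpa only [div_eq_mul_inv] using e))))
    exact A w' u b4 b5 v1 v2 (by rw [b6, b3]; field_simp)
  · obtain ⟨w, b1, b2, b3⟩ := C d hd had hcd _ h1
    exact A w u b1 b2 v1 v2 (by rw [b3]; field_simp)

end unital

variable {M : Subgroup (V ≃ₗ[F] V)} {a b c d : V} {α β γ δ : Dual F V} {K : Subfield F}

/-- A non-trivial transvection of `M`. -/
def XT (M : Subgroup (V ≃ₗ[F] V)) (a : V) (α : Dual F V) : Prop := TR M a α ∧ a ≠ 0 ∧ α ≠ 0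

theorem XT.cls (h : XT M a α) : Cls M fun a α => XT M a α ∧ True :=
  cls_tr ⟨a, α, h⟩ (p := fun _ _ => True) (fun _ _ _ _ _ => trivial) ⟨a, α, h, trivial⟩

theorem XT.conj_tr (h' : XT M b β) (h : TR M a α) : XT M (b + α b • a) (β - β a • α) :=
  (h'.cls.conj_tr h ⟨h', trivial⟩).1

theorem XT.scale (h : XT M a α) {s : F} (hs : s ≠ 0) : XT M (s⁻¹ • a) (s • α) :=
  ⟨TR.smul_of_right (by simpa [smul_smul, hs] using h.1), by simpa [hs] using h.2.1,
    by simpa [hs] using h.2.2⟩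

theorem XT.smul (hK : TK M K) (h : XT M a α) {k : F} (hk : k ∈ K) (h0 : k ≠ 0) : XT M a (k • α) :=
  ⟨hK.smul_right h.1 hk, h.2.1, smul_ne_zero h0 h.2.2⟩

theorem AllOpp.ne (hA : AllOpp M) (h : XT M a α) (h' : XT M d δ) (h1 : γ a = 0) (h2 : γ d ≠ 0) :
    α d * δ a ≠ 0 := fun e =>
  notMem_span_of γ h1 h2 (hA a α d δ h.1 h.2.1 h.2.2 h'.1 h'.2.1 h'.2.2 e).1

theorem TK.exists_third (hK : TK M K) (hA : AllOpp M) (h : XT M a α) (b : V) :
    ∃ (γ : Dual F V) (d : V) (δ : Dual F V), γ a = 0 ∧ γ b = 0 ∧ γ d ≠ 0 ∧ XT M d δ ∧ α d = 1 := by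
  obtain ⟨γ, h1, h2, h3⟩ := exists_ann hK.dim a b
  obtain ⟨d, δ, ⟨h4, -⟩, h5⟩ := h.cls.exists_left hK.irr h1
  have h6 := left_ne_zero_of_mul (hA.ne h h4 h2 h5)
  exact ⟨γ, _, _, h2, h3, by simp [h5, h6], h4.scale h6, by simp [h6]⟩

theorem TK.lm' (hK : TK M K) (hA : AllOpp M) (h : TR M a α) (h' : TR M b β) : α b * β a ∈ K := by
  by_contra H
  obtain ⟨h3, hl, hs⟩ := (hK.lm h h').resolve_left H
  have h0 : α b * β a ≠ 0 := fun e => H (e ▸ K.zero_mem)
  have e1 := left_ne_zero_of_mul h0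
  have ha : XT M a α := ⟨h, fun e => h0 (by simp [e]), fun e => h0 (by simp [e])⟩
  have hb := XT.scale ⟨h', fun e => h0 (by simp [e]), fun e => h0 (by simp [e])⟩ e1
  have e2 : α ((α b)⁻¹ • b) = 1 := by simp [e1]
  have e3 : (α b • β) a = α b * β a := rfl
  generalize α b * β a = l at *
  generalize (α b)⁻¹ • b = b at *
  generalize α _ • β = β at *
  obtain ⟨γ, d, δ, a1, a2, a3, hd, a4⟩ := hK.exists_third hA ha b
  have key : ∀ {e ε}, XT M e ε → γ e = 0 → (ε d * δ e) ^ 4 = 1 := fun he h1 => by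
    rcases hK.lm he.1 hd.1 with a | ⟨-, a, -⟩
    · rcases hs _ a with a | a | a
      · exact absurd a (hA.ne he hd h1 a3)
      · rw [a]; norm_num
      · rw [a]; norm_num
    · rw [show 4 = 2 * 2 from rfl, pow_mul, a]; norm_num
  have b1 := hb.conj_tr h
  have b2 := hb.conj_tr h.neg_right
  have c1 := key (ha.conj_tr hb.1) (by simp [a1, a2])
  have c2 := key (ha.conj_tr hb.1.neg_right) (by simp [a1, a2])
  have c3 := key b1 (by simp [a1, a2])
  have c4 := key b2 (by simp [a1, a2])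
  have c5 := key (b1.conj_tr hb.1) (by simp [a1, a2])
  have c6 := key (b2.conj_tr hb.1.neg_right) (by simp [a1, a2])
  have c7 := key (b1.conj_tr hb.1.neg_right) (by simp [a1, a2])
  have c8 := key (b2.conj_tr hb.1) (by simp [a1, a2])
  have c9 := key ha a1
  simp [e2, e3, a4, h.1, hb.1.1] at c1 c2 c3 c4 c5 c6 c7 c8 c9
  refine exc9 (D := β d * δ a - l * δ b) h3 hl c9 (key hb a2) ?_ ?_ ?_ ?_ ?_ ?_ ?_ ?_
  · convert c2 using 2; ring
  · convert c1 using 2; ring
  · convert c3 using 2; ring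
  · convert c4 using 2; ring
  · convert c5 using 2; linear_combination -(β d * δ b) * hl - l * β d * δ b * h3
  · convert c6 using 2; linear_combination -(β d * δ b) * hl - l * β d * δ b * h3
  · convert c7 using 2; linear_combination -(β d * δ b) * hl + l * β d * δ b * h3
  · convert c8 using 2; linear_combination -(β d * δ b) * hl + l * β d * δ b * h3

theorem TK.pair [Finite F] (hK : TK M K) (hA : AllOpp M) (ha : XT M a α) (hb : XT M b β)
    (hd : XT M d δ) (h1 : α b = 1) (h2 : β a = -1) (h3 : α d = 1) (h4 : δ a = -1) :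
    δ b = -frobOf K (β d) ∧ (β d ∈ K → d ∈ F ∙ (b - β d • a)) := by
  have key : ∀ r ∈ K, XT M (b + r • a) (β + r • α) := fun r hr => by
    simpa [h1, h2, neg_one_smul F (r • α)] using hb.conj_tr (hK.smul_right ha.1 hr)
  have a1 := hK.lm' hA hb.1 hd.1
  have a2 : δ b - β d ∈ K := by
    convert K.add_mem (K.sub_mem (hK.lm' hA (key 1 K.one_mem).1 hd.1) a1) K.one_mem using 1
    simp [h3, h4]; ring
  by_cases hx : β d ∈ K
  · have b1 := key _ (K.neg_mem hx)
    obtain ⟨b2, b3⟩ := hA _ _ d δ b1.1 b1.2.1 b1.2.2 hd.1 hd.2.1 hd.2.2 (by simp [h3])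
    obtain ⟨k, hk⟩ := Submodule.mem_span_singleton.mp b3
    have b4 : k = 1 := by simpa [h2, h4, ha.1.1] using LinearMap.congr_fun hk a
    refine ⟨?_, fun _ => by simpa [sub_eq_add_neg] using b2⟩
    rw [(frobOf_eq_iff K _).mpr hx]
    simpa [b4, h1, hb.1.1] using (LinearMap.congr_fun hk b).symm
  · refine ⟨?_, fun h => absurd h hx⟩
    have b1 := (frobOf_eq_iff K _).mpr a1
    have b2 := (frobOf_eq_iff K _).mpr a2
    rw [map_mul] at b1
    rw [map_sub] at b2
    refine mul_left_cancel₀ (sub_ne_zero.mpr (mt (frobOf_eq_iff K _).mp hx)) ?_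
    linear_combination b1 - frobOf K (β d) * b2

theorem TK.norm (hK : TK M K) (hA : AllOpp M) (ha : XT M a α) (hd : XT M d δ) (h : α d = 1)
    (h0 : δ a ≠ 0) : ∃ k ∈ K, k ≠ 0 ∧ XT M d (k • δ) ∧ (k • δ) a = -1 := by
  have h1 : δ a ∈ K := by simpa [h] using hK.lm' hA ha.1 hd.1
  have h2 := K.neg_mem (K.inv_mem h1)
  exact ⟨_, h2, by simpa using h0, hd.smul hK h2 (by simpa using h0), by simp [h0]⟩

/-- A normalised frame in the unitary case. -/
structure UF (M : Subgroup (V ≃ₗ[F] V)) (K : Subfield F) (φ : F →+* F) (e : Fin 3 → V)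
    (α ε : Fin 3 → Dual F V) : Prop where
  app : ∀ i j, ε i (e j) = if i = j then 1 else 0
  xt : ∀ i, XT M (e i) (α i)
  h01 : α 0 (e 1) = 1
  h02 : α 0 (e 2) = 1
  x : φ (α 1 (e 2)) ≠ α 1 (e 2)
  sk : ∀ i j, α i (e j) = -φ (α j (e i))
  comb : ∀ (L : Subfield F) (v : V), (∀ i j, α i (e j) ∈ L) → (∀ i, α i v ∈ L) → ∀ i, ε i v ∈ L
  sep : ∀ v : V, (∀ i, α i v = 0) → ∀ i, ε i v = 0
  good : ∀ {d δ}, XT M d δ → ∃ s : F, s ≠ 0 ∧ ∃ k ∈ K, k ≠ 0 ∧ XT M (s⁻¹ • d) (k • s • δ) ∧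
    ∀ i, (k • s • δ) (e i) = -φ (α i (s⁻¹ • d)) ∧ α i (s⁻¹ • d) = -φ ((k • s • δ) (e i))

theorem TK.exists_UF [Finite F] (hK : TK M K) (hA : AllOpp M) :
    ∃ e α ε, UF M K (frobOf K) e α ε := by
  obtain ⟨a, α, ha⟩ : ∃ a α, XT M a α := hK.ex
  obtain ⟨b₀, β₀, h1, h0⟩ := hK.exists_opp ha.1.1 ha.2.1 ha.2.2
  have e1 := left_ne_zero_of_mul h0
  have h2 := XT.scale ⟨h1, fun e => h0 (by simp [e]), fun e => h0 (by simp [e])⟩ e1
  have e2 : α ((α b₀)⁻¹ • b₀) = 1 := by simp [e1]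
  obtain ⟨k, -, -, hb, e3⟩ := hK.norm hA ha h2 e2 h0
  generalize (α b₀)⁻¹ • b₀ = b at *
  generalize k • α b₀ • β₀ = β at *
  obtain ⟨γ, d, δ₀, a1, a2, a3, h3, e4⟩ := hK.exists_third hA ha b
  obtain ⟨k', -, -, hd, e5⟩ := hK.norm hA ha h3 e4 (right_ne_zero_of_mul (hA.ne ha h3 a1 a3))
  generalize k' • δ₀ = δ at *
  obtain ⟨b1, b2⟩ := hK.pair hA ha hb hd e2 e3 e4 e5
  have b3 : frobOf K (β d) ≠ β d := fun e =>
    notMem_span_of γ (by simp [a1, a2]) a3 (b2 ((frobOf_eq_iff K _).mp e))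
  have b4 : β d + δ b ≠ 0 := fun e => b3 (by linear_combination b1 - e)
  have b5 := (hK.pair hA ha hd hb e4 e5 e2 e3).1
  let ε := (β d + δ b)⁻¹ • (β - δ + δ b • α)
  have c1 : ε a = 0 := by simp [ε, ha.1.1, e3, e5]
  have c2 : ε b = 0 := by simp [ε, hb.1.1, e2]
  have c3 : ε d = 1 := by simp [ε, hd.1.1, e4, b4, ← mul_add]
  refine ⟨![a, b, d], ![α, β, δ], ![β d • ε - β, α - ε, ε], fun i j => ?_, fun i => ?_, e2, e4, b3,
    fun i j => ?_, fun L v h h' i => ?_, fun v h i => ?_, fun {c γ} hc => ?_⟩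
  · fin_cases i <;> fin_cases j <;> simp [c1, c2, c3, e2, e3, e4, ha.1.1, hb.1.1]
  · fin_cases i <;> assumption
  · fin_cases i <;> fin_cases j <;>
      first | exact b1 | exact b5 | simp [e2, e3, e4, e5, ha.1.1, hb.1.1, hd.1.1]
  · have f1 : ε v ∈ L := L.mul_mem (L.inv_mem (L.add_mem (h 1 2) (h 2 1)))
      (L.add_mem (L.sub_mem (h' 1) (h' 2)) (L.mul_mem (h 2 1) (h' 0)))
    fin_cases i
    · exact L.sub_mem (L.mul_mem (h 1 2) f1) (h' 1)
    · exact L.sub_mem (h' 0) f1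
    · exact f1
  · have f0 : α v = 0 := h 0
    have f1 : β v = 0 := h 1
    have f2 : δ v = 0 := h 2
    fin_cases i <;> simp [ε, f0, f1, f2]
  · by_cases h : α c * γ a = 0
    · obtain ⟨f1, f2⟩ := hA _ _ _ _ ha.1 ha.2.1 ha.2.2 hc.1 hc.2.1 hc.2.2 h
      obtain ⟨r, rfl⟩ := Submodule.mem_span_singleton.mp f1
      obtain ⟨t, rfl⟩ := Submodule.mem_span_singleton.mp f2
      have r0 : r ≠ 0 := by rintro rfl; exact hc.2.1 (zero_smul _ _)
      have t0 : t ≠ 0 := by rintro rfl; exact hc.2.2 (zero_smul _ _)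
      have f3 : r * t ∈ K := (hK.root ha.1 ha.2.1 ha.2.2 _).mp (smul_smul r t α ▸ hc.1.smul_of_left)
      have f4 : (r * t)⁻¹ • r • t • α = α := by
        rw [smul_smul r, smul_smul, inv_mul_cancel₀ (mul_ne_zero r0 t0), one_smul]
      refine ⟨r, r0, _, K.inv_mem f3, inv_ne_zero (mul_ne_zero r0 t0), ?_⟩
      rw [f4, inv_smul_smul₀ r0]
      exact ⟨ha, fun i => by fin_cases i <;> simp [e2, e3, e4, e5, ha.1.1]⟩
    · have f1 := left_ne_zero_of_mul h
      have f2 : α ((α c)⁻¹ • c) = 1 := by simp [f1]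
      obtain ⟨k, f3, f4, f5, f6⟩ := hK.norm hA ha (hc.scale f1) f2 h
      refine ⟨_, f1, k, f3, f4, f5, fun i => ?_⟩
      fin_cases i
      · exact ⟨by rw [show (![α, β, δ] : Fin 3 → _) _ = α from rfl, f2, map_one]; exact f6,
          by rw [show (![a, b, d] : Fin 3 → _) _ = a from rfl, f6, map_neg, map_one, neg_neg]; exact f2⟩
      · exact ⟨(hK.pair hA ha hb f5 e2 e3 f2 f6).1, (hK.pair hA ha f5 hb f2 f6 e2 e3).1⟩
      · exact ⟨(hK.pair hA ha hd f5 e4 e5 f2 f6).1, (hK.pair hA ha f5 hd f2 f6 e4 e5).1⟩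

variable {e : Fin 3 → V} {α ε : Fin 3 → Dual F V} {φ : F →+* F}

theorem sum_of_app (h : ∀ i j, ε i (e j) = if i = j then 1 else 0) (h3 : finrank F V = 3) (v : V) :
    v = ∑ i, ε i v • e i := by
  obtain ⟨r, s, t, rfl⟩ := span3 h3 (a := e 0) (b := e 1) (c := e 2) (fun r s t e =>
    ⟨by simpa [h] using congrArg (ε 0) e, by simpa [h] using congrArg (ε 1) e,
      by simpa [h] using congrArg (ε 2) e⟩) v
  simp [h, Fin.sum_univ_three]

theorem gen_all_mem (h : ∀ i j, ε i (e j) = if i = j then 1 else 0) (h3 : finrank F V = 3)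
    (hG : Gen M) {L : Subfield F} (H : ∀ d δ, XT M d δ → ∀ i j, ε i d * δ (e j) ∈ L) :
    ∀ g ∈ M, ∀ i j, ε i (g (e j)) ∈ L := by
  let S : Submonoid (V ≃ₗ[F] V) :=
    { carrier := {g | ∀ i j, ε i (g (e j)) ∈ L}
      one_mem' := fun i j => by
        rw [LinearEquiv.coe_one, id, h]; split_ifs <;> simp
      mul_mem' := fun {g g'} hg hg' i j => by
        rw [LinearEquiv.mul_apply, sum_of_app h h3 (g' _), map_sum, map_sum]
        exact sum_mem fun k _ => by simpa using L.mul_mem (hg' k j) (hg i k) }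
  refine hG S fun g hg a α h0 h1 i j => ?_
  rw [h1, map_add, map_smul, smul_eq_mul, mul_comm]
  refine L.add_mem (S.one_mem i j) ?_
  by_cases ha : a = 0
  · simp [ha]
  by_cases hα : α = 0
  · simp [hα]
  exact H a α ⟨⟨h0, g, hg, h1⟩, ha, hα⟩ i j

theorem UF.all_mem (h : UF M K φ e α ε) (h3 : finrank F V = 3) (hG : Gen M)
    (hφ : ∀ x ∈ K, φ x = x) :
    ∀ g ∈ M, ∀ i j, ε i (g (e j)) ∈ (φ.comp φ).eqLocusField (RingHom.id F) := by
  refine gen_all_mem h.app h3 hG fun d δ hd i j => ?_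
  obtain ⟨s, s0, k, hk, k0, -, h1⟩ := h.good hd
  set L := (φ.comp φ).eqLocusField (RingHom.id F)
  have m : ∀ x y, x = -φ y → y = -φ x → x ∈ L := fun x y a b => by
    change φ (φ x) = x
    rw [show φ x = -y by rw [b, neg_neg], map_neg, ← a]
  have a1 := h.comb L _ (fun i j => m _ _ (h.sk i j) (h.sk j i)) (fun i => m _ _ (h1 i).2 (h1 i).1) i
  have a2 : k ∈ L := by change φ (φ k) = k; rw [hφ k hk, hφ k hk]
  convert L.div_mem (L.mul_mem a1 (m _ _ (h1 j).1 (h1 j).2)) a2 using 1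
  simp; field_simp

theorem UF.unitary [Finite F] (h : UF M K φ e α ε) (hK : TK M K) (hG : Gen M)
    (hφ : ∀ x, φ x = x ↔ x ∈ K) (h2 : ∀ x, φ (φ x) = x) : ∃ B : V →ₛₗ[φ] V →ₗ[F] F,
      SD B ∧ M ≤ UG B ∧ ∀ g ∈ SUG B, g.1 ∈ M := by
  let B : V →ₛₗ[φ] V →ₗ[F] F :=
    { toFun := fun v => ∑ i, φ (ε i v) • α i
      map_add' := fun x y => by simp [add_smul, Finset.sum_add_distrib]
      map_smul' := fun c x => by simp [Finset.smul_sum, smul_smul] }
  have b1 : ∀ x y, B x y = ∑ i, φ (ε i x) * α i y := fun x y => by simp [B]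
  have b2 : ∀ i, B (e i) = α i := fun i => by
    ext y; simp [b1, h.app, apply_ite φ]
  have b3 : ∀ x y, B y x = -φ (B x y) := fun x y => by
    have : ∀ i v, α i v = ∑ j, ε j v * α i (e j) := fun i v => by
      conv_lhs => rw [sum_of_app h.app hK.dim v]
      simp
    rw [b1, b1]
    simp only [this _ x, this _ y, Finset.mul_sum, map_sum, map_mul, h2, ← Finset.sum_neg_distrib]
    rw [Finset.sum_comm]
    exact Finset.sum_congr rfl fun i _ => Finset.sum_congr rfl fun j _ => by rw [h.sk j i]; ring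
  have D : SD B := ⟨h2, b3, fun x hx => by
    rw [sum_of_app h.app hK.dim x]
    have c1 : ∀ i, α i x = 0 := fun i => by rw [← b2, b3, hx, map_zero, neg_zero]
    simp [h.sep x c1], fun x => by
    obtain ⟨θ, hθ⟩ : ∃ θ, θ + φ θ ≠ 0 := by
      by_contra! H
      exact h.x (by linear_combination H (α 1 (e 2)) - α 1 (e 2) * (H 1) + α 1 (e 2) * map_one φ)
    refine ⟨B x x * θ / (θ + φ θ), ?_⟩
    rw [map_div₀, map_mul, map_add, h2, show φ (B x x) = -B x x by linear_combination b3 x x,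
      add_comm (φ θ)]
    field_simp; ring⟩
  have b4 : ∀ {d δ}, (∀ i, δ (e i) = -φ (α i d)) → B d = δ := fun {d δ} H => by
    ext y
    rw [sum_of_app h.app hK.dim y]
    simp [H, b3 (e _) d, b2]
  have b5 : M ≤ UG B := fun g hg => hG (UG B).toSubmonoid (fun g hg a β h0 h1 => by
    by_cases ha : a = 0
    · exact fun x y => by simp [h1, ha]
    by_cases hβ : β = 0
    · exact fun x y => by simp [h1, hβ]
    obtain ⟨s, s0, k, hk, k0, c1, c2⟩ := h.good ⟨⟨h0, g, hg, h1⟩, ha, hβ⟩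
    have c3 := b4 fun i => (c2 i).1
    have : g = (tv B (s⁻¹ • a) k⁻¹).1 := LinearEquiv.ext fun x => by
      rw [tv_apply D (c3 ▸ c1.1.1) ((hφ _).mpr (K.inv_mem hk)), c3, h1, smul_smul]
      simp; field_simp
    exact this ▸ (tv B _ _).2) g hg
  have b6 : ∀ i, IS (M.subgroupOf (UG B)) (e i) := fun i =>
    IS.of_fix (b2 i ▸ (h.xt i).1.1) fun c hc => (hK.smul_right (h.xt i).1 ((hφ c).mp hc)).mem
      fun x => (tv_apply D (b2 i ▸ (h.xt i).1.1) hc x).trans (by rw [b2]; rfl)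
  obtain ⟨k, k1, k2, k3⟩ := hK.big
  have c1 := h.sk 1 0
  have c2 := h.sk 2 0
  have c3 := h.sk 2 1
  rw [h.h01, map_one] at c1
  rw [h.h02, map_one] at c2
  refine ⟨B, D, b5, unital D hK.dim (Or.inl ⟨k, (hφ k).mpr k1, k2, k3⟩) ⟨_, h.x⟩ (b6 0) (b6 1)
    (b6 2) (b2 0 ▸ h.h01) (b2 0 ▸ h.h02) (c := α 1 (e 2) • e 0 - e 1 + e 2) (D.comm0 ?_)
    (D.comm0 ?_) (D.ne0 ?_)⟩
  · simp [b2, (h.xt 0).1.1, h.h01, h.h02]
  · simp [b2, (h.xt 1).1.1, c1]
  · simpa [b2, (h.xt 2).1.1, c2, c3, neg_add_eq_zero] using h.x.symm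

end Cfsg.Agent.H18.Mi
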