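import Cfsg.Agent.H18.MiD

/-!
Transvections in dimension three, characteristic two, root groups of order two: centralizers.
-/

set_option autoImplicit false

namespace Cfsg.Agent.H18.Mi

open Cfsg.Agent.H12 Module

variable {F V : Type*} [Field F] [AddCommGroup V] [Module F V] {M : Subgroup (V ≃ₗ[F] V)}
  {a a' b : V} {α α' β : Dual F V}

theorem rank_one (h3 : finrank F V = 3) {N : V →ₗ[F] V} (h0 : N ≠ 0) (h : ∀ x, N (N x) = 0) :
    ∃ (a : V) (α : Dual F V), a ≠ 0 ∧ α ≠ 0 ∧ α a = 0 ∧ ∀ x, N x = α x • a := by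
  have : FiniteDimensional F V := Module.finite_of_finrank_pos (by omega)
  have a1 := N.finrank_range_add_finrank_ker
  have a2 : finrank F N.range ≤ finrank F N.ker := Submodule.finrank_mono (by
    rintro _ ⟨x, rfl⟩; exact h x)
  have a3 : finrank F N.range ≠ 0 := fun e =>
    h0 (LinearMap.range_eq_bot.mp (Submodule.finrank_eq_zero.mp e))
  obtain ⟨⟨a, ha⟩, a4, a5⟩ := finrank_eq_one_iff'.mp (show finrank F N.range = 1 by omega)
  have a6 : a ≠ 0 := fun e => a4 (Subtype.ext e)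
  obtain ⟨φ, hφ, -⟩ := exists_dual_one (W := (⊥ : Submodule F V)) (v := a) a6
  have a7 : ∀ x, N x = φ (N x) • a := fun x => by
    obtain ⟨c, hc⟩ := a5 ⟨N x, x, rfl⟩
    have : c • a = N x := congrArg Subtype.val hc
    rw [← this, map_smul, hφ, smul_eq_mul, mul_one]
  refine ⟨a, φ ∘ₗ N, a6, fun e => h0 (LinearMap.ext fun x => ?_), ?_, a7⟩
  · rw [a7, show φ (N x) = 0 from LinearMap.congr_fun e x, zero_smul]; rfl
  · obtain ⟨x, rfl⟩ := ha
    simp [h]

theorem two_val (h2 : (2 : F) = 0) {E : Type*} [AddCommGroup E] [Module F E] {W : E → Prop}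
    (sub : ∀ x y, W x → W y → W (x - y))
    (H : ∀ (e : E) (x : F), e ≠ 0 → W e → W (x • e) → x = 0 ∨ x = 1) (ρ : E →ₗ[F] E)
    (hρ : ∀ e, W e → W (ρ e)) {e₀ e₁ : E} (h0 : W e₀) (h1 : W e₁) (n0 : e₀ ≠ 0) (l : E →ₗ[F] F)
    (l0 : l e₀ = 0) (l1 : l e₁ = 1) {κ u : F} (r0 : ρ e₀ = e₀) (r1 : ρ e₁ = κ • e₁ + u • e₀)
    (hκ : κ ≠ 0) : κ = 1 ∧ (u = 0 ∨ u = 1) := by
  have a1 := sub _ _ (hρ _ h1) h1
  have a2 : κ = 1 := by_contra fun hk => by
    have a3 := sub _ _ (hρ _ a1) a1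
    rw [show ρ (ρ e₁ - e₁) - (ρ e₁ - e₁) = (κ - 1) • (ρ e₁ - e₁) by
      simp only [map_sub, r1, map_add, map_smul, r0]; module] at a3
    rcases H _ _ (fun e => hk (by simpa [r1, l0, l1, sub_eq_zero] using congrArg l e)) a1 a3 with
      e | e
    · exact hk (sub_eq_zero.mp e)
    · exact hκ (by linear_combination e + h2)
  exact ⟨a2, H e₀ u n0 h0 (by simpa [r1, a2] using a1)⟩

/-- A frame adapted to a flag. -/
structure Fr (a a' : V) (α α' : Dual F V) : Prop where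
  h1 : α a = 0
  h2 : α a' = 0
  h3 : α' a = 0
  h4 : α' a' = 1

/-- Unipotent elements in coordinates. -/
def UN (a a' : V) (α α' : Dual F V) (g : V ≃ₗ[F] V) (u v w : F) : Prop :=
  ∀ x, g x = x + (u * α' x + w * α x) • a + (v * α x) • a'

variable {g g' : V ≃ₗ[F] V} {u v w u' v' w' : F}

theorem UN.mul (f : Fr a a' α α') (h : UN a a' α α' g u v w) (h' : UN a a' α α' g' u' v' w') :
    UN a a' α α' (g * g') (u + u') (v + v') (w + w' + u * v') := fun x => by
  rw [LinearEquiv.mul_apply, h, h']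
  simp only [map_add, map_smul, f.h1, f.h2, f.h3, f.h4, smul_eq_mul]
  module

theorem UN.congr (h : UN a a' α α' g u v w) (e1 : u = u') (e2 : v = v') (e3 : w = w') :
    UN a a' α α' g u' v' w' := e1 ▸ e2 ▸ e3 ▸ h

theorem UN.one : UN a a' α α' 1 0 0 0 := fun x => by simp

theorem UN.ext (h : UN a a' α α' g u v w) (h' : UN a a' α α' g' u v w) : g = g' :=
  LinearEquiv.ext fun x => (h x).trans (h' x).symm

theorem UN.tr_right (f : Fr a a' α α') (h : UN a a' α α' g u 0 w) (hg : g ∈ M) :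
    TR M a (u • α' + w • α) := ⟨by simp [f.h1, f.h3], g, hg, fun x => by simp [h x]⟩

theorem UN.tr_left (f : Fr a a' α α') (h : UN a a' α α' g 0 v w) (hg : g ∈ M) :
    TR M (v • a' + w • a) α := ⟨by simp [f.h1, f.h2], g, hg, fun x => by rw [h x]; module⟩

theorem un_of_left (h : TR M a' α) : ∃ s ∈ M, UN a a' α α' s 0 1 0 :=
  h.2.imp fun s hs => ⟨hs.1, fun x => by simp [hs.2 x]⟩

theorem un_of_right (h : TR M a α') : ∃ s ∈ M, UN a a' α α' s 1 0 0 :=
  h.2.imp fun s hs => ⟨hs.1, fun x => by simp [hs.2 x]⟩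

/-- The standing hypotheses. -/
structure Sm (M : Subgroup (V ≃ₗ[F] V)) : Prop where
  two : (2 : F) = 0
  dim : finrank F V = 3
  root : ∀ a α, TR M a α → a ≠ 0 → α ≠ 0 → ∀ x : F, TR M a (x • α) → x = 0 ∨ x = 1
  cube : ∀ g ∈ M, ∀ c : F, (∀ x, g x = c • x) → c ^ 3 = 1

theorem Sm.cent (hS : Sm M) (f : Fr a a' α α') (h : XT M a α) (hg : g ∈ M) {l : F}
    (h1 : g a = l • a) (h2 : ∀ x, α (g x) = l * α x) (hp : TR M a' α ∨ TR M a α') :
    ∃ u v w, ∃ n ∈ M, UN a a' α α' n u v w ∧ (∀ x, g x = l • n x) ∧ (u * v = 0 ∨ u * v = 1) ∧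
      (TR M a' α → u = 0 ∨ u = 1) ∧ (TR M a α' → v = 0 ∨ v = 1) := by
  have l0 : l ≠ 0 := by rintro rfl; exact h.2.1 (by simpa using h1)
  obtain ⟨b₀, hb⟩ : ∃ b, α b ≠ 0 := by
    by_contra! H; exact h.2.2 (LinearMap.ext H)
  obtain ⟨b, b1, b2⟩ : ∃ b, α b = 1 ∧ α' b = 0 :=
    ⟨(α b₀)⁻¹ • (b₀ - α' b₀ • a'), by simp [f.h2, hb], by simp [f.h4]⟩
  have sp := span3 hS.dim (a := a) (b := a') (c := b) (fun r s t e => by
    have e1 : t = 0 := by simpa [f.h1, f.h2, b1] using congrArg α e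
    have e2 : s = 0 := by simpa [f.h3, f.h4, b2] using congrArg α' e
    exact ⟨by simpa [e1, e2, h.2.1] using e, e2, e1⟩)
  obtain ⟨u, κ, t, e1⟩ := sp (l⁻¹ • g a')
  obtain rfl : t = 0 := by simpa [h2, f.h1, f.h2, b1] using (congrArg α e1).symm
  obtain ⟨w, v, t, e2⟩ := sp (l⁻¹ • g b)
  obtain rfl : t = 1 := by simpa [h2, f.h1, f.h2, b1, l0] using (congrArg α e2).symm
  have κ0 : κ ≠ 0 := by
    rintro rfl
    have : g (l⁻¹ • a' - (u * l⁻¹) • a) = 0 := by
      rw [map_sub, map_smul, map_smul, e1, h1, smul_smul]; simp [l0]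
    simpa [f.h3, f.h4, l0] using congrArg α' (g.map_eq_zero_iff.mp this)
  have c1 : TR M a' α → κ = 1 ∧ (u = 0 ∨ u = 1) := fun hl =>
    two_val hS.two (W := fun e => TR M e α) (fun _ _ => TR.sub_left)
      (fun e x e0 he hx => hS.root e α he e0 h.2.2 x hx.smul_of_left) (l⁻¹ • g.toLinearMap)
      (fun e he => TR.smul_of_right (he.conj hg fun x => by simp [h2, l0])) h.1 hl h.2.1 α' f.h3 f.h4
      (by simp [h1, smul_smul, l0]) (by rw [add_comm]; simpa using e1) κ0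
  have c2 : TR M a α' → κ = 1 ∧ (v = 0 ∨ v = 1) := fun hr =>
    two_val hS.two (W := fun e => TR M a e) (fun _ _ => TR.sub_right)
      (fun e x e0 he hx => hS.root a e he h.2.1 e0 x hx) (l⁻¹ • g.toLinearMap.dualMap)
      (fun e he => TR.smul_of_left (by
        have := he.conj (ψ := e ∘ₗ g.toLinearMap) (inv_mem hg) fun x => by simp
        rwa [show g⁻¹ a = l⁻¹ • a from g.symm_apply_eq.mpr (by simp [h1, smul_smul, l0])] at this))
      h.1 hr h.2.2 (Dual.eval F V a') f.h2 f.h4 (by ext x; simp [h2, l0]) (by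
        ext x
        obtain ⟨r, s, t, rfl⟩ := sp x
        have e3 := congrArg α' e1
        have e4 := congrArg α' e2
        simp [f.h3, f.h4, b2] at e3 e4
        simp [h1, f.h1, f.h2, f.h3, f.h4, b1, b2, ← e3, ← e4]; ring) κ0
  obtain rfl : κ = 1 := hp.elim (fun a => (c1 a).1) fun a => (c2 a).1
  let n := LinearEquiv.smulOfNeZero F V l⁻¹ (inv_ne_zero l0) * g
  have n1 : ∀ x, n x = l⁻¹ • g x := fun x => rfl
  have n2 : UN a a' α α' n u v w := fun x => by
    obtain ⟨r, s, t, rfl⟩ := sp x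
    rw [map_add, map_add, map_smul, map_smul, map_smul, n1, n1, n1, e1, e2, h1, inv_smul_smul₀ l0]
    simp only [map_add, map_smul, f.h1, f.h2, f.h3, f.h4, b1, b2, smul_eq_mul]
    module
  have n3 : ∀ x, g x = l • n x := fun x => by rw [n1, smul_inv_smul₀ l0]
  have n4 : UN a a' α α' (n * n) 0 0 (u * v) := (n2.mul f n2).congr
    (by linear_combination u * hS.two) (by linear_combination v * hS.two)
    (by linear_combination w * hS.two)
  have n5 : n * n * (n * n) = 1 := ((n4.mul f n4).congr (add_zero _) (add_zero _)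
    (by linear_combination u * v * hS.two)).ext UN.one
  have n6 : ∀ (k : ℕ) x, (g ^ k) x = l ^ k • (n ^ k) x := fun k => by
    induction k with
    | zero => simp
    | succ k ih => exact fun x => by simp [pow_succ', ih, n3, smul_smul, mul_comm]
  have n7 : n ^ 4 = 1 := by rw [← n5]; simp [pow_succ, mul_assoc]
  have n8 : l ^ 3 = 1 := by
    have := hS.cube _ (pow_mem hg 4) (l ^ 4) fun x => by rw [n6, n7]; rfl
    have e : (l ^ 3 - 1) ^ 4 = 0 := by
      linear_combination this + (1 - 2 * l ^ 9 + 3 * l ^ 6 - 2 * l ^ 3) * hS.two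
    exact sub_eq_zero.mp (pow_eq_zero_iff (by norm_num) |>.mp e)
  have n9 : n ∈ M := by
    convert pow_mem hg 9 using 1
    refine LinearEquiv.ext fun x => ?_
    rw [n6, show 9 = 4 * 2 + 1 from rfl, pow_succ n, pow_mul n, n7, show l ^ (4 * 2 + 1) = (l ^ 3) ^ 3
      by ring, n8]
    simp
  exact ⟨u, v, w, n, n9, n2, n3, hS.root a α h.1 h.2.1 h.2.2 _ (by
    simpa using n4.tr_right f (mul_mem n9 n9)), fun a => (c1 a).2, fun a => (c2 a).2⟩

theorem exists_fr_left (h1 : α a = 0) (h2 : α a' = 0) (h : a' ∉ F ∙ a) : ∃ α', Fr a a' α α' := by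
  obtain ⟨φ, a1, a2⟩ := exists_dual_one_zero h
  exact ⟨φ, h1, h2, a2, a1⟩

theorem exists_fr_right (h1 : α a = 0) (h2 : α' a = 0) (h : α' ∉ F ∙ α) : ∃ a', Fr a a' α α' := by
  obtain ⟨x, a1, a2⟩ : ∃ x, α x = 0 ∧ α' x ≠ 0 := by
    by_contra! H
    simpa [h] using mem_span_of_iInf_ker_le_ker (L := fun _ : Unit => α) (K := α')
      (by rw [iInf_const]; exact fun x hx => H x hx)
  exact ⟨(α' x)⁻¹ • x, h1, by simp [a1], h2, by simp [a2]⟩

theorem Sm.cent_left (hS : Sm M) (h : XT M a α) (hl : TR M a' α) (hl' : a' ∉ F ∙ a)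
    (hr : ∀ α', TR M a α' → α' ∈ F ∙ α) (hg : g ∈ M) {l : F}
    (h1 : g a = l • a) (h2 : ∀ x, α (g x) = l * α x) :
    ∃ y, TR M y α ∧ ∀ x, g x = l • (x + α x • y) := by
  obtain ⟨α', f⟩ := exists_fr_left h.1.1 hl.1 hl'
  obtain ⟨u, v, w, n, n1, n2, n3, n4, n5, -⟩ := hS.cent f h hg h1 h2 (Or.inl hl)
  obtain ⟨s, s1, s2⟩ := un_of_left (a := a) (α' := α') hl
  have key : ∀ w : F, ¬ TR M a ((1 : F) • α' + w • α) := fun w H =>
    notMem_span_of (Dual.eval F V a') f.h2 (by simp [f.h2, f.h4]) (hr _ H)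
  rcases n5 hl with rfl | rfl
  · exact ⟨_, n2.tr_left f n1, fun x => by rw [n3, n2]; module⟩
  rw [one_mul] at n4
  rcases n4 with rfl | rfl
  · exact absurd (n2.tr_right f n1) (key _)
  · exact absurd (((n2.mul f s2).congr (add_zero _) (by linear_combination hS.two) rfl).tr_right f
      (mul_mem n1 s1)) (key _)

theorem Sm.cent_right (hS : Sm M) (h : XT M a α) (hr : TR M a α') (hr' : α' ∉ F ∙ α)
    (hl : ∀ a', TR M a' α → a' ∈ F ∙ a) (hg : g ∈ M) {l : F}
    (h1 : g a = l • a) (h2 : ∀ x, α (g x) = l * α x) :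
    ∃ φ, TR M a φ ∧ ∀ x, g x = l • (x + φ x • a) := by
  obtain ⟨a', f⟩ := exists_fr_right h.1.1 hr.1 hr'
  obtain ⟨u, v, w, n, n1, n2, n3, n4, -, n5⟩ := hS.cent f h hg h1 h2 (Or.inr hr)
  obtain ⟨s, s1, s2⟩ := un_of_right (a' := a') (α := α) hr
  have key : ∀ w : F, ¬ TR M ((1 : F) • a' + w • a) α := fun w H =>
    notMem_span_of α' f.h3 (by simp [f.h3, f.h4]) (hl _ H)
  rcases n5 hr with rfl | rfl
  · exact ⟨_, n2.tr_right f n1, fun x => by rw [n3, n2]; simp⟩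
  rw [mul_one] at n4
  rcases n4 with rfl | rfl
  · exact absurd (n2.tr_left f n1) (key _)
  · exact absurd (((n2.mul f s2).congr (by linear_combination hS.two) (add_zero _) rfl).tr_left f
      (mul_mem n1 s1)) (key _)

theorem Sm.cent_both (hS : Sm M) (f : Fr a a' α α') (h : XT M a α) (hl : TR M a' α)
    (hr : TR M a α') (hg : g ∈ M) {l : F} (h1 : g a = l • a) (h2 : ∀ x, α (g x) = l * α x) :
    ∃ u v w, ∃ n ∈ M, UN a a' α α' n u v w ∧ (∀ x, g x = l • n x) ∧ (u = 0 ∨ u = 1) ∧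
      (v = 0 ∨ v = 1) ∧ (w = 0 ∨ w = 1) := by
  obtain ⟨u, v, w, n, n1, n2, n3, -, n4, n5⟩ := hS.cent f h hg h1 h2 (Or.inl hl)
  refine ⟨u, v, w, n, n1, n2, n3, n4 hl, n5 hr, ?_⟩
  obtain ⟨s, s1, s2⟩ := un_of_left (a := a) (α' := α') hl
  obtain ⟨r, r1, r2⟩ := un_of_right (a' := a') (α := α) hr
  have key : ∀ {g w}, g ∈ M → UN a a' α α' g 0 0 w → w = 0 ∨ w = 1 := fun hg H =>
    hS.root a α h.1 h.2.1 h.2.2 _ (by simpa using H.tr_right f hg)
  have e := hS.two
  rcases n4 hl with rfl | rfl <;> rcases n5 hr with rfl | rfl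
  · exact key n1 n2
  · exact key (mul_mem n1 s1) ((n2.mul f s2).congr (by ring) (by linear_combination e) (by ring))
  · exact key (mul_mem n1 r1) ((n2.mul f r2).congr (by linear_combination e) (by ring) (by ring))
  · exact key (mul_mem (mul_mem n1 r1) s1) (((n2.mul f r2).mul f s2).congr
      (by linear_combination e) (by linear_combination e) (by linear_combination e))

end Cfsg.Agent.H18.Mi
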