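import Cfsg.Agent.H18.MiE
import Cfsg.Agent.H6.ZStar
import Cfsg.Agent.H12.Lin
import Cfsg.Agent.S2202
import Cfsg.Agent.S3261
import Cfsg.Agent.S0495

/-!
Group-theoretic lemmas for the case of root groups of order two.
-/

set_option autoImplicit false

namespace Cfsg.Agent.H18.Mi

open Matrix MatrixGroups Subgroup

variable {S : Type*} [Group S] [Finite S]

theorem exists_comm_conj [IsSimpleGroup S] (hna : ¬ IsMulCommutative S) {t : S}
    (ht : orderOf t = 2) : ∃ g, Commute t (g * t * g⁻¹) ∧ g * t * g⁻¹ ≠ t := by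
  by_contra! H
  have h1 : t ≠ 1 := by rintro rfl; simp at ht
  have h2 : pPrimeCore 2 S = ⊥ := (IsSimpleGroup.eq_bot_or_eq_top_of_normal _ inferInstance).resolve_right fun e => by
    have := H1.coprime_card_pPrimeCore 2 S
    rw [e, card_top] at this
    exact absurd (Nat.Coprime.eq_one_of_dvd this.symm (ht ▸ orderOf_dvd_natCard t)) (by norm_num)
  have h3 := H6.mem_center_of_isolated h2 ht H
  rcases IsSimpleGroup.eq_bot_or_eq_top_of_normal (center S) inferInstance with e | e
  · exact h1 (mem_bot.mp (e ▸ h3))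
  · exact hna ⟨⟨fun a b => (mem_center_iff.mp (e.ge (mem_top b)) a)⟩⟩

omit [Finite S] in
theorem comm_of_sq {t x y : S} (h : ∀ x, Commute x t → x * x = 1) (hx : Commute x t)
    (hy : Commute y t) : Commute x y := by
  have := h _ (hx.mul_left hy)
  rw [Commute, SemiconjBy, ← inv_eq_of_mul_eq_one_right this, _root_.mul_inv_rev,
    inv_eq_of_mul_eq_one_right (h x hx), inv_eq_of_mul_eq_one_right (h y hy)]

section SL2

variable {K : Type} [Field K] [Fintype K] [CharP K 2] {A : Type} [CommGroup A] [Finite A]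

theorem card_sq_le (hA : Odd (Nat.card A)) (e : S ≃* SL(2, K) × A) :
    Nat.card {x : S // x * x = 1} ≤ Nat.card K * Nat.card K := by
  rw [← Nat.card_prod]
  have h2 : (2 : K) = 0 := CharP.cast_eq_zero K 2
  have key : ∀ x : {x : S // x * x = 1}, (e x).2 = 1 ∧ (e x).1.1 1 1 = (e x).1.1 0 0 ∧
      (e x).1.1 0 0 ^ 2 = 1 + (e x).1.1 0 1 * (e x).1.1 1 0 := fun x => by
    have h1 : e x * e x = 1 := by rw [← map_mul, x.2, map_one]
    have h3 : (e x).1⁻¹ = (e x).1 := inv_eq_of_mul_eq_one_right (congrArg Prod.fst h1)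
    have h4 : (e x).1.1 1 1 = (e x).1.1 0 0 := by
      have := congrFun (congrFun (congrArg Subtype.val h3) 0) 0
      rwa [show ((e x).1⁻¹).1 = (e x).1.1.adjugate from rfl, adjugate_fin_two] at this
    refine ⟨?_, h4, ?_⟩
    · refine (pow_eq_one_iff_of_coprime (Nat.coprime_two_left.mpr hA)).mp ⟨?_, pow_card_eq_one'⟩
      rw [pow_two]; exact congrArg Prod.snd h1
    · have := (e x).1.2
      rw [det_fin_two, h4] at this
      linear_combination this
  refine Nat.card_le_card_of_injective (fun x => ((e x).1.1 0 1, (e x).1.1 1 0)) fun x y h => ?_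
  obtain ⟨a1, a2, a3⟩ := key x
  obtain ⟨b1, b2, b3⟩ := key y
  obtain ⟨c1, c2⟩ := Prod.mk.inj h
  have c3 : (e x).1.1 0 0 = (e y).1.1 0 0 := by
    have : ((e x).1.1 0 0 - (e y).1.1 0 0) ^ 2 = 0 := by
      rw [c1, c2] at a3
      linear_combination a3 - b3 + ((e y).1.1 0 0 ^ 2 - (e x).1.1 0 0 * (e y).1.1 0 0) * h2
    exact sub_eq_zero.mp (pow_eq_zero_iff two_ne_zero |>.mp this)
  refine Subtype.ext (e.injective (Prod.ext (Subtype.ext ?_) (a1.trans b1.symm)))
  ext i j; fin_cases i <;> fin_cases j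
  exacts [c3, c1, c2, a2.trans (c3.trans b2.symm)]

theorem le_card_cent (hA : Odd (Nat.card A)) (e : S ≃* SL(2, K) × A) {t : S} (ht : orderOf t = 2) :
    Nat.card K ≤ Nat.card (centralizer ({t} : Set S)) := by
  have h2 : (2 : K) = 0 := CharP.cast_eq_zero K 2
  have h1 : e t * e t = 1 := by
    rw [← map_mul, ← pow_two, show t ^ 2 = 1 from ht ▸ pow_orderOf_eq_one t, map_one]
  have h3 : (e t).1⁻¹ = (e t).1 := inv_eq_of_mul_eq_one_right (congrArg Prod.fst h1)
  have h4 : (e t).1.1 1 1 = (e t).1.1 0 0 := by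
    have := congrFun (congrFun (congrArg Subtype.val h3) 0) 0
    rwa [show ((e t).1⁻¹).1 = (e t).1.1.adjugate from rfl, adjugate_fin_two] at this
  have h5 : (e t).2 = 1 := by
    refine (pow_eq_one_iff_of_coprime (Nat.coprime_two_left.mpr hA)).mp ⟨?_, pow_card_eq_one'⟩
    rw [pow_two]; exact congrArg Prod.snd h1
  have h6 := (e t).1.2
  rw [det_fin_two, h4] at h6
  have h7 : (e t).1.1 - 1 ≠ 0 := fun h => by
    have : e t = 1 := Prod.ext (Subtype.ext (sub_eq_zero.mp h)) h5
    rw [e.map_eq_one_iff.mp this] at ht; simp at ht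
  let f : K → SL(2, K) := fun x => ⟨1 + x • ((e t).1.1 - 1), by
    rw [det_fin_two]; simp [h4]
    linear_combination x ^ 2 * h6 + (x * (e t).1.1 0 0 - x + x ^ 2 - x ^ 2 * (e t).1.1 0 0) * h2⟩
  refine Nat.card_le_card_of_injective (fun x => ⟨e.symm (f x, 1), mem_centralizer_singleton_iff.mpr
    (e.injective ?_)⟩) fun x y h => ?_
  · rw [map_mul, map_mul, e.apply_symm_apply]
    refine Prod.ext (Subtype.ext ?_) (mul_comm _ _)
    change (1 + x • ((e t).1.1 - 1)) * (e t).1.1 = (e t).1.1 * (1 + x • ((e t).1.1 - 1))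
    simp [add_mul, mul_add, sub_mul, mul_sub]
  · have := congrArg Subtype.val (congrArg Prod.fst (e.symm.injective (congrArg Subtype.val h)))
    exact smul_left_injective K h7 (add_left_cancel this)

end SL2

theorem cit_gen [IsSimpleGroup S] (hna : ¬ IsMulCommutative S)
    (h : ∀ z : S, orderOf z = 2 → ∀ x, Commute x z → x * x = 1) {t t' : S} (ht : orderOf t = 2)
    (ht' : orderOf t' = 2) (hc : ¬ Commute t t') {X : Subgroup S} (h1 : ∀ x, Commute x t → x ∈ X)
    (h2 : ∀ x, Commute x t' → x ∈ X) : X = ⊤ := by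
  classical
  have t1 : t ≠ 1 := by rintro rfl; simp at ht
  have hP : IsPGroup 2 (centralizer ({t} : Set S)) := fun x =>
    ⟨1, Subtype.ext (by simpa [pow_two] using h t ht x (mem_centralizer_singleton_iff.mp x.2))⟩
  obtain ⟨P, hP'⟩ := hP.exists_le_sylow
  have tC : t ∈ centralizer ({t} : Set S) := mem_centralizer_singleton_iff.mpr rfl
  rcases S2202.result (G := S) (even_iff_two_dvd.mpr (ht ▸ orderOf_dvd_natCard t))
    (fun z hz => ⟨⟨fun x y => Subtype.ext (comm_of_sq (h z hz)
      (mem_centralizer_singleton_iff.mp x.2) (mem_centralizer_singleton_iff.mp y.2)).eq⟩⟩) with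
    H | H | ⟨K, _, _, A, _, _, _, hA, ⟨e⟩⟩
  · exfalso
    obtain ⟨g, a1, a2⟩ := exists_comm_conj hna ht
    have := H P
    obtain ⟨⟨c, hc⟩, a3⟩ := (isCyclic_of_le hP').exists_generator
    have a4 : ∀ x ∈ centralizer ({t} : Set S), x = 1 ∨ x = c := fun x hx => by
      obtain ⟨k, hk⟩ := a3 ⟨x, hx⟩
      have a5 : c ^ (2 : ℤ) = 1 := by
        rw [_root_.zpow_two]; exact h t ht c (mem_centralizer_singleton_iff.mp hc)
      obtain rfl : c ^ k = x := congrArg Subtype.val hk
      rcases Int.even_or_odd' k with ⟨m, rfl | rfl⟩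
      · left; rw [_root_.zpow_mul, a5, _root_.one_zpow]
      · right; rw [_root_.zpow_add, _root_.zpow_mul, a5, _root_.one_zpow, one_mul, zpow_one]
    exact a2 (((a4 _ (mem_centralizer_singleton_iff.mpr a1.symm.eq)).resolve_left (by simpa)).trans
      ((a4 t tC).resolve_left t1).symm)
  · exfalso
    have a1 := (IsSimpleGroup.eq_bot_or_eq_top_of_normal _ (H P)).resolve_left fun e =>
      t1 (mem_bot.mp (e ▸ hP' tC))
    have a2 : IsPGroup 2 S := (a1 ▸ P.2 : IsPGroup 2 (⊤ : Subgroup S)).of_equiv topEquiv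
    rcases IsSimpleGroup.eq_bot_or_eq_top_of_normal (center S) inferInstance with e | e
    · exact (nontrivial_iff_ne_bot _).mp a2.center_nontrivial e
    · exact hna ⟨⟨fun a b => (mem_center_iff.mp (e.ge (mem_top b)) a)⟩⟩
  have o2 : ∀ {x : S}, x * x = 1 → x ≠ 1 → orderOf x = 2 := fun a b =>
    orderOf_eq_prime (by rwa [pow_two]) b
  have b1 : ∀ y, Commute y t → Commute y t' → y = 1 := fun y a b => by_contra fun c =>
    hc (comm_of_sq (h y (o2 (h t ht y a) c)) a.symm b.symm)
  have b2 : ∀ y w, Commute w t' → w ≠ 1 → Commute y w → Commute y t' := fun y w a b c =>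
    comm_of_sq (h w (o2 (h t' ht' w a) b)) c a.symm
  let f : centralizer ({t} : Set S) × centralizer ({t'} : Set S) → {x : S // x * x = 1} :=
    fun p => if p.2.1 = 1 then ⟨p.1, h t ht _ (mem_centralizer_singleton_iff.mp p.1.2)⟩ else
      ⟨p.1 * p.2 * p.1⁻¹, by
        simpa using h t' ht' _ (mem_centralizer_singleton_iff.mp p.2.2)⟩
  have b3 : ∀ u w u' : S, Commute u t → Commute w t' → Commute u' t → u * w * u⁻¹ = u' → w = 1 :=
    fun u w u' a b c d => b1 w (by
      rw [show w = u⁻¹ * u' * u by rw [← d]; group]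
      exact (a.inv_left.mul_left c).mul_left a) b
  have b4 : Function.Injective f := by
    rintro ⟨⟨u, hu⟩, ⟨w, hw⟩⟩ ⟨⟨u', hu'⟩, ⟨w', hw'⟩⟩ e
    replace hu : Commute u t := mem_centralizer_singleton_iff.mp hu
    replace hu' : Commute u' t := mem_centralizer_singleton_iff.mp hu'
    replace hw : Commute w t' := mem_centralizer_singleton_iff.mp hw
    replace hw' : Commute w' t' := mem_centralizer_singleton_iff.mp hw'
    simp only [f] at e
    split_ifs at e with c1 c2 c2
    · simp_all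
    · exact absurd (b3 _ _ _ hu' hw' hu (congrArg Subtype.val e).symm) c2
    · exact absurd (b3 _ _ _ hu hw hu' (congrArg Subtype.val e)) c1
    replace e : u * w * u⁻¹ = u' * w' * u'⁻¹ := congrArg Subtype.val e
    have d1 := hu'.inv_left.mul_left hu
    have d2 : u'⁻¹ * u * w * (u'⁻¹ * u)⁻¹ = w' := by
      rw [_root_.mul_inv_rev, inv_inv, ← mul_assoc, mul_assoc _ u, mul_assoc _ _ u⁻¹, e]; group
    have d3 : u'⁻¹ * u = 1 := by
      generalize u'⁻¹ * u = y at d1 d2
      have d4 := inv_eq_of_mul_eq_one_right (h t ht y d1)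
      have d5 : y * w' * y⁻¹ = w := by
        rw [← d2, d4]; simp only [← mul_assoc, h t ht y d1, one_mul]
        rw [mul_assoc, h t ht y d1, mul_one]
      by_cases d6 : w * w' = 1
      · refine b1 y d1 (b2 y w hw c1 ?_)
        rw [Commute, SemiconjBy, ← mul_inv_eq_iff_eq_mul, d2, eq_inv_of_mul_eq_one_right d6,
          inv_eq_of_mul_eq_one_right (h t' ht' w hw)]
      · refine b1 y d1 (b2 y _ (hw.mul_left hw') d6 ?_)
        rw [Commute, SemiconjBy, ← mul_inv_eq_iff_eq_mul, ← conj_mul, d2, d5]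
        exact (comm_of_sq (h t' ht') hw' hw).eq
    obtain rfl : u' = u := inv_mul_eq_one.mp d3
    simpa using e
  have b5 := b4.bijective_of_nat_card_le ((card_sq_le hA e).trans (by
    rw [Nat.card_prod]; exact Nat.mul_le_mul (le_card_cent hA e ht) (le_card_cent hA e ht')))
  have b6 : normalClosure {t} ≤ X := (closure_le _).mpr fun x hx => by
    obtain ⟨g, rfl⟩ := isConj_iff.mp (by simpa [Group.mem_conjugatesOfSet_iff] using hx : IsConj t x)
    obtain ⟨⟨⟨u, hu⟩, ⟨w, hw⟩⟩, hp⟩ := b5.2 ⟨g * t * g⁻¹, by simpa using h t ht t (Commute.refl t)⟩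
    have c1 := h1 u (mem_centralizer_singleton_iff.mp hu)
    have c2 := h2 w (mem_centralizer_singleton_iff.mp hw)
    simp only [f] at hp
    split_ifs at hp
    · exact (show u = g * t * g⁻¹ from congrArg Subtype.val hp) ▸ c1
    · exact (show u * w * u⁻¹ = g * t * g⁻¹ from congrArg Subtype.val hp) ▸
        mul_mem (mul_mem c1 c2) (inv_mem c1)
  exact top_le_iff.mp (((IsSimpleGroup.eq_bot_or_eq_top_of_normal (normalClosure {t})
    inferInstance).resolve_left fun e =>
    t1 (mem_bot.mp (e ▸ subset_normalClosure (Set.mem_singleton t)))).ge.trans b6)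

theorem d8_recog [IsSimpleGroup S] (hna : ¬ IsMulCommutative S) {t : S} (ht : orderOf t = 2)
    (e : centralizer ({t} : Set S) ≃* DihedralGroup 4) :
    Nonempty (S ≃* ProjectiveSpecialLinearGroup (Fin 3) (ZMod 2)) ∨
      Nonempty (S ≃* alternatingGroup (Fin 6)) := by
  have hP : IsPGroup 2 (centralizer ({t} : Set S)) := IsPGroup.of_card (n := 3) (by
    rw [Nat.card_congr e.toEquiv, DihedralGroup.nat_card]; rfl)
  obtain ⟨P, hP'⟩ := hP.exists_le_sylow
  have tC : t ∈ centralizer ({t} : Set S) := mem_centralizer_singleton_iff.mpr rfl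
  have t1 : t ≠ 1 := by rintro rfl; simp at ht
  have : Nontrivial P := ⟨⟨⟨t, hP' tC⟩, 1, fun e => t1 (congrArg Subtype.val e)⟩⟩
  obtain ⟨⟨z, z1⟩, z2⟩ := (ne_bot_iff_exists_ne_one.mp
    ((nontrivial_iff_ne_bot _).mp P.2.center_nontrivial))
  have z3 : ∀ s ∈ (P : Subgroup S), s * z = z * s := fun s hs =>
    congrArg Subtype.val (mem_center_iff.mp z1 ⟨s, hs⟩)
  have z4 : z.1 ∈ centralizer ({t} : Set S) := mem_centralizer_singleton_iff.mpr (z3 t (hP' tC)).symm
  have key : ∀ x y : DihedralGroup 4, x ≠ 1 → y ≠ 1 → (∀ g, g * x = x * g) → (∀ g, g * y = y * g) →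
    x = y := by decide
  have z5 : z.1 = t := congrArg Subtype.val (e.injective (key (e ⟨_, z4⟩) (e ⟨_, tC⟩)
    (fun h => z2 (Subtype.ext (Subtype.ext
      (show z.1 = 1 from congrArg Subtype.val (e.map_eq_one_iff.mp h)))))
    (fun h => t1 (congrArg Subtype.val (e.map_eq_one_iff.mp h)))
    (fun g => by
      obtain ⟨g, rfl⟩ := e.surjective g
      rw [← map_mul, ← map_mul]; exact congrArg e (Subtype.ext (z3 _ (hP' g.2))))
    (fun g => by
      obtain ⟨g, rfl⟩ := e.surjective g
      rw [← map_mul, ← map_mul]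
      exact congrArg e (Subtype.ext (mem_centralizer_singleton_iff.mp g.2)))))
  let s : alternatingGroup (Fin 6) :=
    ⟨Equiv.swap 0 1 * Equiv.swap 4 5, Equiv.Perm.mem_alternatingGroup.2 (by decide)⟩
  have s1 : orderOf s = 2 := orderOf_eq_prime (by decide) (by decide)
  obtain ⟨f⟩ := S3261.cent_A6 s s1 (by decide)
  rcases S3261.result (G := S) (fun H hH => by
    rcases IsSimpleGroup.eq_bot_or_eq_top_of_normal H (normal_of_index_eq_two hH) with rfl | rfl
    · rw [index_bot] at hH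
      have := isCyclic_of_prime_card (p := 2) hH
      exact hna inferInstance
    · simp at hH) s s1 (by decide) t ht P (hP' tC) (z5 ▸ z3) (e.trans f.symm) with
    H | ⟨K, _, _, hK, ⟨φ⟩⟩
  · exact Or.inr H
  · haveI := H12.PSL_fin_simple (F := ZMod 2) 3 (by norm_num) (by norm_num)
    have := H12.card_PSL_fin (F := ZMod 2) (q := 2) (ZMod.card 2) 3 (by norm_num)
    obtain ⟨ψ⟩ := S0495.result (G := ProjectiveSpecialLinearGroup (Fin 3) (ZMod 2))
      (by simpa [Fin.prod_univ_three] using this) hK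
    exact Or.inl ⟨φ.trans ψ.symm⟩

end Cfsg.Agent.H18.Mi
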