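import Cfsg.Agent.H18.MiF

/-!
Transvections in dimension three, characteristic two, root groups of order two.
-/

set_option autoImplicit false

namespace Cfsg.Agent.H18.Mi

open Cfsg.Agent.H12 Module Subgroup

variable {F V : Type*} [Field F] [AddCommGroup V] [Module F V] {M : Subgroup (V ≃ₗ[F] V)}
  {a a' b : V} {α α' β : Dual F V} {S : Type*} [Group S] {π : M →* S}

/-- `π` is the quotient map modulo scalars. -/
structure Pj (π : M →* S) : Prop where
  surj : Function.Surjective π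
  ker : ∀ g : M, π g = 1 ↔ ∃ c : F, ∀ x, g.1 x = c • x

/-- `t` is the transvection with data `a`, `α`. -/
def IsT (t : M) (a : V) (α : Dual F V) : Prop := ∀ x, t.1 x = x + α x • a

theorem exists_isT (h : TR M a α) : ∃ t : M, IsT t a α := ⟨⟨_, h.2.choose_spec.1⟩, h.2.choose_spec.2⟩

theorem Pj.eq_iff (hπ : Pj π) {g n : M} : π g = π n ↔ ∃ c : F, ∀ x, g.1 x = c • n.1 x := by
  rw [← mul_inv_eq_one, ← map_inv, ← map_mul, hπ.ker]
  refine exists_congr fun c => ⟨fun h x => by simpa using h (n.1 x), fun h x => ?_⟩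
  simpa using h (n.1.symm x)

theorem IsT.sq (hS : Sm M) {t : M} (h0 : α a = 0) (ht : IsT t a α) : t * t = 1 :=
  Subtype.ext (LinearEquiv.ext fun x => by
    change t.1 (t.1 x) = x
    rw [ht, ht, map_add, map_smul, h0]
    linear_combination (norm := module) hS.two • α x • a)

theorem Pj.ne_one (hπ : Pj π) {t : M} (h : XT M a α) (ht : IsT t a α) : π t ≠ 1 := fun e => by
  obtain ⟨c, hc⟩ := (hπ.ker t).mp e
  have h1 : c = 1 := by
    have := (ht a).symm.trans (hc a)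
    rw [h.1.1, zero_smul, add_zero] at this
    exact smul_left_injective F h.2.1 (this.symm.trans (one_smul _ _).symm)
  refine h.2.2 (LinearMap.ext fun x => ?_)
  simpa [h1, h.2.1] using (ht x).symm.trans (hc x)

theorem Pj.orderOf_eq (hπ : Pj π) (hS : Sm M) {t : M} (h : XT M a α) (ht : IsT t a α) :
    orderOf (π t) = 2 :=
  orderOf_eq_prime (by rw [pow_two, ← map_mul, ht.sq hS h.1.1, map_one]) (hπ.ne_one h ht)

theorem Pj.inv_lift (hπ : Pj π) (hS : Sm M) {z : S} (hz : orderOf z = 2) :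
    ∃ (t : M) (a : V) (α : Dual F V), π t = z ∧ XT M a α ∧ IsT t a α := by
  obtain ⟨g, rfl⟩ := hπ.surj z
  have h1 : π g ^ 2 = 1 := hz ▸ pow_orderOf_eq_one _
  obtain ⟨c, hc⟩ := (hπ.ker (g ^ 2)).mp (by rwa [map_pow])
  have h2 := hS.cube _ (g ^ 2).2 c hc
  have h3 : π (g ^ 3) = π g := by rw [map_pow, pow_succ, h1, one_mul]
  have h4 : ∀ x, (g ^ 3).1 ((g ^ 3).1 x) = x := fun x => by
    change (g ^ 3 * g ^ 3).1 x = x
    rw [show g ^ 3 * g ^ 3 = g ^ 2 * (g ^ 2 * g ^ 2) by group]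
    change (g ^ 2).1 ((g ^ 2).1 ((g ^ 2).1 x)) = x
    rw [hc, hc, hc, smul_smul, smul_smul, show c * c * c = c ^ 3 by ring, h2, one_smul]
  obtain ⟨a, α, a1, a2, a3, a4⟩ := rank_one hS.dim (N := (g ^ 3).1.toLinearMap - 1) (fun e => by
    have : g ^ 3 = 1 := Subtype.ext (LinearEquiv.ext fun x => by
      simpa [sub_eq_zero] using LinearMap.congr_fun e x)
    rw [← h3, this, map_one] at hz; simp at hz) (fun x => by
    simp only [LinearMap.sub_apply, LinearEquiv.coe_coe, Module.End.one_apply, map_sub, h4]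
    linear_combination (norm := module) hS.two • (x - (g ^ 3).1 x))
  have a5 : IsT (g ^ 3) a α := fun x => by rw [← a4]; simp
  exact ⟨_, a, α, h3, ⟨⟨a3, _, (g ^ 3).2, a5⟩, a1, a2⟩, a5⟩

theorem Pj.comm_lift (hπ : Pj π) (hS : Sm M) {t g : M} (h : XT M a α) (ht : IsT t a α)
    (hc : Commute (π g) (π t)) : ∃ l : F, g.1 a = l • a ∧ ∀ x, α (g.1 x) = l * α x := by
  obtain ⟨c, h1⟩ := hπ.eq_iff.mp (show π (g * t * g⁻¹) = π t by
    rw [map_mul, map_mul, hc.eq, map_inv, mul_inv_cancel_right])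
  have h2 : c = 1 := by
    have h3 : (g * t * g⁻¹).1 ((g * t * g⁻¹).1 a) = a := by
      change (g * t * g⁻¹ * (g * t * g⁻¹)).1 a = a
      rw [conj_mul, ht.sq hS h.1.1]; simp
    rw [h1, h1, map_smul, ht a, h.1.1, zero_smul, add_zero, ht a, h.1.1, zero_smul, add_zero,
      smul_smul] at h3
    have h4 : c * c = 1 := smul_left_injective F h.2.1 (h3.trans (one_smul _ _).symm)
    have : (c - 1) ^ 2 = 0 := by linear_combination h4 + (1 - c) * hS.two
    exact sub_eq_zero.mp (pow_eq_zero_iff two_ne_zero |>.mp this)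
  have h3 : ∀ x, α x • g.1 a = α (g.1 x) • a := fun x => by
    have := h1 (g.1 x)
    rw [h2, one_smul, ht] at this
    simpa [ht x] using this
  obtain ⟨b, hb⟩ : ∃ b, α b ≠ 0 := by
    by_contra! H; exact h.2.2 (LinearMap.ext H)
  have h4 : g.1 a = (α (g.1 b) / α b) • a := by
    rw [div_eq_inv_mul, ← smul_smul, ← h3, inv_smul_smul₀ hb]
  refine ⟨_, h4, fun x => smul_left_injective F h.2.1 ?_⟩
  simp only [← h3 x, h4, smul_smul, mul_comm]

theorem Pj.comm_zero (hπ : Pj π) (hS : Sm M) {t t' : M} (h : XT M a α) (ht : IsT t a α)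
    (h' : XT M b β) (ht' : IsT t' b β) (hc : Commute (π t') (π t)) : α b = 0 ∧ β a = 0 := by
  obtain ⟨l, h1, h2⟩ := hπ.comm_lift hS h ht hc
  rw [ht'] at h1
  have h3 := h2 b
  rw [ht', h'.1.1, zero_smul, add_zero] at h3
  have h4 := congrArg β h1
  rw [map_add, map_smul, h'.1.1, map_smul] at h4
  obtain rfl : l = 1 := by_contra fun hl => by
    have : β a = 0 := mul_left_cancel₀ (sub_ne_zero.mpr hl) (by simpa [sub_mul, sub_eq_zero] using h4.symm)
    rw [this, zero_smul, add_zero] at h1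
    exact hl (smul_left_injective F h.2.1 (h1.symm.trans (one_smul _ _).symm))
  refine ⟨by_contra fun e => h'.2.2 (LinearMap.ext fun x => ?_), by simpa [h'.2.1] using h1⟩
  simpa [ht' x, e] using h2 x

variable [Finite S] [IsSimpleGroup S]

theorem Pj.partner (hπ : Pj π) (hS : Sm M) (hna : ¬ IsMulCommutative S) (h : XT M a α) :
    (∃ a', TR M a' α ∧ a' ∉ F ∙ a) ∨ ∃ α', TR M a α' ∧ α' ∉ F ∙ α := by
  obtain ⟨t, ht⟩ := exists_isT h.1
  obtain ⟨g, h1, h2⟩ := exists_comm_conj hna (hπ.orderOf_eq hS h ht)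
  obtain ⟨g, rfl⟩ := hπ.surj g
  have h3 := (h.cls.conj ⟨h, trivial⟩ g.1 g.2).1
  have h4 : IsT (g * t * g⁻¹) (g.1 a) (α ∘ₗ g.1.symm.toLinearMap) := fun x => by simp [ht _]
  rw [← map_inv, ← map_mul, ← map_mul] at h1 h2
  obtain ⟨e1, e2⟩ := hπ.comm_zero hS h ht h3 h4 h1.symm
  generalize g.1 a = b at *
  generalize α ∘ₗ g.1.symm.toLinearMap = β at *
  by_cases e : b ∈ F ∙ a
  · obtain ⟨k, rfl⟩ := Submodule.mem_span_singleton.mp e
    refine Or.inr ⟨_, h3.1.smul_of_left, fun e' => h2 (congrArg π ?_)⟩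
    obtain ⟨m, hm⟩ := Submodule.mem_span_singleton.mp e'
    rcases hS.root a α h.1 h.2.1 h.2.2 m (hm ▸ h3.1.smul_of_left) with rfl | rfl
    · rw [zero_smul, eq_comm, smul_eq_zero] at hm
      exact (hm.elim (fun e => h3.2.1 (by simp [e])) h3.2.2).elim
    · refine Subtype.ext (LinearEquiv.ext fun x => ?_)
      rw [h4, ht, ← one_smul F α, hm, smul_smul, mul_comm]; rfl
  · obtain ⟨k, rfl⟩ := Submodule.mem_span_singleton.mp
      (dual_dep hS.dim h.2.1 e h.2.2 h.1.1 e1 e2 h3.1.1)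
    refine Or.inl ⟨_, h3.1.smul_of_right, fun e' => e ?_⟩
    rwa [Submodule.smul_mem_iff _ (by rintro rfl; exact h3.2.2 (zero_smul _ _))] at e'

theorem Pj.both (hπ : Pj π) (hS : Sm M) (hna : ¬ IsMulCommutative S) (h : XT M a α)
    (hl : TR M a' α) (hl' : a' ∉ F ∙ a) (hr : TR M a α') (hr' : α' ∉ F ∙ α) :
    Nonempty (S ≃* Matrix.ProjectiveSpecialLinearGroup (Fin 3) (ZMod 2)) ∨
      Nonempty (S ≃* alternatingGroup (Fin 6)) := by
  have e := hS.two
  have f : Fr a a' α α' := ⟨h.1.1, hl.1, hr.1, (hS.root a α h.1 h.2.1 h.2.2 _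
    (hr.comm hl h.1.1).smul_of_left).resolve_left fun e =>
      hr' (dual_dep hS.dim h.2.1 hl' h.2.2 h.1.1 hl.1 hr.1 e)⟩
  obtain ⟨s, s1, s2⟩ := un_of_left (a := a) (α' := α') hl
  obtain ⟨r, r1, r2⟩ := un_of_right (a' := a') (α := α) hr
  obtain ⟨t, ht⟩ := exists_isT h.1
  have t2 : UN a a' α α' t.1 0 0 1 := fun x => by simp [ht x]
  lift s to M using s1
  lift r to M using r1
  have p1 : UN a a' α α' (r * s).1 1 1 1 := (r2.mul f s2).congr (by ring) (by ring) (by ring)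
  have p2 : r * s * (r * s) = t := Subtype.ext (((p1.mul f p1).congr (by linear_combination e)
    (by linear_combination e) (by linear_combination e)).ext t2)
  have p3 : s * s = 1 := Subtype.ext (((s2.mul f s2).congr (by ring)
    (by linear_combination e) (by ring)).ext UN.one)
  have p4 : r * r = 1 := Subtype.ext (((r2.mul f r2).congr (by linear_combination e)
    (by ring) (by ring)).ext UN.one)
  have p5 : s * t = t * s := Subtype.ext (((s2.mul f t2).congr (by ring)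
    (by ring) (by ring)).ext (t2.mul f s2))
  have q1 : π (r * s) ^ 2 = π t := by rw [pow_two, ← map_mul, p2]
  have q2 : orderOf (π (r * s)) = 4 := orderOf_eq_prime_pow (p := 2) (n := 1)
    (by rw [pow_one, q1]; exact hπ.ne_one h ht)
    (by rw [show 2 ^ (1 + 1) = 2 * 2 from rfl, pow_mul, q1, pow_two, ← map_mul, ht.sq hS h.1.1, map_one])
  have q3 : π s * π (r * s) * (π s)⁻¹ = (π (r * s))⁻¹ := by
    rw [← map_inv, ← map_inv, ← map_mul, ← map_mul, mul_inv_rev, inv_eq_of_mul_eq_one_right p4,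
      ← mul_assoc, mul_inv_cancel_right, inv_eq_of_mul_eq_one_right p3]
  obtain ⟨φ⟩ := H11.nonempty_closure_equiv_dihedral (by norm_num) q2 q3
    (by rw [← map_mul, p3, map_one]) (fun H => by
      obtain ⟨k, hk⟩ := H
      have : Commute (π s) (π (r * s)) := hk ▸ (Commute.refl _).zpow_left k
      rw [this.eq, mul_inv_cancel_right] at q3
      exact hπ.ne_one h ht (by rw [← q1, pow_two]; nth_rw 1 [q3]; exact inv_mul_cancel _))
  refine d8_recog hna (hπ.orderOf_eq hS h ht) ((MulEquiv.subgroupCongr (le_antisymm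
    (fun x hx => ?_) ((closure_le _).mpr ?_))).trans φ)
  · obtain ⟨g, rfl⟩ := hπ.surj x
    obtain ⟨l, a1, a2⟩ := hπ.comm_lift hS h ht (mem_centralizer_singleton_iff.mp hx)
    obtain ⟨u, v, w, n, n1, n2, n3, n4, n5, n6⟩ := hS.cent_both f h hl hr g.2 a1 a2
    set D := (closure {π (r * s), π s}).comap π
    have d1 : r * s ∈ D := subset_closure (by simp)
    have d2 : s ∈ D := subset_closure (by simp)
    have d3 : r ∈ D := by simpa using mul_mem d1 (inv_mem d2)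
    have d4 : t ∈ D := p2 ▸ mul_mem d1 d1
    obtain ⟨x, x1, x2⟩ : ∃ x ∈ D, UN a a' α α' x.1 u 0 0 := by
      rcases n4 with rfl | rfl
      exacts [⟨1, one_mem _, UN.one⟩, ⟨r, d3, r2⟩]
    obtain ⟨y, y1, y2⟩ : ∃ x ∈ D, UN a a' α α' x.1 0 v 0 := by
      rcases n5 with rfl | rfl
      exacts [⟨1, one_mem _, UN.one⟩, ⟨s, d2, s2⟩]
    obtain ⟨z, z1, z2⟩ : ∃ x ∈ D, UN a a' α α' x.1 0 0 (w - u * v) := by
      have : w - u * v = 0 ∨ w - u * v = 1 := by
        rcases n4 with rfl | rfl <;> rcases n5 with rfl | rfl <;> rcases n6 with rfl | rfl <;> simp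
        linear_combination -e
      rcases this with H | H <;> rw [H]
      exacts [⟨1, one_mem _, UN.one⟩, ⟨t, d4, t2⟩]
    have : n = (x * y * z).1 := n2.ext (((x2.mul f y2).mul f z2).congr (by ring) (by ring) (by ring))
    rw [(hπ.eq_iff (g := g) (n := x * y * z)).mpr ⟨l, fun x => by rw [n3, this]⟩]
    exact mul_mem (mul_mem x1 y1) z1
  · rintro _ (rfl | rfl) <;> refine mem_centralizer_singleton_iff.mpr ?_
    · rw [← q1]; exact ((Commute.refl _).pow_right 2).eq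
    · rw [← map_mul, p5, map_mul]

omit [Finite S] [IsSimpleGroup S] in
theorem Pj.not_top (hπ : Pj π) (hI : IrrV M) {W : Submodule F V} (h0 : W ≠ ⊥) (h1 : W ≠ ⊤) :
    ∃ X : Subgroup S, X ≠ ⊤ ∧ ∀ g : M, (∀ v, v ∈ W ↔ g.1 v ∈ W) → π g ∈ X := by
  let St : Subgroup M :=
    { carrier := {g | ∀ v, v ∈ W ↔ g.1 v ∈ W}
      one_mem' := fun _ => Iff.rfl
      mul_mem' := fun {g g'} hg hg' v => (hg' v).trans (hg _)
      inv_mem' := fun {g} hg v => by simpa using (hg (g.1.symm v)).symm }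
  refine ⟨St.map π, fun e => (hI W fun g hg v hv => ?_).elim h0 h1, fun g hg => ⟨g, hg, rfl⟩⟩
  obtain ⟨n, n1, n2⟩ := e.ge (mem_top (π ⟨g, hg⟩))
  obtain ⟨c, hc⟩ := hπ.eq_iff.mp n2.symm
  exact hc v ▸ W.smul_mem c ((n1 v).mp hv)

theorem Pj.small (hπ : Pj π) (hS : Sm M) (hna : ¬ IsMulCommutative S) (hI : IrrV M)
    (hex : ∃ a α, XT M a α) :
    Nonempty (S ≃* Matrix.ProjectiveSpecialLinearGroup (Fin 3) (ZMod 2)) ∨
      Nonempty (S ≃* alternatingGroup (Fin 6)) := by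
  by_cases H : ∃ a α, XT M a α ∧ (∃ a', TR M a' α ∧ a' ∉ F ∙ a) ∧ ∃ α', TR M a α' ∧ α' ∉ F ∙ α
  · obtain ⟨a, α, h, ⟨a', h1, h2⟩, α', h3, h4⟩ := H
    exact hπ.both hS hna h h1 h2 h3 h4
  exfalso
  push Not at H
  have cl : ∀ {a α t g}, XT M a α → IsT t a α → (∃ a', TR M a' α ∧ a' ∉ F ∙ a) →
      Commute (π g) (π t) → ∃ n y, π g = π n ∧ α y = 0 ∧ IsT n y α := fun {a α t g} h ht h1 hc => by
    obtain ⟨l, a1, a2⟩ := hπ.comm_lift hS h ht hc
    obtain ⟨a', h2, h3⟩ := id h1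
    obtain ⟨y, b1, b2⟩ := hS.cent_left h h2 h3 (H a α h h1) g.2 a1 a2
    obtain ⟨n, hn⟩ := exists_isT b1
    exact ⟨n, y, hπ.eq_iff.mpr ⟨l, fun x => by rw [b2, hn]⟩, b1.1, hn⟩
  have cr : ∀ {a α t g}, XT M a α → IsT t a α → (∃ α', TR M a α' ∧ α' ∉ F ∙ α) →
      Commute (π g) (π t) → ∃ n φ, π g = π n ∧ φ a = 0 ∧ IsT n a φ := fun {a α t g} h ht h1 hc => by
    obtain ⟨l, a1, a2⟩ := hπ.comm_lift hS h ht hc
    obtain ⟨α', h2, h3⟩ := h1
    obtain ⟨y, b1, b2⟩ := hS.cent_right h h2 h3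
      (fun a' h4 => by_contra fun h5 => h3 (H a α h ⟨a', h4, h5⟩ α' h2)) g.2 a1 a2
    obtain ⟨n, hn⟩ := exists_isT b1
    exact ⟨n, y, hπ.eq_iff.mpr ⟨l, fun x => by rw [b2, hn]⟩, b1.1, hn⟩
  have sq : ∀ z : S, orderOf z = 2 → ∀ x, Commute x z → x * x = 1 := fun z hz x hx => by
    obtain ⟨t, a, α, rfl, h, ht⟩ := hπ.inv_lift hS hz
    obtain ⟨g, rfl⟩ := hπ.surj x
    rcases hπ.partner hS hna h with h1 | h1
    · obtain ⟨n, y, a1, a2, a3⟩ := cl h ht h1 hx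
      rw [a1, ← map_mul, a3.sq hS a2, map_one]
    · obtain ⟨n, y, a1, a2, a3⟩ := cr h ht h1 hx
      rw [a1, ← map_mul, a3.sq hS a2, map_one]
  obtain ⟨a, α, h⟩ := id hex
  obtain ⟨t, ht⟩ := exists_isT h.1
  have fin : ∀ {b β}, XT M b β → α b * β a ≠ 0 → ∀ W : Submodule F V, W ≠ ⊥ → W ≠ ⊤ →
      (∀ g, Commute (π g) (π t) → ∃ n : M, π g = π n ∧ ∀ v, v ∈ W ↔ n.1 v ∈ W) →
      (∀ t' g, IsT t' b β → Commute (π g) (π t') → ∃ n : M, π g = π n ∧ ∀ v, v ∈ W ↔ n.1 v ∈ W) →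
      False := fun {b β} h' h0 W w0 w1 c1 c2 => by
    obtain ⟨t', ht'⟩ := exists_isT h'.1
    obtain ⟨X, x1, x2⟩ := hπ.not_top hI w0 w1
    refine x1 (cit_gen hna sq (hπ.orderOf_eq hS h ht) (hπ.orderOf_eq hS h' ht')
      (fun e => h0 (by simp [(hπ.comm_zero hS h ht h' ht' e.symm).1])) (fun x hx => ?_)
      fun x hx => ?_) <;> obtain ⟨g, rfl⟩ := hπ.surj x
    · obtain ⟨n, a1, a2⟩ := c1 g hx
      exact a1 ▸ x2 n a2
    · obtain ⟨n, a1, a2⟩ := c2 t' g ht' hx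
      exact a1 ▸ x2 n a2
  rcases hπ.partner hS hna h with h1 | h1
  · obtain ⟨b, β, ⟨h2, h3⟩, h0⟩ := (cls_tr hex (p := fun a α => ∃ a', TR M a' α ∧ a' ∉ F ∙ a)
      (fun b β ⟨a', e1, e2⟩ g hg => ⟨g a', e1.conj' hg, fun e => e2 (by
        obtain ⟨k, hk⟩ := Submodule.mem_span_singleton.mp e
        exact Submodule.mem_span_singleton.mpr ⟨k, g.injective (by rw [map_smul, hk])⟩)⟩)
      ⟨a, α, h, h1⟩).exists_opp hI hS.dim h.1.1 h.2.1 h.2.2
    obtain ⟨a', e1, e2⟩ := id h1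
    let c := β a • a' - β a' • a
    have c0 : c ≠ 0 := fun e => e2 (by
      rw [← Submodule.smul_mem_iff _ (right_ne_zero_of_mul h0), sub_eq_zero.mp e]
      exact Submodule.smul_mem _ _ (Submodule.mem_span_singleton_self a))
    have c1 : ∀ w ∈ F ∙ c, α w = 0 ∧ β w = 0 := fun w hw => by
      obtain ⟨k, rfl⟩ := Submodule.mem_span_singleton.mp hw
      simp [c, h.1.1, e1.1, mul_comm]
    refine fin h2 h0 (F ∙ c) (by simpa using c0)
      (fun e => left_ne_zero_of_mul h0 (c1 b (e.ge trivial)).1) (fun g hg => ?_) fun t' g ht' hg => ?_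
    · obtain ⟨n, y, a1, a2, a3⟩ := cl h ht h1 hg
      exact ⟨n, a1, stab_of_tr_ann a2 (fun w hw => (c1 w hw).1) a3⟩
    · obtain ⟨n, y, a1, a2, a3⟩ := cl h2 ht' h3 hg
      exact ⟨n, a1, stab_of_tr_ann a2 (fun w hw => (c1 w hw).2) a3⟩
  · obtain ⟨b, β, ⟨h2, h3⟩, h0⟩ := (cls_tr hex (p := fun a α => ∃ α', TR M a α' ∧ α' ∉ F ∙ α)
      (fun b β ⟨α', e1, e2⟩ g hg => ⟨_, e1.conj' hg, fun e => e2 (by
        obtain ⟨k, hk⟩ := Submodule.mem_span_singleton.mp e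
        exact Submodule.mem_span_singleton.mpr ⟨k, LinearMap.ext fun x => by
          simpa using LinearMap.congr_fun hk (g x)⟩)⟩)
      ⟨a, α, h, h1⟩).exists_opp hI hS.dim h.1.1 h.2.1 h.2.2
    obtain ⟨γ, e1, e2, e3⟩ := exists_ann hS.dim a b
    refine fin h2 h0 (LinearMap.ker γ) (fun e => h.2.1 (e.le e2))
      (fun e => e1 (LinearMap.ker_eq_top.mp e)) (fun g hg => ?_) fun t' g ht' hg => ?_
    · obtain ⟨n, y, a1, a2, a3⟩ := cr h ht h1 hg
      exact ⟨n, a1, stab_of_tr_mem e2 a3⟩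
    · obtain ⟨n, y, a1, a2, a3⟩ := cr h2 ht' h3 hg
      exact ⟨n, a1, stab_of_tr_mem e3 a3⟩

end Cfsg.Agent.H18.Mi
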