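import Cfsg.Agent.H18.Mi0
import Cfsg.Agent.H18.MiG

/-!
Subgroups of `SL₃(F)` containing a transvection.
-/

set_option autoImplicit false

namespace Cfsg.Agent.H18.Mi

open Cfsg.Agent.H12 Module Cfsg.Geo Matrix
open scoped commutatorElement

section
variable {F V : Type*} [Field F] [AddCommGroup V] [Module F V] {M : Subgroup (V ≃ₗ[F] V)}
  {S : Type*} [Group S] {π : M →* S}

theorem Pj.gen [IsSimpleGroup S] (hπ : Pj π) (hp : _root_.commutator M = ⊤)
    (hex : ∃ a α, XT M a α) : Gen M := by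
  intro T hT g hg
  let X : Set M := {t | ∃ (a : V) (α : Dual F V), α a = 0 ∧ IsT t a α}
  have hX : Group.conjugatesOfSet X ⊆ X := by
    intro y hy
    obtain ⟨t, ⟨a, α, h0, ht⟩, hc⟩ := Group.mem_conjugatesOfSet_iff.1 hy
    obtain ⟨k, rfl⟩ := isConj_iff.1 hc
    refine ⟨k.1 a, α ∘ₗ k.1.symm.toLinearMap, by simpa using h0, fun x => ?_⟩
    show k.1 (t.1 (k.1.symm x)) = _
    rw [ht]; simp
  have hN : ∀ n ∈ Subgroup.normalClosure X, n.1 ∈ T ∧ n.1⁻¹ ∈ T := by
    intro n hn
    induction hn using Subgroup.closure_induction with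
    | mem x hx =>
      obtain ⟨a, α, h0, ht⟩ := hX hx
      refine ⟨hT _ x.2 a α h0 ht, hT _ (inv_mem x.2) a (-α) (by simp [h0]) fun y => ?_⟩
      apply x.1.injective
      show x.1 (x.1.symm y) = _
      rw [LinearEquiv.apply_symm_apply, ht]; simp [h0]
    | one => exact ⟨one_mem _, by simp⟩
    | mul x y _ _ hx hy =>
      exact ⟨mul_mem hx.1 hy.1, by
        rw [Subgroup.coe_mul, _root_.mul_inv_rev]; exact mul_mem hy.2 hx.2⟩
    | inv x _ hx => exact ⟨hx.2, by simpa using hx.1⟩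
  set N := Subgroup.normalClosure X with hNd
  have htop : N.map π = ⊤ := by
    refine (IsSimpleGroup.eq_bot_or_eq_top_of_normal _
      (Subgroup.Normal.map inferInstance π hπ.surj)).resolve_left fun hb => ?_
    obtain ⟨a, α, h⟩ := hex
    obtain ⟨t, ht⟩ := exists_isT h.1
    exact hπ.ne_one h ht (Subgroup.mem_bot.1 (hb ▸ Subgroup.mem_map_of_mem π
      (Subgroup.subset_normalClosure (show t ∈ X from ⟨a, α, h.1.1, ht⟩))))
  have hle : _root_.commutator M ≤ N := by
    rw [commutator_def, Subgroup.commutator_le]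
    intro x _ y _
    obtain ⟨n, hn, h1⟩ := htop.ge (Subgroup.mem_top (π x))
    obtain ⟨c, hc⟩ := (hπ.ker (n⁻¹ * x)).1 (by rw [map_mul, map_inv, h1, inv_mul_cancel])
    have hz : (n⁻¹ * x) * y = y * (n⁻¹ * x) := Subtype.ext (LinearEquiv.ext fun v => by
      show (n⁻¹ * x).1 (y.1 v) = y.1 ((n⁻¹ * x).1 v)
      rw [hc, hc, map_smul])
    have e : ⁅x, y⁆ = n * (y * n⁻¹ * y⁻¹) := by
      have : x = n * (n⁻¹ * x) := by group
      rw [commutatorElement_def]
      calc x * y * x⁻¹ * y⁻¹ = n * ((n⁻¹ * x) * y) * (n⁻¹ * x)⁻¹ * n⁻¹ * y⁻¹ := by group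
        _ = _ := by rw [hz]; group
    rw [e]
    exact mul_mem hn (Subgroup.Normal.conj_mem inferInstance _ (inv_mem hn) y)
  exact (hN ⟨g, hg⟩ (hle (hp ▸ Subgroup.mem_top _))).1

end

variable {F : Type*} [Field F] {P : Subgroup (GL (Fin 3) F)}

/-- `P` as a group of linear automorphisms. -/
abbrev LM (P : Subgroup (GL (Fin 3) F)) : Subgroup ((Fin 3 → F) ≃ₗ[F] (Fin 3 → F)) :=
  P.map (glEq (Fin 3) F : GL (Fin 3) F →* _)

theorem mem_LM {g : GL (Fin 3) F} : glEq (Fin 3) F g ∈ LM P ↔ g ∈ P :=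
  Subgroup.mem_map_iff_mem (glEq (Fin 3) F).injective

/-- The identification of `P` with `LM P`. -/
noncomputable def lmE (P : Subgroup (GL (Fin 3) F)) : P ≃* LM P :=
  P.equivMapOfInjective _ (glEq (Fin 3) F).injective

theorem lmE_apply (g : P) (v : Fin 3 → F) : (lmE P g).1 v = g.1.1 *ᵥ v := rfl

/-- The quotient map. -/
noncomputable def lmP (P : Subgroup (GL (Fin 3) F)) : LM P →* PQ P :=
  (QuotientGroup.mk' _).comp (lmE P).symm.toMonoidHom

theorem pj_lmP : Pj (lmP P) where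
  surj := (QuotientGroup.mk'_surjective _).comp (lmE P).symm.surjective
  ker g := by
    obtain ⟨g, rfl⟩ := (lmE P).surjective g
    have : lmP P (lmE P g) = (g : PQ P) := by simp [lmP]
    rw [this, QuotientGroup.eq_one_iff, Subgroup.mem_subgroupOf, mem_scalars_iff]
    constructor
    · rintro ⟨c, hc⟩
      exact ⟨c, fun x => by rw [lmE_apply, hc, smul_mulVec, one_mulVec]⟩
    · rintro ⟨c, hc⟩
      have h1 : g.1.1 = c • (1 : Matrix (Fin 3) (Fin 3) F) :=
        mat_ext_mulVec fun v => by rw [smul_mulVec, one_mulVec]; exact hc v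
      have h0 : c ≠ 0 := by
        rintro rfl
        exact g.1.ne_zero (by rw [h1, zero_smul])
      exact ⟨Units.mk0 c h0, h1⟩

theorem Core.irrV (h : Core P) : IrrV (LM P) := fun W hW =>
  h.absIrred.1 W (by
    rintro _ ⟨g, hg, rfl⟩ _ ⟨v, hv, rfl⟩
    exact hW _ (mem_LM.2 hg) v hv)

theorem Core.comm (h : Core P) : _root_.commutator (LM P) = ⊤ := by
  have : ⁅LM P, LM P⁆ = LM P := by rw [← Subgroup.map_commutator, h.perfect]
  apply Subgroup.map_injective (LM P).subtype_injective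
  rw [commutator_def, Subgroup.map_commutator, ← MonoidHom.range_eq_map, Subgroup.range_subtype,
    this]

theorem Core.cube (h : Core P) : ∀ g ∈ LM P, ∀ c : F, (∀ x, g x = c • x) → c ^ 3 = 1 := by
  rintro _ ⟨g, hg, rfl⟩ c hc
  have h1 : g.1 = c • (1 : Matrix (Fin 3) (Fin 3) F) :=
    mat_ext_mulVec fun v => by rw [smul_mulVec, one_mulVec]; exact hc v
  have h2 : g.1.det = 1 := congrArg Units.val (h.le hg)
  rw [h1] at h2
  simpa using h2

theorem HasTv.xt (ht : HasTv P) : ∃ a α, XT (LM P) a α := by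
  obtain ⟨g, hg, h1, h2⟩ := ht
  obtain ⟨a, α, ha, hα, h0, hN⟩ := rank_one (N := Matrix.toLin' (g.1 - 1)) (by simp)
    (fun H => h1 (Units.ext (sub_eq_zero.1 (Matrix.toLin'.map_eq_zero_iff.1 H))))
    (fun x => by rw [toLin'_apply, toLin'_apply, mulVec_mulVec, h2, zero_mulVec])
  refine ⟨a, α, ⟨h0, _, mem_LM.2 hg, fun x => ?_⟩, ha, hα⟩
  rw [← hN, glEq_apply, toLin'_apply, sub_mulVec, one_mulVec]; abel

theorem realisable {e : Fin 3 → Fin 3 → F} {ε : Fin 3 → Dual F (Fin 3 → F)}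
    (h : ∀ i j, ε i (e j) = if i = j then 1 else 0) {L : Subfield F}
    (H : ∀ g ∈ LM P, ∀ i j, ε i (g (e j)) ∈ L) : RealisableOver L (matrixSet P) := by
  let B : Matrix (Fin 3) (Fin 3) F := fun i k => ε i (Pi.single k 1)
  let C : Matrix (Fin 3) (Fin 3) F := fun k j => e j k
  have key : ∀ (X : Matrix (Fin 3) (Fin 3) F) i j, (B * X * C) i j = ε i (X *ᵥ e j) := by
    intro X i j
    rw [Matrix.mul_assoc, LinearMap.pi_apply_eq_sum_univ, Matrix.mul_apply]
    refine Finset.sum_congr rfl fun k _ => ?_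
    rw [smul_eq_mul, mul_comm]
    congr 1
    exact congrArg (ε i) (funext fun l => by simp [Pi.single_apply, eq_comm])
  have hBC : B * C = 1 := by
    ext i j
    have := key 1 i j
    rw [Matrix.mul_one, one_mulVec, h] at this
    rw [this, Matrix.one_apply]
  refine ⟨⟨B, C, hBC, mul_eq_one_comm.1 hBC⟩, ?_⟩
  rintro _ ⟨g, hg, rfl⟩ i j
  show (B * g.1 * C) i j ∈ L
  rw [key]
  exact H _ (mem_LM.2 hg) i j

/-- Piece T of Mitchell's theorem. -/
theorem pieceT [Finite F] (h : Core P) (ht : HasTv P) : MConcl P := by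
  have := h.simple
  have h3 : finrank F (Fin 3 → F) = 3 := by simp
  have hG : Gen (LM P) := pj_lmP.gen h.comm ht.xt
  rcases exists_TK h.irrV h3 ht.xt with ⟨K, hK⟩ | ⟨h2, hr⟩
  · by_cases hA : AllOpp (LM P)
    · obtain ⟨e, α, ε, hU⟩ := hK.exists_UF hA
      by_cases hφ : ∀ x, frobOf K (frobOf K x) = x
      · obtain ⟨B, D, hM, hS⟩ := hU.unitary hK hG (frobOf_eq_iff K) hφ
        have hne : frobOf K ≠ RingHom.id F := fun H => hU.x (by rw [H]; rfl)
        have hf : HForm (frobOf K) (-1) fun u v : Fin 3 → F => B v u :=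
          { add_left := fun x y v => by simp
            smul_left := fun c x v => by simp
            add_right := fun v x y => by simp
            smul_right := fun c v x => by simp
            invol := hφ
            eps := by simp
            herm := fun u v => by rw [D.skew u v]; simp
            nondeg := fun v hv => D.sep v hv }
        obtain ⟨c, hc, hf1⟩ := hf.exists_one hne
        refine Or.inr (Or.inr (Or.inl ⟨_, _, hf1.unitary hne, ?_, fun g hg H => ?_⟩))
        · rintro _ ⟨g, hg, rfl⟩ u v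
          exact congrArg (c * ·) (hM (mem_LM.2 hg) v u)
        · have hu : glEq (Fin 3) F g ∈ UG B := fun x y => mul_left_cancel₀ hc (H y x)
          exact mem_LM.1 (hS ⟨_, hu⟩ (mem_SUG.2 (mem_SLV.1 (glEq_mem_SLV.2 hg))))
      · refine Or.inr (Or.inl ⟨_, fun H => hφ fun x => ?_,
          realisable hU.app (hU.all_mem h3 hG fun x hx => (frobOf_eq_iff K x).2 hx)⟩)
        exact H.ge (Subfield.mem_top x)
    · obtain ⟨e, ε, hT⟩ := hK.exists_tri hA
      by_cases hK' : K = ⊤
      · subst hK'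
        exact Or.inl fun g hg => mem_LM.1 (hK.SLV_le hT (glEq_mem_SLV.2 hg))
      · exact Or.inr (Or.inl ⟨K, hK', realisable hT.app (hK.all_mem hT hG)⟩)
  · rcases pj_lmP.small ⟨h2, h3, hr, h.cube⟩ h.nonab h.irrV ht.xt with H | H
    · exact Or.inr (Or.inr (Or.inr (Or.inr (Or.inl H))))
    · exact Or.inr (Or.inr (Or.inr (Or.inr (Or.inr (Or.inl H)))))

/-- In characteristic two an involution modulo scalars lifts to a transvection. -/
theorem hasTv_of_inv (h : Core P) (h2 : (2 : F) = 0) {z : PQ P} (hz : orderOf z = 2) :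
    HasTv P := by
  obtain ⟨g, rfl⟩ := QuotientGroup.mk_surjective z
  have h1 : ((g ^ 2 : P) : PQ P) = 1 := by
    rw [QuotientGroup.mk_pow, ← hz, pow_orderOf_eq_one]
  rw [QuotientGroup.eq_one_iff, Subgroup.mem_subgroupOf, mem_scalars_iff] at h1
  obtain ⟨c, hc⟩ := h1
  have hc3 : (c : F) ^ 3 = 1 := by
    have h3 : (g ^ 2).1.1.det = 1 := congrArg Units.val (h.le (g ^ 2).2)
    rw [hc] at h3
    simpa using h3
  refine ⟨(g ^ 3).1, (g ^ 3).2, fun H => ?_, ?_⟩
  · have h4 : (g : PQ P) ^ 3 = 1 := by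
      rw [← QuotientGroup.mk_pow, show g ^ 3 = 1 from Subtype.ext H, QuotientGroup.mk_one]
    have := orderOf_dvd_of_pow_eq_one h4
    rw [hz] at this
    omega
  · have h5 : (g ^ 3).1.1 * (g ^ 3).1.1 = 1 := by
      have : (g ^ 3).1.1 * (g ^ 3).1.1 = (g ^ 2).1.1 ^ 3 := by
        rw [← Units.val_mul, ← Units.val_pow_eq_pow_val, ← Subgroup.coe_mul, ← Subgroup.coe_pow,
          ← pow_add, ← pow_mul]
      rw [this, hc, smul_pow, hc3, one_pow, one_smul]
    have h6 : ∀ X : Matrix (Fin 3) (Fin 3) F, X + X = 0 := fun X => by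
      rw [← two_smul F, h2, zero_smul]
    rw [sub_mul, mul_sub, mul_sub, h5, Matrix.mul_one, Matrix.one_mul, Matrix.one_mul,
      show ∀ X : Matrix (Fin 3) (Fin 3) F, 1 - X - (X - 1) = (1 - X) + (1 - X) from
        fun X => by abel, h6]

theorem hasTv_of_even [Finite F] (h : Core P) (h2 : (2 : F) = 0) (he : Even (Nat.card (PQ P))) :
    HasTv P := by
  have : Fact (Nat.Prime 2) := ⟨Nat.prime_two⟩
  obtain ⟨z, hz⟩ := exists_prime_orderOf_dvd_card' (G := PQ P) 2 he.two_dvd
  exact hasTv_of_inv h h2 hz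

end Cfsg.Agent.H18.Mi
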