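import Mathlib

/-!
Small facts: Sylow subgroups in transitive groups, complements in subgroup lattices, normal
subgroups of direct powers.
-/

set_option autoImplicit false

namespace Cfsg.Agent.H18

open Subgroup MulAction

variable {G : Type*} [Group G]

theorem pow_dvd_index_stabilizer_sylow {Ω : Type*} [Finite G] [MulAction G Ω] [IsPretransitive G Ω]
    {p k : ℕ} [Fact p.Prime] (P : Sylow p G) (h : p ^ k ∣ Nat.card Ω) (ω : Ω) :
    p ^ k ∣ (stabilizer P ω).index := by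
  have h1 : (stabilizer P ω).index = (stabilizer G ω).relIndex P := rfl
  have h2 := relIndex_mul_index (inf_le_right : stabilizer G ω ⊓ P ≤ P)
  rw [inf_relIndex_right] at h2
  refine h1 ▸ ((Nat.Coprime.pow_left k ((Nat.Prime.coprime_iff_not_dvd Fact.out).mpr
    P.not_dvd_index)).dvd_of_dvd_mul_right ?_)
  rw [h2]
  exact (index_stabilizer_of_transitive G ω ▸ h).trans (index_dvd_of_le inf_le_left)

theorem exists_derangement_pow {Ω : Type*} [Finite G] [MulAction G Ω] [FaithfulSMul G Ω] [Finite Ω]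
    [IsPretransitive G Ω] {p k : ℕ} (hp : p.Prime) (hk : 1 ≤ k) (hΩ : Nat.card Ω = p ^ k) :
    ∃ g : G, orderOf g = p ∧ ∀ ω : Ω, g • ω ≠ ω := by
  have := Fact.mk hp
  obtain ⟨P⟩ : Nonempty (Sylow p G) := inferInstance
  have h1 := pow_dvd_index_stabilizer_sylow P hΩ.symm.dvd
  have h2 : ∀ ω : Ω, orbit P ω = Set.univ := fun ω => by
    refine Set.eq_of_subset_of_ncard_le (Set.subset_univ _) ?_
    rw [Set.ncard_univ, hΩ, ← index_stabilizer]
    exact Nat.le_of_dvd (Nat.pos_of_ne_zero index_ne_zero_of_finite) (h1 ω)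
  obtain ⟨ω₀⟩ : Nonempty Ω := (Nat.card_pos_iff.mp (hΩ ▸ pow_pos hp.pos k)).1
  have : Nontrivial P := Finite.one_lt_card_iff_nontrivial.mp
    ((Nat.one_lt_pow (by omega) hp.one_lt).trans_le (Nat.le_of_dvd Nat.card_pos
      ((h1 ω₀).trans (index_dvd_card _))))
  have := P.isPGroup'.center_nontrivial
  obtain ⟨n, h3, h4⟩ := (P.isPGroup'.to_subgroup (center P)).nontrivial_iff_card.mp this
  obtain ⟨z, hz⟩ := exists_prime_orderOf_dvd_card' (G := center P) p (h4 ▸ dvd_pow_self p h3.ne')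
  refine ⟨z, by rw [orderOf_coe, orderOf_coe, hz], fun ω h5 => ?_⟩
  have h6 : ((z : P) : G) = 1 := eq_of_smul_eq_smul (α := Ω) fun x => by
    obtain ⟨g, rfl⟩ := (h2 ω).ge (Set.mem_univ x)
    change ((z : P) : G) • (g : G) • ω = _ • (g : G) • ω
    rw [one_smul, smul_smul, ← coe_mul, ← mem_center_iff.mp z.2, coe_mul, mul_smul, h5]
  rw [← orderOf_coe, ← orderOf_coe, h6, orderOf_one] at hz
  exact hp.one_lt.ne hz

theorem exists_compl_of_interval [Finite G] {T X M : Subgroup G} (hTX : T ≤ X)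
    (hint : ∀ Y : Subgroup G, T ≤ Y → Y ≤ X → ∃ C : Subgroup G, T ≤ C ∧ C ≤ X ∧ Y ⊔ C = X ∧ Y ⊓ C = T)
    (huniq : ∀ M' : Subgroup G, IsCoatom M' → X ≤ M' → M' = M)
    {H : Subgroup G} (hH : ¬ H ≤ M) (hHT : H ⊓ T = ⊥) : ∃ C : Subgroup G, H ⊔ C = ⊤ ∧ H ⊓ C = ⊥ := by
  obtain ⟨C, -, h2, h3, h4⟩ := hint (H ⊓ X ⊔ T) le_sup_right (sup_le inf_le_right hTX)
  refine ⟨C, ?_, le_bot_iff.mp (hHT ▸ le_inf inf_le_left (h4 ▸ le_inf
    (le_sup_of_le_left (inf_le_inf_left H h2)) inf_le_right))⟩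
  refine (eq_top_or_exists_le_coatom (H ⊔ C)).resolve_right ?_
  rintro ⟨M', h5, h6⟩
  refine hH (huniq M' h5 (h3 ▸ sup_le (sup_le (inf_le_left.trans (le_sup_left.trans h6)) ?_)
    (le_sup_right.trans h6)) ▸ le_sup_left.trans h6)
  exact h4.ge.trans (inf_le_right.trans (le_sup_right.trans h6))

theorem exists_compl_of_map (e : G ≃* G) {H : Subgroup G}
    (h : ∃ C : Subgroup G, H.map e.toMonoidHom ⊔ C = ⊤ ∧ H.map e.toMonoidHom ⊓ C = ⊥) :
    ∃ C : Subgroup G, H ⊔ C = ⊤ ∧ H ⊓ C = ⊥ := by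
  obtain ⟨C, h1, h2⟩ := h
  obtain ⟨C, rfl⟩ := e.mapSubgroup.surjective C
  exact ⟨C, e.mapSubgroup.injective (by rw [OrderIso.map_sup, OrderIso.map_top]; exact h1),
    e.mapSubgroup.injective (by rw [OrderIso.map_inf, OrderIso.map_bot]; exact h2)⟩

theorem interval_of_quotient {N X : Subgroup G} (hNX : N ≤ X) [(N.subgroupOf X).Normal]
    (hK : ComplementedLattice (Subgroup (X ⧸ N.subgroupOf X))) (Y : Subgroup G) (h1 : N ≤ Y)
    (h2 : Y ≤ X) : ∃ C : Subgroup G, N ≤ C ∧ C ≤ X ∧ Y ⊔ C = X ∧ Y ⊓ C = N := by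
  set f := QuotientGroup.mk' (N.subgroupOf X)
  have hf := QuotientGroup.mk'_surjective (N.subgroupOf X)
  obtain ⟨C, h3⟩ := exists_isCompl ((Y.subgroupOf X).map f)
  have h4 : ((Y.subgroupOf X).map f).comap f = Y.subgroupOf X :=
    comap_map_eq_self (by rw [QuotientGroup.ker_mk']; exact comap_mono h1)
  have h5 : (Y.subgroupOf X).map X.subtype = Y := by rw [subgroupOf_map_subtype, inf_eq_left.mpr h2]
  have h6 : Y ⊓ (C.comap f).map X.subtype = N := by
    rw [← h5, ← map_inf _ _ _ X.subtype_injective, ← h4, ← comap_inf, h3.inf_eq_bot,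
      MonoidHom.comap_bot, QuotientGroup.ker_mk', subgroupOf_map_subtype, inf_eq_left.mpr hNX]
  refine ⟨(C.comap f).map X.subtype, h6.ge.trans inf_le_right, map_subtype_le _, ?_, h6⟩
  rw [← h5, ← Subgroup.map_sup, ← h4, comap_sup_eq _ _ _ hf, h3.sup_eq_top, comap_top, ← MonoidHom.range_eq_map,
    range_subtype]

theorem normal_pi_simple {S ι : Type*} [Group S] [IsSimpleGroup S] [DecidableEq ι]
    (hS : ¬ IsMulCommutative S) (N : Subgroup (ι → S)) [hN : N.Normal] {x : ι → S} (hx : x ∈ N)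
    {i : ι} (hi : x i ≠ 1) (s : S) : Pi.mulSingle i s ∈ N := by
  rcases (hN.comap (MonoidHom.mulSingle (fun _ => S) i)).eq_bot_or_eq_top with h | h
  swap
  · exact h.ge (mem_top s)
  have h1 : x i ∈ center S := mem_center_iff.mpr fun t => by
    have h2 : t * x i * t⁻¹ * (x i)⁻¹ ∈ N.comap (MonoidHom.mulSingle (fun _ => S) i) := by
      have := mul_mem (hN.conj_mem x hx (Pi.mulSingle i t)) (inv_mem hx)
      rw [mem_comap, MonoidHom.mulSingle_apply]
      convert this using 1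
      ext j
      by_cases hj : j = i
      · subst hj; simp
      · simp [hj]
    rw [h, mem_bot, mul_inv_eq_one, mul_inv_eq_iff_eq_mul] at h2
    exact h2
  rcases (inferInstance : (center S).Normal).eq_bot_or_eq_top with h2 | h2
  · exact absurd (h2.le h1) hi
  · exact absurd ⟨⟨fun a b => mem_center_iff.mp (h2.ge (mem_top b)) a⟩⟩ hS

end Cfsg.Agent.H18
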