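import Mathlib
import Cfsg.Agent.H18.Msc1

/-!
Characteristically simple groups are the direct powers of simple groups.
-/

set_option autoImplicit false

namespace Cfsg.Agent.H18

open Subgroup

theorem char_simple_pi {S ι : Type*} [Group S] [IsSimpleGroup S] [Finite ι] (H : Subgroup (ι → S))
    [hH : H.Characteristic] : H = ⊥ ∨ H = ⊤ := by
  classical
  refine or_iff_not_imp_left.mpr fun h => ?_
  obtain ⟨⟨x, hx⟩, h1⟩ := ne_bot_iff_exists_ne_one.mp h
  obtain ⟨i, hi⟩ : ∃ i, x i ≠ 1 := Function.ne_iff.mp fun h => h1 (Subtype.ext h)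
  have key : ∀ φ : MulAut (ι → S), ∀ y ∈ H, φ y ∈ H := fun φ y hy => (hH.fixed φ).ge hy
  obtain ⟨j, hj⟩ : ∃ j, ∀ s, Pi.mulSingle j s ∈ H := by
    by_cases hS : IsMulCommutative S
    swap
    · exact ⟨i, normal_pi_simple hS H hx hi⟩
    suffices ∃ j, Pi.mulSingle j (x i) ∈ H by
      obtain ⟨j, hj⟩ := this
      exact ⟨j, fun s => ((Normal.comap inferInstance (MonoidHom.mulSingle (fun _ => S) j)
        (H := H)).eq_bot_or_eq_top.resolve_left fun h => hi (h.le hj)).ge (mem_top s)⟩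
    by_cases h2 : ∀ j, j = i
    · exact ⟨i, by convert hx; ext j; simp [h2 j]⟩
    obtain ⟨j, h2⟩ := not_forall.mp h2
    let φ : MulAut (ι → S) :=
      { toFun y := y * Pi.mulSingle j (y i)
        invFun y := y * Pi.mulSingle j (y i)⁻¹
        left_inv y := by simp [Ne.symm h2, Pi.mulSingle_inv]
        right_inv y := by simp [Ne.symm h2, Pi.mulSingle_inv]
        map_mul' y z := by
          rw [Pi.mul_apply, Pi.mulSingle_mul]
          exact funext fun k => by simp only [Pi.mul_apply]; exact Commute.mul_mul_mul_comm (hS.is_comm.comm _ _) _ _ }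
    exact ⟨j, (H.mul_mem_cancel_left hx).mp (key φ x hx)⟩
  refine top_le_iff.mp fun y _ => pi_mem_of_mulSingle_mem y fun k => ?_
  convert key (MulEquiv.arrowCongr (Equiv.swap j k) (MulEquiv.refl S)) _ (hj (y k))
  ext l
  simp [Pi.mulSingle_apply, Equiv.swap_apply_eq_iff]

variable {G : Type*} [Group G] [Finite G]

theorem exists_pi_of_char_simple [Nontrivial G] (h : ∀ H : Subgroup G, H.Characteristic → H = ⊥ ∨ H = ⊤) :
    ∃ (S : Type) (_ : Group S) (_ : IsSimpleGroup S) (n : ℕ), 1 ≤ n ∧ Nonempty (G ≃* (Fin n → S)) := by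
  classical
  obtain ⟨N, ⟨h1, h2⟩, h3⟩ := exists_minimalFor_of_wellFoundedLT
    (fun N : Subgroup G => N.Normal ∧ N ≠ ⊥) (fun N => Nat.card N) ⟨⊤, inferInstance, top_ne_bot⟩
  replace h3 : ∀ M : Subgroup G, M.Normal → M ≠ ⊥ → Nat.card N ≤ Nat.card M := fun M a b =>
    (le_total _ _).elim id (h3 ⟨a, b⟩)
  have hn : ∀ φ : MulAut G, (N.map φ.toMonoidHom).Normal := fun φ => h1.map _ φ.surjective
  obtain ⟨M, ⟨h5, n, f, h6, h7⟩, h9⟩ := exists_maximal_of_wellFoundedGT
    (fun M : Subgroup G => M.Normal ∧ ∃ (n : ℕ) (f : (Fin n → N) →* G), Function.Injective f ∧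
      f.range = M) ⟨⊥, inferInstance, 0, 1, Function.injective_of_subsingleton _, by simp⟩
  have h10 : ∀ φ : MulAut G, N.map φ.toMonoidHom ≤ M := fun φ => by
    have := hn φ
    by_cases h10 : M ⊓ N.map φ.toMonoidHom = ⊥
    swap
    · exact inf_eq_right.mp (eq_of_le_of_card_ge inf_le_right ((card_map_of_injective
        φ.injective).trans_le (h3 _ inferInstance h10)))
    have h11 := commute_of_normal_of_disjoint _ _ h5 this (disjoint_iff.mpr h10)
    let g := φ.toMonoidHom.comp N.subtype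
    have h12 : g.range = N.map φ.toMonoidHom := by rw [MonoidHom.range_comp, range_subtype]
    let e : (Fin (n + 1) → N) ≃* N × (Fin n → N) := { (Fin.consEquiv fun _ => N).symm with
      map_mul' := fun _ _ => rfl }
    have h13 : ∀ a b, Commute (g a) (f b) := fun a b => (h11 _ _ (h7.le ⟨b, rfl⟩) (h12.le ⟨a, rfl⟩)).symm
    refine le_sup_left.trans (h9 ⟨inferInstance, n + 1, (g.noncommCoprod f h13).comp e.toMonoidHom,
      ((MonoidHom.noncommCoprod_injective _ _ h13).mpr ⟨φ.injective.comp N.subtype_injective, h6, by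
        rw [h12, h7, disjoint_iff, inf_comm, h10]⟩).comp e.injective, ?_⟩ le_sup_right)
    rw [MonoidHom.range_comp, MonoidHom.range_eq_top.mpr e.surjective, ← MonoidHom.range_eq_map,
      MonoidHom.noncommCoprod_range, h12, h7]
  have h11 : M = ⊤ := top_le_iff.mp (((h (⨆ φ : MulAut G, N.map φ.toMonoidHom)
    (characteristic_iff_map_le.mpr fun ψ => by
      rw [Subgroup.map_iSup]
      exact iSup_le fun φ => le_iSup_of_le (ψ * φ) (by rw [map_map]; rfl))).resolve_left fun h =>
      h2 ((map_id N).symm.trans (iSup_eq_bot.mp h 1))).ge.trans (iSup_le h10))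
  let e := MulEquiv.ofBijective f ⟨h6, MonoidHom.range_eq_top.mp (h7.trans h11)⟩
  obtain _ | n := n
  · exact absurd e.symm.injective.subsingleton (not_subsingleton G)
  have : Nontrivial N := (nontrivial_iff_ne_bot N).mpr h2
  have : IsSimpleGroup N := ⟨fun K hK => ?_⟩
  · exact ⟨Shrink.{0} N, _, (Shrink.mulEquiv).isSimpleGroup, n + 1, by omega,
      ⟨e.symm.trans (MulEquiv.piCongrRight fun _ => (Shrink.mulEquiv).symm)⟩⟩
  let ι := f.comp (MonoidHom.mulSingle (fun _ => N) 0)
  have h12 : Function.Injective ι := h6.comp (Pi.mulSingle_injective (M := fun _ => N) 0)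
  refine or_iff_not_imp_left.mpr fun h13 => eq_top_of_le_card _ ((h3 (K.map ι) ⟨?_⟩
    (mt (map_eq_bot_iff_of_injective K h12).mp h13)).trans_eq (card_map_of_injective h12))
  rintro _ ⟨k, hk, rfl⟩ g
  obtain ⟨y, rfl⟩ := e.surjective g
  refine ⟨_, hK.conj_mem k hk (y 0), ?_⟩
  change f _ = f y * f _ * (f y)⁻¹
  rw [← map_mul, ← map_inv, ← map_mul]
  congr 1
  ext1 j
  by_cases hj : j = 0 <;> simp [hj]

end Cfsg.Agent.H18
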