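import Cfsg.Agent.H18.SpCase

/-! The structure theorem for subgroups of unitary groups. -/

set_option autoImplicit false

namespace Cfsg.Agent.H18

open Cfsg.Geo
open scoped MatrixGroups Matrix Kronecker commutatorElement

variable {ι : Type} [Fintype ι] [DecidableEq ι] {F : Type*} [Field F]

section aux
variable {σ : F →+* F} {ε : F} {f : (ι → F) → (ι → F) → F}

lemma exists_P_of_basis (b : Module.Basis ι F (ι → F)) :
    ∃ P : GL ι F, ∀ i, (P : Matrix ι ι F) *ᵥ Pi.single i 1 = b i :=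
  ⟨glOfLinearEquiv b.equivFun.symm, fun i => by
    rw [glOfLinearEquiv_mulVec, Module.Basis.equivFun_symm_apply]
    simp [Pi.single_apply]⟩

lemma grm_apply (f : (ι → F) → (ι → F) → F) (P : GL ι F) (i j : ι) : grm f P i j =
    f ((P : Matrix ι ι F) *ᵥ Pi.single i 1) ((P : Matrix ι ι F) *ᵥ Pi.single j 1) := rfl

/-- the form as a bundled sesquilinear map -/
def Sesq.toMap (hf : Sesq σ f) : (ι → F) →ₛₗ[σ] (ι → F) →ₗ[F] F :=
  LinearMap.mk₂'ₛₗ σ (RingHom.id F) (fun x y => f y x) (fun _ _ _ => hf.add_right _ _ _)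
    (fun _ _ _ => hf.smul_right _ _ _) (fun _ _ _ => hf.add_left _ _ _)
    fun _ _ _ => hf.smul_left _ _ _

lemma HForm.exists_orthonormal [Finite F] (hf : HForm σ 1 f) (hσ : σ ≠ RingHom.id F) :
    ∃ P : GL ι F, grm f P = 1 := by
  obtain ⟨b, hb⟩ := H13.exists_orthonormal_basis_herm hσ hf.invol hf.toSesq.toMap
    (fun x y => ((hf.herm x y).trans (one_mul _)).symm) hf.nondeg
  let e : Fin (Module.finrank F (ι → F)) ≃ ι := (Fintype.equivFinOfCardEq (by simp)).symm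
  obtain ⟨P, hP⟩ := exists_P_of_basis (b.reindex e)
  refine ⟨P, Matrix.ext fun i j => ?_⟩
  rw [grm_apply, hP, hP, Module.Basis.reindex_apply, Module.Basis.reindex_apply]
  refine (hb _ _).trans ?_
  simp [Matrix.one_apply, eq_comm]

lemma HForm.mem_isoG_of_grm (hf : HForm σ ε f) {P s : GL ι F}
    (h : (s : Matrix ι ι F)ᵀ * grm f P * (s : Matrix ι ι F).map σ = grm f P) :
    P * s * P⁻¹ ∈ isoG f := fun u v => by
  change f (((P * s * P⁻¹ : GL ι F) : Matrix ι ι F) *ᵥ u)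
    (((P * s * P⁻¹ : GL ι F) : Matrix ι ι F) *ᵥ v) = _
  rw [← mulVec_inv_mulVec P u, ← mulVec_inv_mulVec P v, ← cj_coe, cj_mulVec, cj_mulVec, hf.eq_grm,
    hf.eq_grm, frm_mulVec_mulVec, h]

lemma HForm.exists_sim_of_grm {ε' : F} {f' : (ι → F) → (ι → F) → F} (hf : HForm σ ε f)
    (hf' : HForm σ ε' f') {P P' : GL ι F} (h : grm f P = grm f' P') : ∃ B : GL ι F,
      ∀ u v, f' ((B : Matrix ι ι F) *ᵥ u) ((B : Matrix ι ι F) *ᵥ v) = 1 * f u v :=
  ⟨P' * P⁻¹, fun u v => by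
    rw [Units.val_mul, ← Matrix.mulVec_mulVec, ← Matrix.mulVec_mulVec, hf'.eq_grm, ← h, ← hf.eq_grm,
      mulVec_inv_mulVec, mulVec_inv_mulVec, one_mul]⟩

lemma HForm.det_isoG (hf : HForm σ ε f) {g : GL ι F} (hg : g ∈ isoG f) :
    (g : Matrix ι ι F).det * σ (g : Matrix ι ι F).det = 1 := by
  have h1 := congrArg Matrix.det (hf.grm_inv 1 hg)
  rw [inv_one, cj_one, Matrix.det_mul, Matrix.det_mul, Matrix.det_transpose, ← RingHom.mapMatrix_apply,
    ← RingHom.map_det] at h1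
  have h0 : (grm f 1).det ≠ 0 := (hf.trF (Equiv.refl ι) 1).isUnit_det.ne_zero
  exact mul_left_cancel₀ h0 (by rw [mul_one]; linear_combination h1)

/-- multiplication by a root of a cubic -/
def step3 {R : Type*} [CommRing R] (t s d : R) (x : R × R × R) : R × R × R :=
  (x.1 * t + x.2.1, x.2.2 - x.1 * s, x.1 * d)

lemma pow_eq_step3 (g : Matrix (Fin 3) (Fin 3) F) (k : ℕ) :
    g ^ k = ((step3 g.trace g.adjugate.trace g.det)^[k] (0, 0, 1)).1 • (g * g) +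
      ((step3 g.trace g.adjugate.trace g.det)^[k] (0, 0, 1)).2.1 • g +
      ((step3 g.trace g.adjugate.trace g.det)^[k] (0, 0, 1)).2.2 • 1 := by
  have h : g * g * g = g.trace • (g * g) - g.adjugate.trace • g + g.det • 1 := by
    ext i j
    fin_cases i <;> fin_cases j <;> simp [Matrix.adjugate_fin_three, Matrix.trace_fin_three,
      Matrix.det_fin_three, Matrix.mul_apply, Fin.sum_univ_three] <;> ring
  induction k with
  | zero => simp
  | succ k ih =>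
    rw [pow_succ, ih, Function.iterate_succ_apply', add_mul, add_mul, Matrix.smul_mul,
      Matrix.smul_mul, Matrix.smul_mul, h, one_mul]
    simp only [step3]
    module

lemma step3_map {R S : Type*} [CommRing R] [CommRing S] (φ : R →+* S) (t s d : R) (k : ℕ)
    (h : (step3 t s d)^[k] (0, 0, 1) = (0, 0, 1)) :
    (step3 (φ t) (φ s) (φ d))^[k] (0, 0, 1) = (0, 0, 1) := by
  have h1 : Function.Semiconj (fun x : R × R × R => (φ x.1, φ x.2.1, φ x.2.2)) (step3 t s d)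
      (step3 (φ t) (φ s) (φ d)) := fun x => by simp [step3]
  have := (h1.iterate_right k) (0, 0, 1)
  rw [h] at this
  simpa using this.symm

lemma HForm.solvable_three [Finite F] {f : (Fin 3 → F) → (Fin 3 → F) → F} (hf : HForm σ ε f)
    (h : ∀ t d : F, d * σ d = 1 → (step3 t (d * σ t) d)^[36] (0, 0, 1) = (0, 0, 1)) :
    Group.IsSolvable (isoG f) := by
  refine H4.isSolvable_of_forall_prime_dvd Nat.prime_two Nat.prime_three fun r hr hd => ?_
  have := Fact.mk hr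
  obtain ⟨⟨g, hg⟩, h1⟩ := exists_prime_orderOf_dvd_card' r hd
  have h2 : r ∣ 2 ^ 2 * 3 ^ 2 := by
    rw [← h1]
    refine orderOf_dvd_of_pow_eq_one (Subtype.ext (Units.ext ?_))
    have h3 : (g : Matrix (Fin 3) (Fin 3) F).adjugate.trace =
        (g : Matrix (Fin 3) (Fin 3) F).det * σ (g : Matrix (Fin 3) (Fin 3) F).trace := by
      rw [hf.trace_isoG hg, ← smul_eq_mul, ← Matrix.trace_smul, ← mul_one (Matrix.adjugate _),
        ← Units.mul_inv g, ← mul_assoc, Matrix.adjugate_mul, Matrix.smul_mul, one_mul]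
    change (g : Matrix (Fin 3) (Fin 3) F) ^ 36 = 1
    rw [pow_eq_step3, h3, h _ _ (hf.det_isoG hg)]; simp
  rcases (Nat.Prime.dvd_mul hr).mp h2 with h3 | h3
  · exact Or.inl ((Nat.prime_dvd_prime_iff_eq hr Nat.prime_two).mp (hr.dvd_of_dvd_pow h3))
  · exact Or.inr ((Nat.prime_dvd_prime_iff_eq hr Nat.prime_three).mp (hr.dvd_of_dvd_pow h3))

lemma step3_F4 : ∀ t d : F4, d * d ^ 2 = 1 → (step3 t (d * t ^ 2) d)^[36] (0, 0, 1) = (0, 0, 1) := by
  decide +kernel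

lemma step3_F3 : ∀ t d : ZMod 3, d * d = 1 → (step3 t (d * t) d)^[36] (0, 0, 1) = (0, 0, 1) := by
  decide +kernel

lemma HForm.solvable_U3 [Fintype F] {f : (Fin 3 → F) → (Fin 3 → F) → F} (hf : HForm σ ε f)
    (hq : ∀ x, σ x = x ^ 2) (h : Fintype.card F = 4) : Group.IsSolvable (isoG f) := by
  obtain ⟨φ⟩ := exists_equiv_F4 h
  refine hf.solvable_three fun t d hd => ?_
  obtain ⟨t, rfl⟩ := φ.surjective t
  obtain ⟨d, rfl⟩ := φ.surjective d
  simpa [hq] using step3_map (φ : F4 →+* F) t _ d 36 (step3_F4 t d (φ.injective (by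
    simpa [hq] using hd)))

lemma HForm.solvable_O3 [Fintype F] {f : (Fin 3 → F) → (Fin 3 → F) → F}
    (hf : HForm (RingHom.id F) ε f) (h : Fintype.card F = 3) : Group.IsSolvable (isoG f) := by
  let φ := ZMod.ringEquivOfPrime F (by decide) h
  refine hf.solvable_three fun t d hd => ?_
  obtain ⟨t, rfl⟩ := φ.surjective t
  obtain ⟨d, rfl⟩ := φ.surjective d
  simpa using step3_map (φ : ZMod 3 →+* F) t _ d 36 (step3_F3 t d (φ.injective (by
    simpa using hd)))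

lemma PowD.pure_mem {k t : ℕ} {e : ι ≃ (Fin t → Fin k)} {P : GL ι F} {ε₁ : F} {f₁ : _}
    (hf : HForm σ ε f) (h : PowD σ f e P ε₁ f₁) {a : Fin t → GL (Fin k) F}
    (ha : ∀ i, a i ∈ isoG f₁) : transGL e P (pureGL a) ∈ isoG f := by
  obtain ⟨c, -, -, h1⟩ := h.form hf
  intro u v
  obtain ⟨x, rfl⟩ := exists_eq_mulVec_comp e P u
  obtain ⟨y, rfl⟩ := exists_eq_mulVec_comp e P v
  change f (trans e P _ *ᵥ _) (trans e P _ *ᵥ _) = _
  rw [trans_mulVec, trans_mulVec]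
  refine (h1 _ _).trans (Eq.trans ?_ (h1 _ _).symm)
  rw [frm_mulVec_mulVec]
  congr 2
  change (pureT _)ᵀ * _ * (pureT _).map σ = _
  rw [pureT_transpose, pureT_map, ← map_mul, ← map_mul]
  congr 1
  funext i
  refine frm_inj (σ := σ) fun u v => ?_
  simp only [Pi.mul_apply]
  rw [← frm_mulVec_mulVec, ← h.hf₁.eq_frm, mem_isoG.mp (ha i)]

lemma spanAlg_eq_top_of_embT {k t : ℕ} {e : ι ≃ (Fin t → Fin k)} {P : GL ι F}
    {S : Subgroup (GL (Fin k) F)} (hS : spanAlg F S = ⊤) {N : Subgroup (GL ι F)}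
    (h : ∀ a : Fin t → GL (Fin k) F, (∀ i, a i ∈ S) → transGL e P (pureGL a) ∈ N) :
    spanAlg F N = ⊤ := by
  have h1 : ∀ i X, embT i X ∈ (spanAlg F N).comap (trans e P).toAlgHom := fun i X =>
    spanAlg_le (A := ((spanAlg F N).comap (trans e P).toAlgHom).comap (embAlg i)) (fun x hx => by
      have := coe_mem_spanAlg (R := F) (h (Pi.mulSingle i x) fun j => by
        by_cases hj : j = i
        · subst hj; simpa using hx
        · simp [hj])
      have h2 : (pureGL (Pi.mulSingle i x)).val = embT i x.val := by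
        change pureT _ = pureT _
        congr 1
        funext j
        by_cases hj : j = i
        · subst hj; simp
        · simp [hj]
      rwa [transGL_coe, h2] at this) (hS.ge Algebra.mem_top)
  rw [eq_top_iff]
  intro Y _
  obtain ⟨X, rfl⟩ := (trans e P).surjective Y
  change X ∈ (spanAlg F N).comap (trans e P).toAlgHom
  rw [matrix_eq_sum_smul_single X]
  refine sum_mem fun x _ => sum_mem fun y _ => Subalgebra.smul_mem _ ?_ _
  rw [← pureT_single]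
  exact pureT_mem_of_embT (A := ((spanAlg F N).comap (trans e P).toAlgHom).toSubmonoid) _
    fun i => h1 i _

lemma exists_norm_one (hσ : σ ≠ RingHom.id F) (hσ2 : ∀ x, σ (σ x) = x) :
    ∃ a : F, a * σ a = 1 ∧ σ a ≠ a := by
  obtain ⟨θ, h1, h2⟩ : ∃ θ : F, σ θ ≠ θ ∧ σ θ ≠ -θ := by
    obtain ⟨θ, h1⟩ : ∃ θ, σ θ ≠ θ := by
      by_contra! h; exact hσ (RingHom.ext h)
    by_cases h2 : σ θ = -θ
    · refine ⟨θ + 1, by simpa using h1, fun h3 => h1 ?_⟩
      rw [map_add, map_one, h2] at h3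
      rw [h2]; linear_combination -θ * h3
    · exact ⟨θ, h1, h2⟩
  have h0 : θ ≠ 0 := by rintro rfl; exact h1 (map_zero σ)
  have h0' : σ θ ≠ 0 := (map_ne_zero σ).mpr h0
  refine ⟨θ / σ θ, by rw [map_div₀, hσ2]; field_simp, fun h => ?_⟩
  rw [map_div₀, hσ2, div_eq_div_iff h0 h0', ← sq, ← sq] at h
  rcases sq_eq_sq_iff_eq_or_eq_neg.mp h with h | h
  exacts [h1 h, h2 h]

lemma HForm.span_SU2 [Finite F] {f : (Fin 2 → F) → (Fin 2 → F) → F} (hf : HForm σ 1 f)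
    (hσ : σ ≠ RingHom.id F) : spanAlg F (isoG f ⊓ isoG (frm (RingHom.id F) (J2 F))) = ⊤ := by
  obtain ⟨P, hP⟩ := hf.exists_orthonormal hσ
  obtain ⟨a, h1, h2⟩ := exists_norm_one hσ hf.invol
  let A := (spanAlg F (isoG f ⊓ isoG (frm (RingHom.id F) (J2 F)))).comap (cj P).toAlgHom
  have key : ∀ X : Matrix (Fin 2) (Fin 2) F, X.det = 1 → Xᵀ * X.map σ = 1 → X ∈ A := by
    intro X h3 h4
    let s := Matrix.GeneralLinearGroup.mkOfDetNeZero X (h3 ▸ one_ne_zero)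
    refine coe_mem_spanAlg (x := P * s * P⁻¹) ⟨hf.mem_isoG_of_grm (by rw [hP, mul_one]; exact h4),
      conj_mem_isoG (mem_similarityGroup_J2 P) fun u v => ?_⟩
    change frm _ _ (X *ᵥ u) (X *ᵥ v) = _
    rw [frm_mulVec_mulVec, transpose_J2, h3, one_smul]
  have hD := key !![a, 0; 0, σ a] (by simp [h1]) (by
    ext i j
    fin_cases i <;> fin_cases j <;> simp [Matrix.mul_apply, h1, hf.invol, mul_comm (σ a)])
  have hJ := key (J2 F) (by simp [J2]) (by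
    ext i j
    fin_cases i <;> fin_cases j <;> simp [J2, Matrix.mul_apply])
  have hE : !![1, 0; 0, 0] ∈ A := by
    convert A.smul_mem (sub_mem hD (A.smul_mem (one_mem _) (σ a))) (a - σ a)⁻¹ using 1
    ext i j
    fin_cases i <;> fin_cases j <;> simp [sub_ne_zero.mpr h2.symm]
  have hE' := sub_mem (one_mem A) hE
  rw [eq_top_iff]
  intro Y _
  obtain ⟨X, rfl⟩ := (cj P).surjective Y
  change X ∈ A
  convert add_mem (add_mem (A.smul_mem hE (X 0 0)) (A.smul_mem (mul_mem hE hJ) (X 0 1)))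
    (sub_mem (A.smul_mem hE' (X 1 1)) (A.smul_mem (mul_mem hE' hJ) (X 1 0))) using 1
  ext i j
  fin_cases i <;> fin_cases j <;> simp [J2, Matrix.mul_apply]

theorem PowD.fc5_two [Fintype F] {t : ℕ} {e : ι ≃ (Fin t → Fin 2)} {P : GL ι F} {f₁ : _}
    (hf : HForm σ ε f) (hσ : σ ≠ RingHom.id F) (h : PowD σ f e P 1 f₁) {H : Subgroup (GL ι F)}
    (hH : H ≤ similarityGroup f) (hle : H ≤ tensorWreathSubgroup 2 t e P) : FC5 f H := by
  have : Nonempty ι := ⟨e.symm fun _ => 0⟩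
  have h1 := ((hform_J2 (F := F)).pow (Fin t)).trB e P
  have h2 : PowD (RingHom.id F) _ e P (-1) (frm (RingHom.id F) (J2 F)) :=
    ⟨le_rfl, h.two_le_t, hform_J2, fun i X => by
      rw [h1.adj_trans, trF_trB, hform_J2.adj_embT]⟩
  have h3 := spanAlg_eq_top_of_embT (e := e) (P := P) (h.hf₁.span_SU2 hσ) (N := isoG f ⊓ isoG _)
    fun a ha => ⟨h.pure_mem hf fun i => (ha i).1, h2.pure_mem h1 fun i => (ha i).2⟩
  obtain ⟨F₀, h4, h5⟩ := realisable_of_two_forms hf hσ h1 h3 inf_le_left inf_le_right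
  refine hf.fc5_of_realisable h3 inf_le_left (fun g hg x hx => ⟨conj_mem_isoG (hH hg) hx.1,
    conj_mem_isoG ?_ hx.2⟩) h4 h5
  obtain ⟨s, hs, h6⟩ := (mem_map_trans e P _ g).mp (hle hg)
  rw [mem_similarityGroup_trans h6, trF_trB]
  exact wreath_le_similarityGroup hform_J2.toSesq mem_similarityGroup_J2 hs

/-- induction over solvable overgroups -/
lemma overgroup_induction {G : Type*} [Group G] [Finite G] {I : Subgroup G}
    {C R : Subgroup G → Prop} (hC : ∀ H K, H ≤ K → C K → C H)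
    (hR : ∀ H, R H → ¬ Group.IsSolvable H)
    (h : ∀ H, H ≤ I → C H ∨ R H ∨ ∃ H', H < H' ∧ H' ≤ I ∧ Group.IsSolvable H') :
    ∀ H, H ≤ I → C H ∨ R H := by
  intro H
  induction H using WellFoundedGT.induction with
  | ind H ih =>
    intro hH
    rcases h H hH with h1 | h1 | ⟨H', h1, h2, h3⟩
    · exact Or.inl h1
    · exact Or.inr h1
    · exact Or.inl (hC H H' h1.le ((ih H' h1 h2).resolve_right fun h4 => hR H' h4 h3))

lemma IsResidualCore.not_solvable {H P : Subgroup (GL ι F)} (h : IsResidualCore H P) :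
    ¬ Group.IsSolvable H := fun h1 => by
  have h2 := eq_bot_of_perfect (solvable_of_le h.le h1) h.perfect
  refine h.nonabelian ⟨⟨fun x y => ?_⟩⟩
  subst h2
  obtain ⟨x, rfl⟩ := QuotientGroup.mk_surjective x
  obtain ⟨y, rfl⟩ := QuotientGroup.mk_surjective y
  rw [Subsingleton.elim x y]

lemma exists_sigma [Fintype F] {q : ℕ} (hF : Fintype.card F = q ^ 2) :
    ∃ σ : F →+* F, (∀ x, σ x = x ^ q) ∧ (∀ x, σ (σ x) = x) ∧ σ ≠ RingHom.id F := by
  obtain ⟨p, e, hp, hc, he0, he⟩ := exists_card_eq_pow F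
  obtain ⟨d, -, rfl⟩ := (Nat.dvd_prime_pow hp).mp (he ▸ hF ▸ dvd_pow_self q two_ne_zero : q ∣ p ^ e)
  rw [← pow_mul, mul_comm] at hF
  have h1 : e = 2 * d := Nat.pow_right_injective hp.two_le (he.symm.trans hF)
  obtain ⟨σ, h2, h3⟩ := exists_frob_half hp hF
  obtain ⟨F₀, h4, h5⟩ := exists_subfield_pow (d := d) hp he (by omega) (by omega)
  exact ⟨σ, h2, h3, fun h => h4 (eq_top_iff.mpr fun x _ => (h5 x).mpr (by rw [← h2, h]; rfl))⟩

end aux

/-- the geometric cases of the structure theorem for unitary groups -/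
def SuCls [Fintype F] (σ : F →+* F) (q : ℕ) (f : (ι → F) → (ι → F) → F) (H : Subgroup (GL ι F)) :
    Prop :=
  (∃ W, W ≠ ⊥ ∧ IsTotallySingularFor f W ∧ H ≤ subspaceStabilizer W) ∨
  (∃ W, W ≠ ⊥ ∧ IsNondegenerateOn f W ∧ 2 * Module.finrank F W < Fintype.card ι ∧
      H ≤ subspaceStabilizer W) ∨
  (∃ (t k : ℕ) (D : Fin t → Submodule F (ι → F)), IsNondegenerateMDecomposition f k D ∧
      H ≤ decompositionStabilizer D) ∨
  (∃ (m : ℕ) (D : Fin 2 → Submodule F (ι → F)), IsMDecomposition m D ∧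
      (∀ i, IsTotallySingularFor f (D i)) ∧ H ≤ decompositionStabilizer D) ∨
  UC5 q f H ∨
  (∃ (r : ℕ) (R : Subgroup (GL ι F)) (p e k : ℕ), IsSymplecticTypeGroup r R ∧
      ActsAbsolutelyIrreducibly (matrixSet R) ∧ R ≤ similarityGroup f ∧ r ≠ p ∧
      IsMinimalFieldFor (Nat.card (Subgroup.center R)) p e F ∧ Fintype.card ι = r ^ k ∧
      ((Odd r ∧ Nat.card (Subgroup.center R) = r ∧ 1 ≤ k ∧ Nat.card R = r ^ (1 + 2 * k)) ∨
       (r = 2 ∧ e = 2 ∧ Nat.card (Subgroup.center R) = 4 ∧ Nat.card R = 2 ^ (2 + 2 * k))) ∧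
      H ≤ subgroupNormalizer R) ∨
  (∃ (r : ℕ) (K : Subalgebra F (Matrix ι ι F)), r.Prime ∧ Odd r ∧ IsFieldSubalgebra r K ∧
      IsAdjointClosedFor f K ∧ H ≤ subalgebraNormalizer K) ∨
  (∃ (a b : ℕ) (e : ι ≃ Fin a × Fin b) (P : GL ι F) (f₁ : _) (f₂ : _), a < b ∧
      KronD σ f e P 1 f₁ 1 f₂ ∧ H ≤ tensorProductSubgroup a b e P) ∨
  (∃ (k t : ℕ) (e : ι ≃ (Fin t → Fin k)) (P : GL ι F) (f₁ : _), 3 ≤ k ∧ ¬ (q = 2 ∧ k = 3) ∧
      PowD σ f e P 1 f₁ ∧ H ≤ tensorWreathSubgroup k t e P)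

section su
variable [Fintype F] {σ : F →+* F} {q : ℕ} {f : (ι → F) → (ι → F) → F} {H : Subgroup (GL ι F)}

lemma UC5.mono {K : Subgroup (GL ι F)} (hle : H ≤ K) (h : UC5 q f K) : UC5 q f H := by
  rcases h with ⟨a, b, c, h1, h2, h3, h4, h⟩ | ⟨a, b, h1, h2, h3, h⟩ |
    ⟨a, b, c, h1, h2, h3, h4, h5, h6, h⟩
  · exact Or.inl ⟨a, b, c, h1, h2, h3, h4, hle.trans h⟩
  · exact Or.inr (Or.inl ⟨a, b, h1, h2, h3, hle.trans h⟩)
  · exact Or.inr (Or.inr ⟨a, b, c, h1, h2, h3, h4, h5, h6, hle.trans h⟩)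

lemma SuCls.mono {K : Subgroup (GL ι F)} (hle : H ≤ K) (h : SuCls σ q f K) : SuCls σ q f H := by
  rcases h with ⟨W, h1, h2, h⟩ | ⟨W, h1, h2, h3, h⟩ | ⟨t, k, D, h1, h⟩ | ⟨k, D, h1, h2, h⟩ | h |
    ⟨r, R, p, e, k, h1, h2, h3, h4, h5, h6, h7, h⟩ | ⟨r, K, h1, h2, h3, h4, h⟩ |
    ⟨a, b, e, P, f₁, f₂, h1, h2, h⟩ | ⟨k, t, e, P, f₁, h1, h2, h3, h⟩
  · exact Or.inl ⟨W, h1, h2, hle.trans h⟩
  · exact Or.inr (Or.inl ⟨W, h1, h2, h3, hle.trans h⟩)
  · exact Or.inr (Or.inr (Or.inl ⟨t, k, D, h1, hle.trans h⟩))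
  · exact Or.inr (Or.inr (Or.inr (Or.inl ⟨k, D, h1, h2, hle.trans h⟩)))
  · exact Or.inr (Or.inr (Or.inr (Or.inr (Or.inl (h.mono hle)))))
  · iterate 5 right
    exact Or.inl ⟨r, R, p, e, k, h1, h2, h3, h4, h5, h6, h7, hle.trans h⟩
  · iterate 6 right
    exact Or.inl ⟨r, K, h1, h2, h3, h4, hle.trans h⟩
  · iterate 7 right
    exact Or.inl ⟨a, b, e, P, f₁, f₂, h1, h2, hle.trans h⟩
  · iterate 8 right
    exact ⟨k, t, e, P, f₁, h1, h2, h3, hle.trans h⟩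

lemma suCls_of_red (hf : HForm σ 1 f) (hH : H ≤ isoG f) (hi : ¬ Irr H) : SuCls σ q f H := by
  rcases hf.red (hH.trans (isoG_le_sim f)) hi with h | ⟨W, h1, h2, h3, h4⟩
  · exact Or.inl h
  · rcases h3.lt_or_eq with h5 | h5
    · exact Or.inr (Or.inl ⟨W, h1, h2, h5, h4⟩)
    · obtain ⟨h6, h7⟩ := hf.pair_decomp h1 h2 h5
      exact Or.inr (Or.inr (Or.inl ⟨_, _, _, h6, (le_inf (hH.trans (isoG_le_sim f)) h4).trans h7⟩))

lemma suCls_of_comm [Nonempty ι] (hf : HForm σ 1 f) (hσ : σ ≠ RingHom.id F) (hH : H ≤ isoG f)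
    (C : Subalgebra F (Matrix ι ι F)) (hc : ∀ x ∈ C, ∀ y ∈ C, x * y = y * x)
    (hn : ∀ h ∈ H, ∀ x ∈ C, cj h x ∈ C) (ha : ∀ x ∈ C, adj σ f x ∈ C) (hne : C ≠ ⊥) :
    SuCls σ q f H := by
  by_cases hi : Irr H
  swap
  · exact suCls_of_red hf hH hi
  rcases hf.comm_cases (hH.trans (isoG_le_sim f)) hi C hc hn ha hne with ⟨t, m, D, h1, h2, -⟩ |
    ⟨m, e, -, -, -, h4, h5, h6, -⟩ | ⟨r, K, h1, h2, -, h3, h4, -⟩
  · exact Or.inr (Or.inr (Or.inl ⟨t, m, D, h1, h2⟩))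
  · exact Or.inr (Or.inr (Or.inr (Or.inl ⟨m, _, h4, h5, h6⟩)))
  · iterate 6 right
    exact Or.inl ⟨r, K, h1, hf.odd_of_ne_id hσ h2 h3 h1, h2, hf.adjClosed_iff.mpr h3, h4⟩

lemma suCls_of_fc5 (hf : HForm σ 1 f) (hq : ∀ x, σ x = x ^ q) (hσ : σ ≠ RingHom.id F)
    (hF : Fintype.card F = q ^ 2) (hn : 2 ≤ Fintype.card ι) (hH : H ≤ isoG f) (h : FC5 f H) :
    SuCls σ q f H := by
  by_cases hi : Irr H
  · iterate 4 right
    exact Or.inl (h.unitary hf hq hσ hF hn hi hH)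
  · exact suCls_of_red hf hH hi

theorem suCase (hf : HForm σ 1 f) (hq : ∀ x, σ x = x ^ q) (hσ : σ ≠ RingHom.id F)
    (hF : Fintype.card F = q ^ 2) (hn : 2 ≤ Fintype.card ι) :
    ∀ H, H ≤ isoG f → SuCls σ q f H ∨ InUnitaryResidualClass H := by
  have : Nonempty ι := Fintype.card_pos_iff.mp (by omega)
  refine overgroup_induction (fun _ _ => SuCls.mono)
    (fun _ ⟨_, h, _⟩ => IsResidualCore.not_solvable h) fun H hH => ?_
  by_cases hi : Irr H
  swap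
  · exact Or.inl (suCls_of_red hf hH hi)
  have hs : H ⊔ scalars ι F ≤ similarityGroup f :=
    sup_le (hH.trans (isoG_le_sim f)) (scalars_le_similarityGroup hf.toSesq)
  have h5 : ∀ N, spanAlg F N = ⊤ → N ≤ isoG f → (∀ h ∈ H, ∀ x ∈ N, h * x * h⁻¹ ∈ N) →
      (∃ F₀ : Subfield F, F₀ ≠ ⊤ ∧ RealisableOver F₀ (matrixSet N)) → SuCls σ q f H := by
    rintro N h1 h2 h3 ⟨F₀, h4, h5⟩
    exact suCls_of_fc5 hf hq hσ hF hn hH (hf.fc5_of_realisable h1 h2 h3 h4 h5)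
  have hw : ∀ (k t : ℕ) (e : ι ≃ (Fin t → Fin k)) (P : GL ι F) (f₁ : _), PowD σ f e P 1 f₁ →
      H ≤ tensorWreathSubgroup k t e P → SuCls σ q f H ∨ Group.IsSolvable (isoG f₁) := by
    intro k t e P f₁ h1 h2
    rcases h1.two_le_k.lt_or_eq with h3 | rfl
    · by_cases h4 : q = 2 ∧ k = 3
      · obtain ⟨rfl, rfl⟩ := h4
        exact Or.inr (h1.hf₁.solvable_U3 hq hF)
      · left
        iterate 8 right
        exact ⟨k, t, e, P, f₁, h3, h4, h1, h2⟩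
    · exact Or.inl (suCls_of_fc5 hf hq hσ hF hn hH (h1.fc5_two hf hσ (le_sup_left.trans hs) h2))
  rcases hf.master hn hH hi with ⟨N, -, h1, h2, h3⟩ | ⟨a, b, e, P, ε₁, ε₂, f₁, f₂, h1, h2⟩ |
    ⟨N, r, h⟩ | ⟨k, t, e, P, ε₁, f₁, h1, h2, h3⟩ | ⟨P, h⟩
  · exact Or.inl (suCls_of_comm hf hσ hH _ (ctr_comm N) (cj_mem_ctr h2)
      (hf.adj_mem_ctr (h1.trans hs)) h3)
  · obtain ⟨c, hc, a1⟩ := h1.hf₁.exists_one hσ
    obtain ⟨d, hd, a2⟩ := h1.hf₂.exists_one hσ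
    have h3 := h1.smul hc hd a1 a2
    rcases lt_trichotomy a b with hab | rfl | hab
    · left
      iterate 7 right
      exact Or.inl ⟨a, b, e, P, _, _, hab, h3, h2⟩
    · obtain ⟨P₁, b1⟩ := a1.exists_orthonormal hσ
      obtain ⟨P₂, b2⟩ := a2.exists_orthonormal hσ
      obtain ⟨B, hB⟩ := a1.exists_sim_of_grm a2 (b1.trans b2.symm)
      obtain ⟨e', P', b3, b4, b5⟩ := h3.pow one_ne_zero hB
      rcases hw a 2 e' P' _ b3 (h2.trans b4) with h4 | h4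
      · exact Or.inl h4
      · exact Or.inr (Or.inr (KronD.overgroup hf h2 hH b3 b4 b5 h4))
    · left
      iterate 7 right
      exact Or.inl ⟨b, a, _, P, _, _, hab, h3.swap, by rwa [tensorProductSubgroup_swap]⟩
  · left
    have hR := h.extraR_core
    obtain ⟨p, e, hp, hc, he0, he⟩ := exists_card_eq_pow F
    rcases hR.minimal_or h hp he with hmin | ⟨F₀, h1, B, h2⟩
    swap
    · have hK := h.extraR_iso hf hs
      exact h5 _ (hK.span h) inf_le_right (fun g hg => hK.normal g (Subgroup.mem_sup_left hg))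
        ⟨F₀, h1, B, fun _ ⟨x, hx, h3⟩ => h2 _ ⟨x, hx.1, h3⟩⟩
    obtain ⟨m, hm1, hm⟩ := hR.exists_card_eq_pow h
    have hrp : r ≠ p := ne_of_dvd_pow_sub_one h.prime he0 (he ▸ h.dvd_card)
    have hz := h.card_center_core
    iterate 5 right
    refine Or.inl ⟨r, _, p, e, m, hR.symplecticType h, absIrr_of_spanAlg_eq_top (hR.span h),
      hR.le.trans (h.le.trans hs), hrp, hmin, hm, ?_,
      le_sup_left.trans (le_subgroupNormalizer hR.normal)⟩
    rcases gcd_cases h.prime h.dvd_card with ⟨h1, h2⟩ | ⟨rfl, h2⟩ | ⟨rfl, h2⟩ <;> rw [h2] at hz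
    · exact Or.inl ⟨h1, hz, hm1, by rw [hR.card_eq h, hz, hm]; ring⟩
    · refine Or.inr ⟨rfl, ?_, hz, by rw [hR.card_eq h, hz, hm]; ring⟩
      obtain ⟨d, -, rfl⟩ :=
        (Nat.dvd_prime_pow hp).mp (he ▸ hF ▸ dvd_pow_self q two_ne_zero : q ∣ p ^ e)
      rw [← pow_mul] at hF
      have h1 : e = d * 2 := Nat.pow_right_injective hp.two_le (he.symm.trans hF)
      by_contra h3
      apply hmin.2.2.2.2 2 two_pos (by omega)
      rw [hz]
      obtain ⟨k, rfl⟩ := hp.odd_of_ne_two hrp.symm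
      exact ⟨k * k + k, by rw [Nat.sub_eq_iff_eq_add (Nat.one_le_pow _ _ (by omega))]; ring⟩
    · exfalso
      have h3 := h.dvd_card
      have h4 := two_le_card (F := F)
      rw [hF] at h2 h3 h4
      obtain ⟨k, rfl | rfl⟩ := Nat.even_or_odd' q
      · rw [mul_pow] at h3 h4; omega
      · have : 4 ∣ Nat.gcd ((2 * k + 1) ^ 2 - 1) 4 := Nat.dvd_gcd
          ⟨k * k + k, by rw [Nat.sub_eq_iff_eq_add (by omega)]; ring⟩ dvd_rfl
        change Nat.gcd _ 4 = 2 at h2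
        omega
  · obtain ⟨c, hc, a1⟩ := h1.hf₁.exists_one hσ
    refine Or.inl ((hw k t e P _ (h1.smul hc a1) h3).resolve_right fun h4 => h2
      (solvable_of_le (K := isoG fun u v => c * f₁ u v) (fun g hg => mem_isoG.mpr fun u v => ?_) h4))
    exact congrArg (c * ·) (mem_isoG.mp hg u v)
  · by_cases h1 : ∃ F₀ : Subfield F, F₀ ≠ ⊤ ∧ RealisableOver F₀ (matrixSet P)
    · exact Or.inl (h5 P h.span (h.le_iso.trans hH) h.normal' h1)
    refine Or.inr (Or.inl ⟨P, h.core fun F₀ h3 h4 => h1 ⟨F₀, h3, h4⟩, ?_, ?_⟩)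
    · rintro ⟨Q, h3, h4⟩
      exact h1 (realisable_of_two_forms hf hσ (hform_of_quad h3) h.span (h.le_iso.trans hH)
        (fixes_of_fixesQuadForm h4))
    · rintro ⟨f', h3, h4⟩
      exact h1 (realisable_of_two_forms hf hσ (hform_of_symplectic h3) h.span (h.le_iso.trans hH)
        (fixes_of_fixesForm h4))

end su

lemma hform_hermForm {σ : F →+* F} {q : ℕ} (hq : ∀ x, σ x = x ^ q) (hσ : ∀ x, σ (σ x) = x) (n : ℕ) :
    HForm σ 1 (hermForm n F q) := by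
  have : hermForm n F q = frm σ 1 := by
    funext u v; simp [hermForm, frm, dotProduct, hq]
  rw [this]
  exact hform_frm hσ (by simp) (by simp) (by simp)

lemma GU_eq (n q : ℕ) : GU n F q = isoG (hermForm n F q) := rfl

lemma SuCls.inClass [Fintype F] {σ : F →+* F} {n q : ℕ} (hq : ∀ x, σ x = x ^ q)
    (hσ : ∀ x, σ (σ x) = x) {H : Subgroup (GL (Fin n) F)} (hH : H ≤ GU n F q)
    (h : SuCls σ q (hermForm n F q) H) : ∃ M, InUnitaryClass n F q M ∧ H ≤ M := by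
  have hf := hform_hermForm hq hσ n
  have hs : (fun x : F => x ^ q) = σ := (funext hq).symm
  rcases h with ⟨W, h1, h2, h⟩ | ⟨W, h1, h2, h3, h⟩ | ⟨t, k, D, h1, h⟩ | ⟨k, D, h1, h2, h⟩ |
    (⟨a, b, c, h1, h2, h3, h4, h⟩ | ⟨a, b, h1, h2, h3, h⟩ | ⟨a, b, c, h1, h2, h3, h4, h5, h6, h⟩) |
    ⟨r, R, p, e, k, h1, h2, h3, h4, h5, -, h7, h⟩ | ⟨r, K, h1, h2, h3, h4, h⟩ |
    ⟨a, b, e, P, f₁, f₂, h1, h2, h⟩ | ⟨k, t, e, P, f₁, h1, h2, h3, h⟩ <;> refine ⟨_, ?_, le_inf h hH⟩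
  · exact Or.inl (Or.inl ⟨W, h1, h2, rfl⟩)
  · exact Or.inl (Or.inr (Or.inl ⟨W, h1, h2, by simpa using h3, rfl⟩))
  · exact Or.inl (Or.inr (Or.inr (Or.inl ⟨t, k, D, h1, rfl⟩)))
  · exact Or.inl (Or.inr (Or.inr (Or.inr (Or.inl ⟨k, D, by
      simpa using (card_eq_of_isMDecomposition h1).symm, h1, h2, rfl⟩))))
  · left
    iterate 4 right
    exact Or.inl ⟨a, b, c, h1, h2, h3, h4, rfl⟩
  · left
    iterate 5 right
    exact Or.inl ⟨a, b, h1, h2, h3, rfl⟩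
  · left
    iterate 6 right
    exact Or.inl ⟨a, b, c, by simpa using h1, h2, h3, h4, h5, h6, rfl⟩
  · left
    iterate 7 right
    exact ⟨r, R, p, e, k, h1, h2, h3, h4, h5, h7, rfl⟩
  · exact Or.inr (Or.inl ⟨r, K, h1, h2, h3, h4, rfl⟩)
  · exact Or.inr (Or.inr (Or.inl ⟨a, b, e, P, f₁, f₂, h2.two_le₁, h1, h2.hf₁.unitaryPow hq,
      h2.hf₂.unitaryPow hq, hs ▸ h2.struct hf, rfl⟩))
  · exact Or.inr (Or.inr (Or.inr ⟨k, t, e, P, f₁, h1, h3.two_le_t, h2, h3.hf₁.unitaryPow hq,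
      hs ▸ h3.struct hf, rfl⟩))

end Cfsg.Agent.H18
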