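import Cfsg.Agent.H18.MiH
import Cfsg.Agent.H18.SuCase

/-!
Subgroups of `SU₃(q)` containing a transvection and normalised by an irreducible group.
-/

set_option autoImplicit false

namespace Cfsg.Agent.H18.Rg

open Cfsg.Agent.H12 Cfsg.Agent.H18.Mi Module Cfsg.Geo Matrix

variable {F : Type*} [Field F] {H G : Subgroup (GL (Fin 3) F)}

/-- The subgroup generated by the transvections of `H`. -/
def TV (H : Subgroup (GL (Fin 3) F)) : Subgroup (GL (Fin 3) F) :=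
  Subgroup.closure {g | g ∈ H ∧ ∃ (a : Fin 3 → F) (α : Dual F (Fin 3 → F)), α a = 0 ∧
    ∀ x, g.1 *ᵥ x = x + α x • a}

theorem TV_le : TV H ≤ H := (Subgroup.closure_le _).2 fun _ h => h.1

theorem mem_TV {g : GL (Fin 3) F} (hg : g ∈ H) {a : Fin 3 → F} {α : Dual F (Fin 3 → F)}
    (h0 : α a = 0) (h : ∀ x, g.1 *ᵥ x = x + α x • a) : g ∈ TV H :=
  Subgroup.subset_closure ⟨hg, a, α, h0, h⟩

theorem conj_tv {g t : GL (Fin 3) F} {a : Fin 3 → F} {α : Dual F (Fin 3 → F)}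
    (h : ∀ x, t.1 *ᵥ x = x + α x • a) (x : Fin 3 → F) :
    (g * t * g⁻¹).1 *ᵥ x = x + (α ∘ₗ toLin' (g⁻¹).1) x • (g.1 *ᵥ a) := by
  rw [Units.val_mul, Units.val_mul, ← mulVec_mulVec, ← mulVec_mulVec, h, mulVec_add, mulVec_smul,
    mulVec_inv_mulVec]
  rfl

theorem conj_mem_TV (hn : ∀ g ∈ G, ∀ h ∈ H, g * h * g⁻¹ ∈ H) {g : GL (Fin 3) F} (hg : g ∈ G) :
    ∀ t ∈ TV H, g * t * g⁻¹ ∈ TV H := by
  intro t ht
  induction ht using Subgroup.closure_induction with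
  | mem x hx =>
    obtain ⟨h1, a, α, h0, h⟩ := hx
    exact mem_TV (hn g hg x h1) (by
      rw [LinearMap.comp_apply, toLin'_apply, inv_mulVec_mulVec, h0]) (conj_tv h)
  | one => simp
  | mul x y _ _ hx hy =>
    rw [show g * (x * y) * g⁻¹ = g * x * g⁻¹ * (g * y * g⁻¹) by group]; exact mul_mem hx hy
  | inv x _ hx => rw [show g * x⁻¹ * g⁻¹ = (g * x * g⁻¹)⁻¹ by group]; exact inv_mem hx

theorem tr_TV {a : Fin 3 → F} {α : Dual F (Fin 3 → F)} : TR (LM (TV H)) a α ↔ TR (LM H) a α :=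
  ⟨fun ⟨h0, _, ⟨g, hg, rfl⟩, h⟩ => ⟨h0, _, mem_LM.2 (TV_le hg), h⟩,
    fun ⟨h0, _, ⟨g, hg, rfl⟩, h⟩ => ⟨h0, _, mem_LM.2 (mem_TV hg h0 h), h⟩⟩

theorem xt_TV {a : Fin 3 → F} {α : Dual F (Fin 3 → F)} : XT (LM (TV H)) a α ↔ XT (LM H) a α :=
  and_congr_left' tr_TV

theorem gen_TV : Gen (LM (TV H)) := by
  rintro S hS _ ⟨g, hg, rfl⟩
  suffices h : glEq (Fin 3) F g ∈ S ∧ glEq (Fin 3) F g⁻¹ ∈ S from h.1
  induction hg using Subgroup.closure_induction with
  | mem x hx =>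
    obtain ⟨h1, a, α, h0, h⟩ := hx
    have h2 := mem_TV h1 h0 h
    refine ⟨hS _ (mem_LM.2 h2) a α h0 h, hS _ (mem_LM.2 (inv_mem h2)) a (-α) (by simp [h0])
      fun y => ?_⟩
    have := h (y + (-α) y • a)
    rw [glEq_apply, ← inv_mulVec_mulVec x (y + (-α) y • a), this]
    simp [h0]
  | one => simp
  | mul x y _ _ hx hy =>
    rw [_root_.mul_inv_rev, map_mul, map_mul]; exact ⟨mul_mem hx.1 hy.1, mul_mem hy.2 hx.2⟩
  | inv x _ hx => rw [inv_inv]; exact hx.symm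

theorem tr_conj' (hn : ∀ g ∈ G, ∀ h ∈ H, g * h * g⁻¹ ∈ H) {g : GL (Fin 3) F} (hg : g ∈ G)
    {a : Fin 3 → F} {α : Dual F (Fin 3 → F)} (h : TR (LM H) a α) :
    TR (LM H) (g.1 *ᵥ a) (α ∘ₗ toLin' (g⁻¹).1) := by
  obtain ⟨h0, _, ⟨t, ht, rfl⟩, h⟩ := h
  exact ⟨by rw [LinearMap.comp_apply, toLin'_apply, inv_mulVec_mulVec, h0], _,
    mem_LM.2 (hn g hg t ht), conj_tv h⟩

theorem irrV_TV (hn : ∀ g ∈ G, ∀ h ∈ H, g * h * g⁻¹ ∈ H) (hI : Irr G) (ht : HasTv H) :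
    IrrV (LM (TV H)) := by
  obtain ⟨a, α, h, ha, hα⟩ := ht.xt
  intro W hW
  have hW' : ∀ {b β}, TR (LM H) b β → ∀ w ∈ W, β w • b ∈ W := fun hb w hw => by
    obtain ⟨-, g, hg, h1⟩ := tr_TV.2 hb
    have := hW g hg w hw
    rw [h1] at this
    exact (W.add_mem_iff_right hw).1 this
  -- the common axis part and the span of the centres
  let A : Submodule F (Fin 3 → F) := ⨅ p : {p : (Fin 3 → F) × Dual F (Fin 3 → F) //
    XT (LM H) p.1 p.2}, LinearMap.ker p.1.2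
  let C : Submodule F (Fin 3 → F) := Submodule.span F {b | ∃ β, XT (LM H) b β}
  have hx : ∀ g ∈ G, ∀ {b β}, XT (LM H) b β → XT (LM H) (g.1 *ᵥ b) (β ∘ₗ toLin' (g⁻¹).1) :=
    fun g hg b β hb => ⟨tr_conj' hn hg hb.1, fun e => hb.2.1 ((mulVec_eq_zero_iff g b).1 e),
      fun e => hb.2.2 (LinearMap.ext fun x => by
        have := LinearMap.congr_fun e (g.1 *ᵥ x)
        rwa [LinearMap.comp_apply, toLin'_apply, inv_mulVec_mulVec] at this)⟩
  have hA : A = ⊥ := (hI A fun g hg v hv => (Submodule.mem_iInf _).2 fun p =>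
      (Submodule.mem_iInf _).1 hv ⟨(_, _), hx g⁻¹ (inv_mem hg) p.2⟩).resolve_right fun e =>
    hα (LinearMap.ext fun x => (Submodule.mem_iInf _).1 (e.ge (Submodule.mem_top (x := x)))
      ⟨(a, α), h, ha, hα⟩)
  have hC : C = ⊤ := (hI C fun g hg v hv => by
      induction hv using Submodule.span_induction with
      | mem x hx' => obtain ⟨β, hb⟩ := hx'; exact Submodule.subset_span ⟨_, hx g hg hb⟩
      | zero => simp
      | add x y _ _ h1 h2 => rw [mulVec_add]; exact add_mem h1 h2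
      | smul c x _ h1 => rw [mulVec_smul]; exact C.smul_mem c h1).resolve_left fun e =>
    ha (e.le (Submodule.subset_span ⟨α, h, ha, hα⟩))
  by_contra! hc
  obtain ⟨w, hw, w0⟩ := W.ne_bot_iff.1 hc.1
  obtain ⟨b, β, hb, h1⟩ : ∃ b β, XT (LM H) b β ∧ β w ≠ 0 := by
    by_contra! H1
    exact w0 (hA.le ((Submodule.mem_iInf _).2 fun p => H1 _ _ p.2))
  have hbW : b ∈ W := (W.smul_mem_iff h1).1 (hW' hb.1 w hw)
  obtain ⟨c, ⟨γ, hc'⟩, h2⟩ : ∃ c, (∃ γ, XT (LM H) c γ) ∧ c ∉ W := by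
    by_contra! H1
    exact hc.2 (eq_top_iff.2 (hC.ge.trans (Submodule.span_le.2 fun c hc => H1 c hc)))
  have hγ : ∀ x ∈ W, γ x = 0 := fun x hx' => by
    by_contra e
    exact h2 ((W.smul_mem_iff e).1 (hW' hc'.1 x hx'))
  have hwb : w ∉ F ∙ b := notMem_span_of β hb.1.1 h1
  -- `γ` vanishes on `b, w, c`, which span everything
  refine hc'.2.2 (LinearMap.ext fun v => ?_)
  obtain ⟨r, s, t, rfl⟩ := span3 (F := F) (a := b) (b := w) (c := c) (by simp) (fun r s t e => by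
    have t0 : t = 0 := by
      by_contra t0
      refine h2 ((W.smul_mem_iff t0).1 ?_)
      rw [eq_neg_of_add_eq_zero_right e]
      exact neg_mem (add_mem (W.smul_mem _ hbW) (W.smul_mem _ hw))
    rw [t0, zero_smul, add_zero] at e
    have s0 : s = 0 := by simpa [hb.1.1, h1] using congrArg β e
    rw [s0, zero_smul, add_zero] at e
    exact ⟨(smul_eq_zero.1 e).resolve_right hb.2.1, s0, t0⟩) v
  simp [hγ b hbW, hγ w hw, hc'.1.1]

theorem span_of_irrV [Finite F] {T : Subgroup (GL (Fin 3) F)} (hI : IrrV (LM T))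
    (hex : ∃ a α, XT (LM T) a α) : spanAlg F T = ⊤ := by
  have hI' : Irr T := fun W hW => hI W (by rintro _ ⟨g, hg, rfl⟩; exact hW g hg)
  refine span_of_absIrr ⟨(irr_iff T).1 hI', fun X hX => ?_⟩
  obtain ⟨a, α, ⟨-, _, ⟨t, ht, rfl⟩, h⟩, ha, hα⟩ := hex
  obtain ⟨y, hy⟩ : ∃ y, α y ≠ 0 := by
    by_contra! H1; exact hα (LinearMap.ext H1)
  have h' : ∀ x, t.1 *ᵥ x = x + α x • a := h
  have h1 : X *ᵥ (t.1 *ᵥ y) = t.1 *ᵥ (X *ᵥ y) := by
    rw [mulVec_mulVec, mulVec_mulVec, hX _ ⟨t, ht, rfl⟩]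
  rw [h', h', mulVec_add, mulVec_smul, add_right_inj] at h1
  obtain ⟨c, hc⟩ : ∃ c : F, X *ᵥ a = c • a :=
    ⟨(α y)⁻¹ * α (X *ᵥ y), by rw [mul_smul, ← h1, smul_smul, inv_mul_cancel₀ hy, one_smul]⟩
  have := (hI' (LinearMap.ker (toLin' (X - c • 1))) fun g hg v hv => by
    rw [LinearMap.mem_ker, toLin'_apply, sub_mulVec, smul_mulVec, one_mulVec, sub_eq_zero] at hv ⊢
    rw [mulVec_mulVec, hX _ ⟨g, hg, rfl⟩, ← mulVec_mulVec, hv, mulVec_smul]).resolve_left fun e =>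
      ha (e.le (by rw [LinearMap.mem_ker, toLin'_apply, sub_mulVec, smul_mulVec, one_mulVec, hc,
        sub_self]))
  exact ⟨c, sub_eq_zero.1 (toLin'.map_eq_zero_iff.1 (LinearMap.ker_eq_top.1 this))⟩

theorem frobOf_eq [Fintype F] {q : ℕ} (hF : Fintype.card F = q ^ 2) {K : Subfield F}
    (h1 : frobOf K ≠ RingHom.id F) (h2 : ∀ x, frobOf K (frobOf K x) = x) : frobOf K = frobq hF := by
  have h3 := card_eq_q0_sq h1 h2
  have h4 : q0 (frobOf K) = Nat.card K :=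
    Nat.card_congr (Equiv.subtypeEquivRight fun x => frobOf_eq_iff K x)
  rw [Nat.card_eq_fintype_card, hF, h4] at h3
  ext x
  rw [frobOf_apply, frobq_apply, Nat.pow_left_injective two_ne_zero h3]

theorem gen_main [Fintype F] {q : ℕ} (hF : Fintype.card F = q ^ 2)
    {f : (Fin 3 → F) → (Fin 3 → F) → F} (hf : HForm (frobq hF) 1 f)
    (hH : ∀ h ∈ H, ∀ x y, f (h.1 *ᵥ x) (h.1 *ᵥ y) = f x y)
    (hn : ∀ g ∈ G, ∀ h ∈ H, g * h * g⁻¹ ∈ H) (hI : Irr G) (ht : HasTv H)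
    (hbig : (2 : F) = 0 → ¬ ∀ a α, TR (LM H) a α → a ≠ 0 → α ≠ 0 →
      ∀ x : F, TR (LM H) a (x • α) → x = 0 ∨ x = 1)
    (hsub : ∀ F₀ : Subfield F, F₀ ≠ ⊤ → ∀ P : GL (Fin 3) F,
      ¬ ∀ g ∈ G, ∃ ζ : F, ζ ≠ 0 ∧ ∀ i j, ζ * (cj P⁻¹ g.1) i j ∈ F₀) :
    ∀ g ∈ specialLinear (Fin 3) F, (∀ x y, f (g.1 *ᵥ x) (g.1 *ᵥ y) = f x y) → g ∈ H := by
  have h3 : finrank F (Fin 3 → F) = 3 := by simp
  have hI' := irrV_TV hn hI ht
  have hex : ∃ a α, XT (LM (TV H)) a α := ht.xt.imp fun a => Exists.imp fun α => xt_TV.2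
  have hsp := span_of_irrV hI' hex
  have hR : ∀ F₀ : Subfield F, F₀ ≠ ⊤ → ¬ RealisableOver F₀ (matrixSet (TV H)) := by
    rintro F₀ h0 ⟨B, hB⟩
    refine hsub F₀ h0 B⁻¹ fun g hg => mem_subfieldSubgroup_iff.1
      (mem_subfieldSubgroup_of_normalizes hsp (fun x hx => ?_) (conj_mem_TV hn hg))
    rw [inv_inv]
    exact hB _ ⟨x, hx, rfl⟩
  intro g hg hgf
  rcases exists_TK hI' h3 hex with ⟨K, hK⟩ | ⟨h2, hr⟩
  · by_cases hA : AllOpp (LM (TV H))
    · obtain ⟨e, α, ε, hU⟩ := hK.exists_UF hA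
      by_cases hφ : ∀ x, frobOf K (frobOf K x) = x
      · obtain ⟨B, D, hM, hS⟩ := hU.unitary hK gen_TV (frobOf_eq_iff K) hφ
        have hne : frobOf K ≠ RingHom.id F := fun H => hU.x (by rw [H]; rfl)
        have hf' : Sesq (frobq hF) fun u v : Fin 3 → F => B v u :=
          { add_left := fun x y v => by simp
            smul_left := fun c x v => by simp
            add_right := fun v x y => by simp
            smul_right := fun c v x => by simp [frobOf_eq hF hne hφ] }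
        obtain ⟨c, hc⟩ := hf.exists_eq_smul hf' hsp fun x hx =>
          ⟨1, fun u v => by rw [hH x (TV_le hx), one_mul], fun u v => by
            rw [one_mul]; exact hM (mem_LM.2 hx) v u⟩
        have hu : glEq (Fin 3) F g ∈ UG B := fun x y => by
          rw [hc y x, ← hgf]; exact hc _ _
        exact TV_le (mem_LM.1 (hS ⟨_, hu⟩ (mem_SUG.2 (mem_SLV.1 (glEq_mem_SLV.2 hg)))))
      · exact absurd (realisable hU.app (hU.all_mem h3 gen_TV fun x hx => (frobOf_eq_iff K x).2 hx))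
          (hR _ fun H => hφ fun x => H.ge (Subfield.mem_top x))
    · obtain ⟨e, ε, hT⟩ := hK.exists_tri hA
      by_cases hK' : K = ⊤
      · subst hK'
        exact TV_le (mem_LM.1 (hK.SLV_le hT (glEq_mem_SLV.2 hg)))
      · exact absurd (realisable hT.app (hK.all_mem hT gen_TV)) (hR K hK')
  · exact absurd (fun a α h ha hα x hx => hr a α (tr_TV.2 h) ha hα x (tr_TV.2 hx)) (hbig h2)

/-- A finite group with a self-centralising involution: products of three involutions. -/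
theorem three_inv {D : Type*} [Group D] [Finite D] {t s r : D} (h1 : t ≠ 1) (ht : t * t = 1)
    (hc : ∀ d, d * t = t * d → d = 1 ∨ d = t) (hs : s * s = 1) (hr : r * r = 1) (s1 : s ≠ 1)
    (r1 : r ≠ 1) : t * s * r * (t * s * r) = 1 := by
  classical
  have := Fintype.ofFinite D
  have ti : t⁻¹ = t := inv_eq_of_mul_eq_one_right ht
  let I : Finset D := Finset.univ.image fun x => x⁻¹ * t * x
  have a1 : (Finset.univ : Finset D).card ≤ 2 * I.card :=
    Finset.card_le_mul_card_image _ 2 fun b hb => by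
      obtain ⟨x, -, rfl⟩ := Finset.mem_image.1 hb
      refine (Finset.card_le_card (t := {x, t * x}) fun y hy => ?_).trans Finset.card_le_two
      have e := (Finset.mem_filter.1 hy).2
      rcases hc (y * x⁻¹) (by
        calc y * x⁻¹ * t = y * (x⁻¹ * t * x) * x⁻¹ := by group
          _ = t * (y * x⁻¹) := by rw [← e]; group) with h | h
      · simp [mul_inv_eq_one.1 h]
      · simp [mul_inv_eq_iff_eq_mul.1 h]
  have a2 : ∀ x y : D, y⁻¹ * t * y * t ≠ x⁻¹ * t * x := fun x y e => by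
    have b1 : x⁻¹ * t * x * (x⁻¹ * t * x) = 1 := by
      calc _ = x⁻¹ * (t * t) * x := by group
        _ = 1 := by rw [ht]; group
    have b2 : y⁻¹ * t * y * (y⁻¹ * t * y) = 1 := by
      calc _ = y⁻¹ * (t * t) * y := by group
        _ = 1 := by rw [ht]; group
    rw [← e] at b1
    rcases hc (y⁻¹ * t * y) (by
      rw [← inv_eq_of_mul_eq_one_right b1, _root_.mul_inv_rev, ti,
        inv_eq_of_mul_eq_one_right b2]) with h | h
    · exact h1 (by rw [show t = y * (y⁻¹ * t * y) * y⁻¹ by group, h]; group)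
    · rw [h, ht] at e
      exact h1 (by rw [show t = x * (x⁻¹ * t * x) * x⁻¹ by group, ← e]; group)
  have a3 : ∀ d : D, (∃ x, x⁻¹ * t * x = d) ∨ ∃ y, y⁻¹ * t * y * t = d := fun d => by
    have : I ∪ I.image (· * t) = Finset.univ := Finset.eq_univ_of_card _ (le_antisymm
      (Finset.card_le_univ _) (by
        rw [Finset.card_union_of_disjoint, Finset.card_image_of_injective _ (mul_left_injective t)]
        · exact a1.trans (by omega)
        · refine Finset.disjoint_left.2 fun z h h' => ?_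
          obtain ⟨x, -, rfl⟩ := Finset.mem_image.1 h
          obtain ⟨w, hw, e⟩ := Finset.mem_image.1 h'
          obtain ⟨y, -, rfl⟩ := Finset.mem_image.1 hw
          exact a2 x y e))
    rcases Finset.mem_union.1 (this ▸ Finset.mem_univ d) with h | h
    · obtain ⟨x, -, rfl⟩ := Finset.mem_image.1 h; exact Or.inl ⟨x, rfl⟩
    · obtain ⟨w, hw, rfl⟩ := Finset.mem_image.1 h
      obtain ⟨y, -, rfl⟩ := Finset.mem_image.1 hw
      exact Or.inr ⟨y, rfl⟩
  have a4 : ∀ y : D, t * (y⁻¹ * t * y * t) * t * (y⁻¹ * t * y * t) = 1 := fun y => by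
    calc _ = t * y⁻¹ * t * y * (t * t) * y⁻¹ * t * y * t := by group
      _ = t * y⁻¹ * (t * t) * y * t := by
        rw [show t * y⁻¹ * t * y * (t * t) = t * y⁻¹ * t * y by rw [ht, mul_one]]; group
      _ = 1 := by rw [ht, mul_one, inv_mul_cancel_right, ht]
  rcases a3 (t * s * r) with ⟨x, e⟩ | ⟨y, e⟩
  · rw [← e]
    calc _ = x⁻¹ * (t * t) * x := by group
      _ = 1 := by rw [ht]; group
  · have b1 := a4 y
    rw [e] at b1
    have b2 : s * r * (s * r) = 1 := by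
      calc _ = t * t * s * r * (t * t) * s * r := by rw [ht]; group
        _ = 1 := by rw [← b1]; group
    have b3 : r * s = s * r := by
      rw [← inv_eq_of_mul_eq_one_right b2, _root_.mul_inv_rev, inv_eq_of_mul_eq_one_right hs,
        inv_eq_of_mul_eq_one_right hr]
    rcases a3 s with ⟨x, rfl⟩ | ⟨z, e'⟩
    · rcases hc (x * r * x⁻¹) (by
        calc x * r * x⁻¹ * t = x * (r * (x⁻¹ * t * x)) * x⁻¹ := by group
          _ = _ := by rw [b3]; group) with h | h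
      · exact absurd (by rw [show r = x⁻¹ * (x * r * x⁻¹) * x by group, h]; group) r1
      · rw [show r = x⁻¹ * t * x by rw [← h]; group, mul_assoc t, hs, mul_one, ht]
    · have b4 := a4 z
      rw [e'] at b4
      have b5 : t * s * (t * s) = 1 := by rw [← b4]; group
      rcases hc s (by
        rw [← inv_eq_of_mul_eq_one_right b5, _root_.mul_inv_rev, ti,
          inv_eq_of_mul_eq_one_right hs]) with h | h
      · exact absurd h s1
      · exact absurd (e'.trans (h.trans (by group))) (a2 1 z)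

/-- Powers of a matrix with a double eigenvalue. -/
theorem pow_dbl {w N : Matrix (Fin 3) (Fin 3) F} {μ ν : F} (h1 : w * w = (μ + ν) • w - (μ * ν) • 1 + N)
    (h2 : w * N = μ • N) (k : ℕ) : ((μ - ν) ^ 2 * μ) • w ^ k = ((μ - ν) * μ * (μ ^ k - ν ^ k)) • w +
      ((μ - ν) * μ * (μ * ν ^ k - ν * μ ^ k)) • 1 +
      (k * μ ^ k * (μ - ν) - μ * (μ ^ k - ν ^ k)) • N := by
  induction k with
  | zero => simp only [pow_zero]; module
  | succ k ih =>
    rw [pow_succ' w, ← mul_smul_comm, ih, mul_add, mul_add, mul_smul_comm, mul_smul_comm,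
      mul_smul_comm, h1, h2, mul_one]
    push_cast
    module

theorem hasTv_of_dbl {w : GL (Fin 3) F} {N : Matrix (Fin 3) (Fin 3) F} {μ ν : F}
    (h1 : w.1 * w.1 = (μ + ν) • w.1 - (μ * ν) • 1 + N) (h2 : w.1 * N = μ • N) (h3 : N * N = 0)
    (h0 : N ≠ 0) (hμ : μ ≠ 0) (hd : μ ≠ ν) {k : ℕ} (k1 : μ ^ k = 1) (k2 : ν ^ k = 1)
    (k3 : (k : F) ≠ 0) (hk : w ^ k ∈ H) : HasTv H := by
  have := pow_dbl h1 h2 k
  have d0 := sub_ne_zero.2 hd
  rw [k1, k2] at this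
  have h4 : (w ^ k).1 - 1 = (k / ((μ - ν) * μ)) • N := by
    have h5 : (μ - ν) ^ 2 * μ ≠ 0 := mul_ne_zero (pow_ne_zero _ d0) hμ
    apply smul_right_injective _ h5
    simp only [smul_sub, Units.val_pow_eq_pow_val, this, smul_smul]
    rw [show (μ - ν) ^ 2 * μ * (k / ((μ - ν) * μ)) = k * (μ - ν) by field_simp]
    module
  refine ⟨_, hk, fun e => ?_, by rw [h4, smul_mul_smul_comm, h3, smul_zero]⟩
  rw [e, Units.val_one, sub_self, eq_comm, smul_eq_zero] at h4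
  exact h4.elim (div_ne_zero k3 (mul_ne_zero d0 hμ)) h0

/-- Realised over `F₀` after the change of basis `P`. -/
def RL (F₀ : Subfield F) (P g : GL (Fin 3) F) : Prop := ∀ i j, (cj P⁻¹ g.1) i j ∈ F₀

variable {F₀ : Subfield F} {P g h : GL (Fin 3) F}

theorem RL.mul (h1 : RL F₀ P g) (h2 : RL F₀ P h) : RL F₀ P (g * h) := fun i j => by
  rw [Units.val_mul, map_mul, Matrix.mul_apply]
  exact sum_mem fun k _ => mul_mem (h1 i k) (h2 k j)

theorem RL.trace (h1 : RL F₀ P g) : g.1.trace ∈ F₀ := by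
  rw [← trace_cj P⁻¹]; exact sum_mem fun k _ => h1 k k

theorem rl_of {ζ : F} (h0 : ζ ≠ 0) (h : ∀ i j, ζ * (cj P⁻¹ g.1) i j ∈ F₀) (hζ : ζ ∈ F₀) :
    RL F₀ P g := fun i j => by
  have := mul_mem (inv_mem hζ) (h i j)
  rwa [inv_mul_cancel_left₀ h0] at this

theorem rl_of_trace (h : ∃ ζ : F, ζ ≠ 0 ∧ ∀ i j, ζ * (cj P⁻¹ g.1) i j ∈ F₀)
    (h1 : g.1.trace ∈ F₀) (h2 : g.1.trace ≠ 0) : RL F₀ P g := by
  obtain ⟨ζ, h0, h⟩ := h
  have : ζ * g.1.trace ∈ F₀ := by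
    rw [← trace_cj P⁻¹, Matrix.trace, Finset.mul_sum]; exact sum_mem fun k _ => h k k
  have h3 := mul_mem this (inv_mem h1)
  rw [mul_inv_cancel_right₀ h2] at h3
  exact rl_of h0 h h3

theorem rl_of_unip [Finite F] (h : ∃ ζ : F, ζ ≠ 0 ∧ ∀ i j, ζ * (cj P⁻¹ g.1) i j ∈ F₀)
    (h1 : g.1.trace = 3) (h2 : g.1.det = 1) : RL F₀ P g := by
  by_cases h3 : (3 : F) = 0
  · obtain ⟨ζ, h0, h⟩ := h
    have h4 : ζ ^ 3 ∈ F₀ := by
      have : (ζ • cj P⁻¹ g.1).det = ζ ^ 3 := by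
        rw [det_smul, cj_apply, det_mul, det_mul, h2, mul_one, ← det_mul, ← Units.val_mul,
          mul_inv_cancel]
        simp
      rw [← this, det_fin_three]
      simp only [Matrix.smul_apply, smul_eq_mul]
      refine sub_mem (add_mem (add_mem (sub_mem (sub_mem ?_ ?_) ?_) ?_) ?_) ?_ <;>
        exact mul_mem (mul_mem (h _ _) (h _ _)) (h _ _)
    refine rl_of h0 h ((frobOf_eq_iff F₀ ζ).1 ?_)
    have h5 := (frobOf_eq_iff F₀ _).2 h4
    rw [map_pow] at h5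
    have : (frobOf F₀ ζ - ζ) ^ 3 = 0 := by
      linear_combination h5 + (ζ ^ 2 * frobOf F₀ ζ - ζ * frobOf F₀ ζ ^ 2) * h3
    exact sub_eq_zero.1 (pow_eq_zero_iff three_ne_zero |>.1 this)
  · exact rl_of_trace h (h1 ▸ ofNat_mem F₀ 3) (h1 ▸ h3)

theorem dbl_mem {μ ν : F} (h2 : (2 : F) ≠ 0) (hd : μ ≠ ν) (h3 : μ ^ 2 * ν = 1)
    (h1 : 2 * μ + ν ∈ F₀) (h4 : 2 * μ ^ 2 + ν ^ 2 ∈ F₀) : μ ∈ F₀ := by
  have d0 := sub_ne_zero.2 hd
  have t2 : (2 : F) ∈ F₀ := ofNat_mem F₀ 2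
  have e2 : μ ^ 2 + 2 * μ * ν ∈ F₀ := by
    have := div_mem (sub_mem (mul_mem h1 h1) h4) t2
    convert this using 1
    field_simp; ring
  have := div_mem (sub_mem (mul_mem h1 e2) (ofNat_mem F₀ 9))
    (mul_mem t2 (sub_mem (mul_mem h1 h1) (mul_mem (ofNat_mem F₀ 3) e2)))
  convert this using 1
  rw [show (2 * μ + ν) * (2 * μ + ν) - 3 * (μ ^ 2 + 2 * μ * ν) = (μ - ν) ^ 2 by ring, eq_div_iff
    (mul_ne_zero h2 (pow_ne_zero _ d0))]
  linear_combination (-9) * h3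

theorem not_mem_of_order [Fintype F] {q : ℕ} (hF : Fintype.card F = q ^ 2) (h0 : F₀ ≠ ⊤) {μ : F}
    (hμ : orderOf μ = q + 1) : μ ∉ F₀ := fun h => by
  obtain ⟨F₁, r, h1, hr, hc⟩ := exists_prime_index_subfield F₀ h0
  have h2 : 1 < Nat.card F₁ := Finite.one_lt_card
  have h3 : Nat.card F₁ ≤ q := by
    have : Nat.card F₁ ^ 2 ≤ q ^ 2 := by
      rw [← hF, hc]; exact Nat.pow_le_pow_right (by omega) hr.two_le
    exact (Nat.pow_le_pow_iff_left two_ne_zero).1 this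
  have h4 := (mem_subfield_iff_pow F₁ μ).1 (h1 h)
  have μ0 : μ ≠ 0 := by
    rintro rfl
    have := pow_orderOf_eq_one (0 : F)
    rw [hμ, zero_pow (by omega)] at this
    exact zero_ne_one this
  have h5 : μ ^ (Nat.card F₁ - 1) = 1 := mul_right_cancel₀ μ0 (by
    rw [← pow_succ, Nat.sub_add_cancel h2.le, h4, one_mul])
  have := Nat.le_of_dvd (by omega) (orderOf_dvd_of_pow_eq_one h5)
  omega

theorem exists_order [Fintype F] {q : ℕ} (hF : Fintype.card F = q ^ 2) :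
    ∃ μ : F, orderOf μ = q + 1 := by
  obtain ⟨g, hg⟩ := IsCyclic.exists_ofOrder_eq_natCard (α := N1 (frobq hF))
  exact ⟨g.1.1, by rw [orderOf_units, Subgroup.orderOf_coe, hg, card_N1_frobq]⟩

theorem irr_of {u y : GL (Fin 3) F} (hu : u ∈ G) (hy : y ∈ G) {a b c : F}
    (h : u.1 = !![1, a, b; 0, 1, c; 0, 0, 1]) (ha : a ≠ 0) (hc : c ≠ 0) (h1 : y.1 2 0 ≠ 0) :
    Irr G := fun W hW => by
  have h2 : ∀ x ∈ W, ![a * x 1 + b * x 2, c * x 2, 0] ∈ W := fun x hx => by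
    convert sub_mem (hW u hu x hx) hx using 1
    ext i; fin_cases i <;> simp [h, mulVec, dotProduct, Fin.sum_univ_three, add_assoc]
  have h3 : ∀ r : F, r ≠ 0 → ![r, 0, 0] ∈ W → ∀ s : F, ![s, 0, 0] ∈ W := fun r hr hx s => by
    convert W.smul_mem (s / r) hx using 1
    ext i; fin_cases i <;> simp [hr]
  refine or_iff_not_imp_left.2 fun h0 => ?_
  obtain ⟨x, hx, x0⟩ := W.ne_bot_iff.1 h0
  have h4 : ∀ s : F, ![s, 0, 0] ∈ W := by
    by_cases x2 : x 2 = 0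
    · by_cases x1 : x 1 = 0
      · refine h3 (x 0) (fun e => x0 ?_) ?_
        · ext i; fin_cases i <;> simp [*]
        · convert hx using 1
          ext i; fin_cases i <;> simp [*]
      · exact h3 _ (mul_ne_zero ha x1) (by simpa [x2] using h2 x hx)
    · exact h3 _ (mul_ne_zero ha (mul_ne_zero hc x2)) (by simpa using h2 _ (h2 x hx))
  have h5 := hW y hy _ (h4 1)
  set z := y.1 *ᵥ ![1, 0, 0] with hz
  have z2 : z 2 ≠ 0 := by simpa [hz, mulVec, dotProduct, Fin.sum_univ_three] using h1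
  refine eq_top_iff.2 fun v _ => ?_
  convert add_mem (add_mem (W.smul_mem (v 2 / z 2) h5) (W.smul_mem
    ((v 1 - v 2 / z 2 * z 1) / (c * z 2)) (h2 z h5))) (h4 (v 0 - v 2 / z 2 * z 0 -
      (v 1 - v 2 / z 2 * z 1) / (c * z 2) * (a * z 1 + b * z 2))) using 1
  ext i; fin_cases i <;> simp [vecHead, vecTail] <;> field_simp <;> ring

end Cfsg.Agent.H18.Rg
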