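import Cfsg.Agent.H18.RgA

/-!
Two conjugate regular unipotent generators of `SU₃(q)`.
-/

set_option autoImplicit false

namespace Cfsg.Agent.H18.Rg

open Cfsg.Agent.H12 Cfsg.Agent.H18.Mi Module Cfsg.Geo Matrix

variable {F : Type*} [Field F]

/-- The antidiagonal Gram matrix. -/
def JJ (F : Type*) [Field F] : Matrix (Fin 3) (Fin 3) F := !![0, 0, 1; 0, 1, 0; 1, 0, 0]

/-- `g` is an isometry of the antidiagonal form. -/
def Fx (σ : F →+* F) (g : GL (Fin 3) F) : Prop :=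
  ∀ x y, frm σ (JJ F) (g.1 *ᵥ x) (g.1 *ᵥ y) = frm σ (JJ F) x y

theorem fx_iff {σ : F →+* F} {g : GL (Fin 3) F} : Fx σ g ↔ g.1ᵀ * JJ F * g.1.map σ = JJ F :=
  ⟨fun h => frm_inj fun u v => by rw [← frm_mulVec_mulVec, h],
    fun h x y => by rw [frm_mulVec_mulVec, h]⟩

theorem hform_JJ {σ : F →+* F} (hσ : ∀ x, σ (σ x) = x) : HForm σ 1 (frm σ (JJ F)) :=
  hform_frm hσ (by simp) (by simp [JJ, det_fin_three]) (by
    ext i j; fin_cases i <;> fin_cases j <;> simp [JJ])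

/-- The determinant one isometries. -/
def SJ (σ : F →+* F) : Subgroup (GL (Fin 3) F) where
  carrier := {g | g.1.det = 1 ∧ Fx σ g}
  mul_mem' {a b} ha hb := ⟨by rw [Units.val_mul, det_mul, ha.1, hb.1, mul_one], fun x y => by
    rw [Units.val_mul, ← mulVec_mulVec, ← mulVec_mulVec, ha.2, hb.2]⟩
  one_mem' := ⟨by simp, fun x y => by simp⟩
  inv_mem' {a} ha := ⟨by
    have := congrArg Matrix.det a.inv_mul
    rwa [det_mul, ha.1, mul_one, det_one] at this, fun x y => by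
    rw [← ha.2, mulVec_inv_mulVec, mulVec_inv_mulVec]⟩

/-- The regular unipotent element. -/
def uu (β : F) : GL (Fin 3) F :=
  ⟨!![1, 1, β; 0, 1, -1; 0, 0, 1], !![1, -1, -1 - β; 0, 1, 1; 0, 0, 1], by
    ext i j; fin_cases i <;> fin_cases j <;> simp [Matrix.mul_apply, Fin.sum_univ_three]
    ring, by
    ext i j; fin_cases i <;> fin_cases j <;> simp [Matrix.mul_apply, Fin.sum_univ_three]
    ring⟩

theorem uu_mem {σ : F →+* F} {β : F} (h : β + σ β = -1) : uu β ∈ SJ σ :=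
  ⟨by simp [uu, det_fin_three], fx_iff.2 (by
    ext i j; fin_cases i <;> fin_cases j <;>
      simp [uu, JJ, Matrix.mul_apply, Fin.sum_univ_three]
    linear_combination h)⟩

theorem trace_uu (β : F) : (uu β).1.trace = 3 := by simp [uu, trace_fin_three]; norm_num

/-- The conclusion. -/
def Out (σ : F →+* F) : Prop := ∃ (β : F) (g : GL (Fin 3) F), uu β ∈ SJ σ ∧ g ∈ SJ σ ∧
  SJ σ ≤ Subgroup.closure {uu β, g * uu β * g⁻¹}

theorem cl_le {σ : F →+* F} {u g : GL (Fin 3) F} (hu : u ∈ SJ σ) (hg : g ∈ SJ σ) :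
    Subgroup.closure {u, g * u * g⁻¹} ≤ SJ σ := (Subgroup.closure_le _).2 (by
  rintro _ (rfl | rfl)
  exacts [hu, mul_mem (mul_mem hg hu) (inv_mem hg)])

theorem mem_norm {G : Type*} [Group G] {u g : G} (h : g * g = 1) :
    g ∈ Subgroup.normalizer (Subgroup.closure ({u, g * u * g⁻¹} : Set G) : Set G) := by
  have hg : g⁻¹ = g := inv_eq_of_mul_eq_one_right h
  have : ∀ x ∈ Subgroup.closure ({u, g * u * g⁻¹} : Set G),
      g * x * g⁻¹ ∈ Subgroup.closure ({u, g * u * g⁻¹} : Set G) := fun x hx => by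
    induction hx using Subgroup.closure_induction with
    | mem x hx =>
      rcases hx with rfl | rfl
      · exact Subgroup.subset_closure (by simp)
      · rw [show g * (g * u * g⁻¹) * g⁻¹ = g * g * u * (g * g)⁻¹ by group, h]
        exact Subgroup.subset_closure (by simp)
    | one => simp
    | mul x y _ _ hx hy =>
      rw [show g * (x * y) * g⁻¹ = g * x * g⁻¹ * (g * y * g⁻¹) by group]; exact mul_mem hx hy
    | inv x _ hx => rw [show g * x⁻¹ * g⁻¹ = (g * x * g⁻¹)⁻¹ by group]; exact inv_mem hx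
  refine Subgroup.mem_normalizer_iff.2 fun x => ⟨this x, fun hx => ?_⟩
  have := this _ hx
  rwa [show g * (g * x * g⁻¹) * g⁻¹ = g * g * x * (g * g)⁻¹ by group, h, one_mul, inv_one,
    mul_one] at this

variable [Fintype F] {q : ℕ}

theorem main' (hF : Fintype.card F = q ^ 2) {H : Subgroup (GL (Fin 3) F)} (hH : H ≤ SJ (frobq hF))
    {β : F} (hu : uu β ∈ H) {y : GL (Fin 3) F} (hy : y ∈ Subgroup.normalizer (H : Set _))
    (h1 : y.1 2 0 ≠ 0) (h2 : y.1.trace = -1 ∨ (y.1.trace = 3 ∧ y.1.det = 1)) (ht : HasTv H)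
    (hbig : (2 : F) = 0 → ¬ ∀ a α, TR (LM H) a α → a ≠ 0 → α ≠ 0 →
      ∀ x : F, TR (LM H) a (x • α) → x = 0 ∨ x = 1)
    (hsub : ∀ F₀ : Subfield F, F₀ ≠ ⊤ → (uu β * y).1.trace ∈ F₀ →
      (uu β * y * (uu β * y)).1.trace ∈ F₀ → False) : SJ (frobq hF) ≤ H := fun g hg =>
  gen_main hF (hform_JJ (frobq_frobq hF)) (G := Subgroup.normalizer (H : Set _))
    (fun h hh => (hH hh).2) (fun g hg h hh => (Subgroup.mem_normalizer_iff.1 hg h).1 hh)
    (irr_of (Subgroup.le_normalizer hu) hy rfl one_ne_zero (by simp) h1) ht hbig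
    (fun F₀ h0 P hP => by
      have a1 := rl_of_unip (hP _ (Subgroup.le_normalizer hu)) (trace_uu β) (hH hu).1
      have a2 : RL F₀ P y := h2.elim
        (fun e => rl_of_trace (hP _ hy) (e ▸ neg_mem (one_mem _)) (e ▸ by simp))
        fun e => rl_of_unip (hP _ hy) e.1 e.2
      exact hsub F₀ h0 (a1.mul a2).trace ((a1.mul a2).mul (a1.mul a2)).trace)
    g (Units.ext hg.1) hg.2

omit [Fintype F] in
theorem hasTv' {H : Subgroup (GL (Fin 3) F)} {w : GL (Fin 3) F} {μ ν : F}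
    (c1 : w.1.trace = 2 * μ + ν) (c2 : w.1.adjugate.trace = μ ^ 2 + 2 * μ * ν)
    (c3 : w.1.det = μ ^ 2 * ν)
    (h0 : (w.1 * w.1) 2 1 ≠ (μ + ν) * w.1 2 1) (hμ : μ ≠ 0) (hd : μ ≠ ν) {k : ℕ} (k1 : μ ^ k = 1)
    (k2 : ν ^ k = 1) (k3 : (k : F) ≠ 0) (hk : w ^ k ∈ H) : HasTv H := by
  have h1 : ∀ g : Matrix (Fin 3) (Fin 3) F,
      g * (g * g) = g.trace • (g * g) - g.adjugate.trace • g + g.det • 1 := fun g => by
    ext i j
    fin_cases i <;> fin_cases j <;> simp [Matrix.mul_apply, Fin.sum_univ_three, trace_fin_three,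
      adjugate_fin_three, det_fin_three, Matrix.one_apply] <;> ring
  have h2 : w.1 * (w.1 * w.1 - (μ + ν) • w.1 + (μ * ν) • 1) =
      μ • (w.1 * w.1 - (μ + ν) • w.1 + (μ * ν) • 1) := by
    rw [mul_add, mul_sub, h1, c1, c2, c3, mul_smul_comm, mul_smul_comm, mul_one]
    module
  refine hasTv_of_dbl (by abel) h2 ?_ (fun e => h0 ?_) hμ hd k1 k2 k3 hk
  · generalize hN : w.1 * w.1 - (μ + ν) • w.1 + (μ * ν) • 1 = N at h2
    nth_rewrite 1 [← hN]
    rw [add_mul, sub_mul, mul_assoc, smul_mul_assoc, smul_mul_assoc, h2, mul_smul_comm, h2, one_mul]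
    module
  · have := congrFun (congrFun e 2) 1
    simpa [sub_eq_zero] using this

theorem cast_q (hF : Fintype.card F = q ^ 2) : (q : F) = 0 := by
  have := FiniteField.cast_card_eq_zero F
  rw [hF, Nat.cast_pow] at this
  exact pow_eq_zero_iff two_ne_zero |>.1 this

theorem out_odd (hF : Fintype.card F = q ^ 2) (hq : 4 ≤ q) (h2 : (2 : F) ≠ 0) :
    Out (frobq hF) := by
  obtain ⟨μ, hμ⟩ := exists_order hF
  have o1 : ∀ k, 0 < k → k ≤ 4 → μ ^ k ≠ 1 := fun k h0 h4 e => by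
    have := Nat.le_of_dvd h0 (orderOf_dvd_of_pow_eq_one e); omega
  have o2 : μ ^ (q + 1) = 1 := hμ ▸ pow_orderOf_eq_one μ
  obtain ⟨ρ, hρ⟩ : ∃ ρ, frobq hF μ = ρ := ⟨_, rfl⟩
  have hρ' : frobq hF ρ = μ := hρ ▸ frobq_frobq hF μ
  have e1 : μ * ρ = 1 := by rw [← hρ, frobq_apply, ← pow_succ', o2]
  have μ0 : μ ≠ 0 := left_ne_zero_of_mul_eq_one e1
  obtain ⟨n, hn⟩ : ∃ n, n = -((μ + ρ) * (μ + ρ + 2)) := ⟨_, rfl⟩
  have n0 : n ≠ 0 := by
    rw [hn, neg_ne_zero]
    refine mul_ne_zero (fun e => o1 4 (by omega) le_rfl ?_) fun e => o1 2 (by omega) (by omega) ?_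
    · linear_combination (μ ^ 3 - μ) * e + (1 - μ ^ 2) * e1
    · have : (μ + 1) ^ 2 = 0 := by linear_combination μ * e - e1
      have := pow_eq_zero_iff two_ne_zero |>.1 this
      linear_combination (μ - 1) * this
  have hn' : frobq hF n = n := by simp [hn, hρ, hρ', map_ofNat, add_comm]
  obtain ⟨m, e2⟩ : ∃ m, m * n = 1 := ⟨n⁻¹, inv_mul_cancel₀ n0⟩
  have hm : frobq hF m = m := mul_right_cancel₀ n0 (by
    rw [e2, ← hn', ← map_mul, e2, map_one])
  have hd : μ ≠ ρ ^ 2 := fun e => o1 3 (by omega) (by omega) (by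
    linear_combination μ ^ 2 * e + (μ * ρ + 1) * e1)
  have gg : !![0, 0, m; 0, -1, 0; n, 0, 0] * !![0, 0, m; 0, -1, 0; n, 0, (0 : F)] = 1 := by
    ext i j; fin_cases i <;> fin_cases j <;>
      simp [Matrix.mul_apply, Fin.sum_univ_three, e2, mul_comm n m]
  let g : GL (Fin 3) F := ⟨_, _, gg, gg⟩
  have g2 : g * g = 1 := Units.ext gg
  have hu : uu (m * (1 + 2 * μ + ρ ^ 2)) ∈ SJ (frobq hF) := uu_mem (by
    simp only [map_mul, map_add, map_pow, map_one, map_ofNat, hm, hρ, hρ']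
    linear_combination m * hn - e2 - 2 * m * e1)
  have hg : g ∈ SJ (frobq hF) := ⟨by simp [g, det_fin_three, e2], fx_iff.2 (by
    ext i j; fin_cases i <;> fin_cases j <;>
      simp [g, JJ, Matrix.mul_apply, Fin.sum_univ_three, hm, hn', e2, mul_comm n m])⟩
  have hw : (uu (m * (1 + 2 * μ + ρ ^ 2)) * g).1 =
      !![1 + 2 * μ + ρ ^ 2, -1, m; -n, -1, 0; n, 0, 0] := by
    ext i j; fin_cases i <;> fin_cases j <;>
      simp [g, uu, Matrix.mul_apply, Fin.sum_univ_three]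
    linear_combination (1 + 2 * μ + ρ ^ 2) * e2
  have c1 : (uu (m * (1 + 2 * μ + ρ ^ 2)) * g).1.trace = 2 * μ + ρ ^ 2 := by
    rw [hw]; simp [trace_fin_three]; ring
  have c3 : μ ^ 2 * ρ ^ 2 = 1 := by linear_combination (μ * ρ + 1) * e1
  refine ⟨_, g, hu, hg, main' hF (cl_le hu hg) (Subgroup.subset_closure (Set.mem_insert _ _)) (mem_norm g2)
    n0 (Or.inl (by simp [g, trace_fin_three])) (hasTv' (w := uu (m * (1 + 2 * μ + ρ ^ 2)) * g) (μ := μ)
      (ν := ρ ^ 2)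
      (k := 2 * (q + 1)) c1 ?_ ?_ ?_ μ0 hd (by rw [mul_comm, pow_mul, o2, one_pow]) ?_
      (by simp [cast_q hF, h2]) ?_) (fun h => absurd h h2) fun F₀ h0 a1 a2 =>
        not_mem_of_order hF h0 hμ (dbl_mem h2 hd (ν := ρ ^ 2) c3 (c1 ▸ a1) ?_)⟩
  · rw [hw]; simp [trace_fin_three, adjugate_fin_three]
    linear_combination -hn - e2 + (2 - 2 * ρ) * e1
  · rw [c3]; exact (mul_mem hu hg).1
  · rw [hw]; simpa [Matrix.mul_apply, Fin.sum_univ_three] using n0
  · rw [← hρ, ← map_pow, ← map_pow, ← pow_mul, ← mul_assoc, mul_comm, pow_mul, o2, one_pow, map_one]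
  · rw [pow_mul]
    refine pow_mem ?_ _
    rw [show (uu (m * (1 + 2 * μ + ρ ^ 2)) * g) ^ 2 = uu (m * (1 + 2 * μ + ρ ^ 2)) *
      (g * uu (m * (1 + 2 * μ + ρ ^ 2)) * g⁻¹) by
        rw [inv_eq_of_mul_eq_one_right g2, sq]; group]
    exact mul_mem (Subgroup.subset_closure (by simp)) (Subgroup.subset_closure (by simp))
  · convert a2 using 1
    rw [Units.val_mul, hw]; simp [trace_fin_three, Matrix.mul_apply, Fin.sum_univ_three]
    clear * - hn e1 e2; grind

theorem out_three (hF : Fintype.card F = 3 ^ 2) : Out (frobq hF) := by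
  obtain ⟨μ, hμ⟩ := exists_order hF
  have h3 : (3 : F) = 0 := by exact_mod_cast cast_q hF
  have h2 : (2 : F) ≠ 0 := fun e => one_ne_zero (by linear_combination h3 - e : (1 : F) = 0)
  have o2 : μ ^ 4 = 1 := by rw [← pow_orderOf_eq_one μ, hμ]
  have e1 : μ ^ 2 = -1 := by
    refine (sq_eq_one_iff.1 (by rw [← pow_mul]; exact o2)).resolve_left fun e => ?_
    have := Nat.le_of_dvd (by omega) (orderOf_dvd_of_pow_eq_one e); omega
  have μ0 : μ ≠ 0 := fun e => one_ne_zero (by rw [← o2, e]; simp : (1 : F) = 0)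
  have hρ : frobq hF μ = -μ := by rw [frobq_apply]; linear_combination μ * e1
  let g : GL (Fin 3) F := ⟨!![0, 0, 1 - μ; 0, -μ, 0; μ - 1, 0, 0],
    !![0, 0, 1 + μ; 0, μ, 0; -μ - 1, 0, 0], by
      ext i j; fin_cases i <;> fin_cases j <;>
        simp [Matrix.mul_apply, Fin.sum_univ_three] <;> (clear * - e1 h3 μ0; grind), by
      ext i j; fin_cases i <;> fin_cases j <;>
        simp [Matrix.mul_apply, Fin.sum_univ_three] <;> (clear * - e1 h3 μ0; grind)⟩
  have hu : uu (1 - μ) ∈ SJ (frobq hF) := uu_mem (by simp [hρ]; (clear * - e1 h3 μ0; grind))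
  have hg : g ∈ SJ (frobq hF) := ⟨by simp [g, det_fin_three]; (clear * - e1 h3 μ0; grind), fx_iff.2 (by
    ext i j; fin_cases i <;> fin_cases j <;>
      simp [g, JJ, Matrix.mul_apply, Fin.sum_univ_three, hρ] <;> (clear * - e1 h3 μ0; grind))⟩
  have hv : (g * uu (1 - μ) * g⁻¹).1 = !![1, 0, 0; 1 - μ, 1, 0; μ - 1, -1 - μ, 1] := by
    ext i j; fin_cases i <;> fin_cases j <;>
      simp [g, uu, Matrix.mul_apply, Fin.sum_univ_three, -Matrix.coe_units_inv] <;> (clear * - e1 h3 μ0; grind)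
  have hw : (uu (1 - μ) * (g * uu (1 - μ) * g⁻¹)).1 =
      !![μ - 1, -1, 1 - μ; μ - 1, μ - 1, -1; μ - 1, -1 - μ, 1] := by
    rw [Units.val_mul, hv]
    ext i j; fin_cases i <;> fin_cases j <;>
      simp [uu, Matrix.mul_apply, Fin.sum_univ_three] <;> (clear * - e1 h3 μ0; grind)
  have c1 : (uu (1 - μ) * (g * uu (1 - μ) * g⁻¹)).1.trace = 2 * μ + -1 := by
    rw [hw]; simp [trace_fin_three]; ring
  have hd : μ ≠ -1 := fun e => h2 (by rw [e] at e1; linear_combination e1)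
  have m1 : uu (1 - μ) ∈ Subgroup.closure {uu (1 - μ), g * uu (1 - μ) * g⁻¹} :=
    Subgroup.subset_closure (by simp)
  have m2 : g * uu (1 - μ) * g⁻¹ ∈ Subgroup.closure {uu (1 - μ), g * uu (1 - μ) * g⁻¹} :=
    Subgroup.subset_closure (by simp)
  refine ⟨_, g, hu, hg, main' hF (cl_le hu hg) m1 (Subgroup.le_normalizer m2) ?_
    (Or.inr ⟨?_, (cl_le hu hg m2).1⟩) (hasTv' (w := uu (1 - μ) * (g * uu (1 - μ) * g⁻¹)) (μ := μ)
      (ν := -1) (k := 4) c1 ?_ ?_ ?_ μ0 hd o2 (by norm_num) (fun e => one_ne_zero (by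
        linear_combination (by exact_mod_cast e : (4 : F) = 0) - h3 : (1 : F) = 0))
      (pow_mem (mul_mem m1 m2) _)) (fun h => absurd h h2) fun F₀ h0 a1 a2 =>
        not_mem_of_order hF h0 hμ (dbl_mem h2 hd (by linear_combination -e1) (c1 ▸ a1) ?_)⟩
  · rw [hv]; intro e; simp at e; (clear * - e e1 h3 μ0; grind)
  · rw [hv]; simp [trace_fin_three]; norm_num
  · rw [hw]; simp [trace_fin_three, adjugate_fin_three]; (clear * - e1 h3 μ0; grind)
  · rw [(cl_le hu hg (mul_mem m1 m2)).1]; linear_combination e1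
  · rw [hw]; simp [Matrix.mul_apply, Fin.sum_univ_three]; (clear * - e1 h3 μ0; grind)
  · convert a2 using 1
    rw [Units.val_mul, hw]; simp [trace_fin_three, Matrix.mul_apply, Fin.sum_univ_three]; (clear * - e1 h3 μ0; grind)

omit [Fintype F] in
theorem trace_three (A B : Matrix (Fin 3) (Fin 3) F) :
    ((1 + single 0 2 1) * (1 + A * single 0 2 1 * B) * (1 + B * single 0 2 1 * A)).trace =
      3 + (B * A) 2 0 + (A * B) 2 0 + 2 * A 2 0 * B 2 0 + (A * A) 2 0 * (B * B) 2 0 +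
        A 2 0 ^ 2 * (B * B) 2 0 := by
  simp [trace_fin_three, Matrix.mul_apply, Fin.sum_univ_three, Matrix.one_apply, single]
  ring

omit [Fintype F] in
theorem trace_of_sq (h2 : (2 : F) = 0) {X : Matrix (Fin 3) (Fin 3) F} (h : X * X = 1) :
    X.trace = 3 := by
  have h1 : IsNilpotent (X - 1) := ⟨2, by
    rw [sq, sub_mul, mul_sub, mul_sub, h, Matrix.mul_one, Matrix.one_mul, Matrix.one_mul,
      show 1 - X - (X - 1) = (2 : F) • (1 - X) by module, h2, zero_smul]⟩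
  have := (Matrix.isNilpotent_trace_of_isNilpotent h1).eq_zero
  rw [trace_sub, sub_eq_zero] at this
  simpa using this

theorem out_even (hF : Fintype.card F = q ^ 2) (hq : 3 ≤ q) (h2 : (2 : F) = 0) :
    Out (frobq hF) := by
  obtain ⟨ν, hν⟩ := exists_order hF
  have o1 : ∀ k, 0 < k → k ≤ 3 → ν ^ k ≠ 1 := fun k h0 h4 e => by
    have := Nat.le_of_dvd h0 (orderOf_dvd_of_pow_eq_one e); omega
  have o2 : ν ^ (q + 1) = 1 := hν ▸ pow_orderOf_eq_one ν
  obtain ⟨ρ, hρ⟩ : ∃ ρ, frobq hF ν = ρ := ⟨_, rfl⟩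
  have hρ' : frobq hF ρ = ν := hρ ▸ frobq_frobq hF ν
  have e1 : ν * ρ = 1 := by rw [← hρ, frobq_apply, ← pow_succ', o2]
  have n1 : 1 + ν ≠ 0 := fun e => o1 1 (by omega) (by omega) (by linear_combination e - h2)
  have n3 : ν + ρ ^ 2 ≠ 0 := fun e => o1 3 (by omega) (by omega) (by clear * - e e1 h2; grind)
  obtain ⟨y, e2⟩ : ∃ y, y * (1 + ν) = 1 := ⟨_, inv_mul_cancel₀ n1⟩
  have hy : frobq hF y = ν * y := by
    have := congrArg (frobq hF) e2
    rw [map_mul, map_add, map_one, hρ] at this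
    clear * - this e1 e2 h2; grind
  obtain ⟨ε, hε⟩ : ∃ ε, ε = ν + ρ := ⟨_, rfl⟩
  have hε' : frobq hF ε = ε := by rw [hε, map_add, hρ, hρ', add_comm]
  have ε0 : ε ≠ 0 := fun e => n1 (by
    have : (1 + ν) ^ 2 = 0 := by clear * - e e1 h2 hε; grind
    exact pow_eq_zero_iff two_ne_zero |>.1 this)
  have gg : !![1, 0, 0; 0, 1, 0; ε, 0, 1] * !![1, 0, 0; 0, 1, 0; ε, 0, (1 : F)] = 1 := by
    ext i j; fin_cases i <;> fin_cases j <;> simp [Matrix.mul_apply, Fin.sum_univ_three]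
    linear_combination ε * h2
  let g : GL (Fin 3) F := ⟨_, _, gg, gg⟩
  have g2 : g * g = 1 := Units.ext gg
  have hu : uu (ν * y) ∈ SJ (frobq hF) := uu_mem (by rw [map_mul, hρ, hy]; (clear * - e1 e2 h2 hε; grind))
  have hg : g ∈ SJ (frobq hF) := ⟨by simp [g, det_fin_three], fx_iff.2 (by
    ext i j; fin_cases i <;> fin_cases j <;>
      simp [g, JJ, Matrix.mul_apply, Fin.sum_univ_three, hε']
    linear_combination ε * h2)⟩
  set H := Subgroup.closure {uu (ν * y), g * uu (ν * y) * g⁻¹} with hH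
  have m1 : uu (ν * y) ∈ H := Subgroup.subset_closure (by simp)
  have m2 : g * uu (ν * y) * g⁻¹ ∈ H := Subgroup.subset_closure (by simp)
  have ht : (uu (ν * y) * uu (ν * y)).1 = 1 + single 0 2 1 := by
    ext i j; fin_cases i <;> fin_cases j <;>
      simp [uu, Matrix.mul_apply, Fin.sum_univ_three, single, Matrix.one_apply] <;> (clear * - e1 e2 h2 hε; grind)
  have t1 : uu (ν * y) * uu (ν * y) ≠ 1 := fun e => by
    have := congrFun (congrFun (ht.symm.trans (congrArg Units.val e)) 0) 2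
    simp at this
  have hw : (uu (ν * y) * g).1 = !![ν, 1, ν * y; ε, 1, 1; ε, 0, 1] := by
    ext i j; fin_cases i <;> fin_cases j <;>
      simp [g, uu, Matrix.mul_apply, Fin.sum_univ_three] <;> (clear * - e1 e2 h2 hε; grind)
  have hw' : (uu (ν * y) * g)⁻¹.1 = !![1, 1, y; 0, 1, 1; ε, ε, ρ] := by
    rw [_root_.mul_inv_rev]
    ext i j; fin_cases i <;> fin_cases j <;>
      simp [g, uu, Matrix.mul_apply, Fin.sum_univ_three, -Matrix.coe_units_inv] <;> (clear * - e1 e2 h2 hε; grind)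
  refine ⟨_, g, hu, hg, main' hF (cl_le hu hg) m1 (mem_norm g2) ε0 (Or.inl ?_)
    ⟨_, mul_mem m1 m1, t1, by rw [ht, add_sub_cancel_left, single_mul_single_of_ne]; simp⟩
    (fun _ hs => ?_) fun F₀ h0 a1 _ => not_mem_of_order hF h0 hν ?_⟩
  · simp [g, trace_fin_three]; (clear * - e1 e2 h2 hε; grind)
  swap
  · convert a1 using 1
    rw [hw]; simp [trace_fin_three]; (clear * - e1 e2 h2 hε; grind)
  obtain ⟨t, htd⟩ : ∃ t, uu (ν * y) * uu (ν * y) = t := ⟨_, rfl⟩
  obtain ⟨h, hh⟩ : ∃ h, uu (ν * y) * g * (uu (ν * y) * g) = h := ⟨_, rfl⟩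
  have tH : t ∈ H := htd ▸ mul_mem m1 m1
  have hH' : h ∈ H := by
    rw [← hh, show uu (ν * y) * g * (uu (ν * y) * g) = uu (ν * y) * (g * uu (ν * y) * g⁻¹) by
      rw [inv_eq_of_mul_eq_one_right g2]; group]
    exact mul_mem m1 m2
  rw [htd] at ht t1
  have hA : h.1 = !![ν, 1, ν * y; ε, 1, 1; ε, 0, 1] * !![ν, 1, ν * y; ε, 1, 1; ε, 0, 1] := by
    rw [← hh, Units.val_mul, hw]
  have hB : h⁻¹.1 = !![1, 1, y; 0, 1, 1; ε, ε, ρ] * !![1, 1, y; 0, 1, 1; ε, ε, ρ] := by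
    rw [← hh, _root_.mul_inv_rev, Units.val_mul, hw']
  let D : Subgroup (GL (Fin 3) F) :=
    { carrier := {d | d ∈ H ∧ d.1 *ᵥ ![y, 1, 0] = ![y, 1, 0]}
      mul_mem' := fun {a b} ha hb => ⟨mul_mem ha.1 hb.1, by
        rw [Units.val_mul, ← mulVec_mulVec, hb.2, ha.2]⟩
      one_mem' := ⟨one_mem _, by simp⟩
      inv_mem' := fun {a} ha => ⟨inv_mem ha.1, by
        nth_rewrite 1 [← ha.2]; rw [inv_mulVec_mulVec]⟩ }
  have tc : t.1 *ᵥ ![y, 1, 0] = ![y, 1, 0] := by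
    rw [ht]; ext i; fin_cases i <;> simp [add_mulVec, mulVec, dotProduct, Fin.sum_univ_three, single]
  have hc : h.1 *ᵥ ![y, 1, 0] = ρ • ![y, 1, 0] := by
    rw [hA]; ext i; fin_cases i <;>
      simp [mulVec, dotProduct, Fin.sum_univ_three, Matrix.mul_apply] <;> (clear * - e1 e2 h2 hε; grind)
  have hc' : h⁻¹.1 *ᵥ ![y, 1, 0] = ν • ![y, 1, 0] := by
    rw [hB]; ext i; fin_cases i <;>
      simp [mulVec, dotProduct, Fin.sum_univ_three, Matrix.mul_apply] <;> (clear * - e1 e2 h2 hε; grind)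
  have tt : t * t = 1 := Units.ext (by
    rw [Units.val_mul, ht, add_mul, mul_add, mul_add, single_mul_single_of_ne _ _ _ _ (by simp)]
    simp only [Matrix.mul_one, Matrix.one_mul, add_zero, add_assoc, Units.val_one]
    rw [← two_smul F, h2, zero_smul, add_zero])
  have key := three_inv (D := D) (t := ⟨t, tH, tc⟩)
    (s := ⟨h * t * h⁻¹, mul_mem (mul_mem hH' tH) (inv_mem hH'), by
      rw [Units.val_mul, Units.val_mul, ← mulVec_mulVec, ← mulVec_mulVec, hc', mulVec_smul, tc,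
        mulVec_smul, hc, smul_smul, e1, one_smul]⟩)
    (r := ⟨h⁻¹ * t * h, mul_mem (mul_mem (inv_mem hH') tH) hH', by
      rw [Units.val_mul, Units.val_mul, ← mulVec_mulVec, ← mulVec_mulVec, hc, mulVec_smul, tc,
        mulVec_smul, hc', smul_smul, mul_comm, e1, one_smul]⟩)
    (fun e => t1 (congrArg Subtype.val e)) (Subtype.ext tt) ?_
    (Subtype.ext (show h * t * h⁻¹ * (h * t * h⁻¹) = 1 by
      rw [show h * t * h⁻¹ * (h * t * h⁻¹) = h * (t * t) * h⁻¹ by group, tt]; group))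
    (Subtype.ext (show h⁻¹ * t * h * (h⁻¹ * t * h) = 1 by
      rw [show h⁻¹ * t * h * (h⁻¹ * t * h) = h⁻¹ * (t * t) * h by group, tt]; group))
    (fun e => t1 (by
      rw [show t = h⁻¹ * (h * t * h⁻¹) * h by group, show h * t * h⁻¹ = 1 from
        congrArg Subtype.val e]; group))
    (fun e => t1 (by
      rw [show t = h * (h⁻¹ * t * h) * h⁻¹ by group, show h⁻¹ * t * h = 1 from
        congrArg Subtype.val e]; group))
  · have k1 := trace_of_sq h2 (X := (t * (h * t * h⁻¹) * (h⁻¹ * t * h)).1)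
      (congrArg (fun x : D => x.1.1) key)
    simp only [Units.val_mul] at k1
    rw [show h.1 * t.1 * h⁻¹.1 = 1 + h.1 * single 0 2 1 * h⁻¹.1 by
      rw [ht, mul_add, add_mul, Matrix.mul_one, Units.mul_inv],
      show h⁻¹.1 * t.1 * h.1 = 1 + h⁻¹.1 * single 0 2 1 * h.1 by
      rw [ht, mul_add, add_mul, Matrix.mul_one, Units.inv_mul], ht, trace_three, Units.mul_inv,
      Units.inv_mul] at k1
    have k2 : h.1 2 0 = ε * (1 + ν) := by
      rw [hA]; simp [Fin.sum_univ_three, Matrix.mul_apply]; (clear * - e1 e2 h2 hε; grind)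
    have k3 : (h.1 * h.1) 2 0 = (ρ + ν ^ 2) * (ε * (1 + ν)) := by
      rw [hA]; simp [Fin.sum_univ_three, Matrix.mul_apply]; (clear * - e1 e2 h2 hε; grind)
    have k4 : (h⁻¹.1 * h⁻¹.1) 2 0 = (ν + ρ ^ 2) * (ε * ρ * (1 + ν)) := by
      rw [hB]; simp [Fin.sum_univ_three, Matrix.mul_apply]; (clear * - e1 e2 h2 hε; grind)
    rw [k2, k3, k4, h2] at k1
    have k5 : (ν + ρ ^ 2) * (ε * ρ * (1 + ν)) * (ε * (1 + ν)) * (1 + ν) = 0 := by
      simp only [Matrix.one_apply] at k1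
      clear * - e1 e2 h2 hε k1; grind
    simp [n1, n3, ε0, right_ne_zero_of_mul_eq_one e1] at k5
  · rintro ⟨d, dH, dc⟩ e
    have a1 : d.1 * single 0 2 1 = single 0 2 1 * d.1 := by
      have := congrArg (fun x : D => x.1.1) e
      simp only [Subgroup.coe_mul, Units.val_mul, ht, mul_add, add_mul, Matrix.mul_one,
        Matrix.one_mul] at this
      exact add_left_cancel this
    have b1 := congrFun (congrFun a1 0) 0
    have b2 := congrFun (congrFun a1 0) 1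
    have b3 := congrFun (congrFun a1 0) 2
    have b4 := congrFun (congrFun a1 1) 2
    have b5 := congrFun dc 0
    have b6 := congrFun dc 1
    have b7 := (cl_le hu hg dH).1
    have b8 := congrFun (congrFun (fx_iff.1 (cl_le hu hg dH).2) 2) 1
    simp [Matrix.mul_apply, Fin.sum_univ_three, single, mulVec, dotProduct, det_fin_three,
      JJ] at b1 b2 b3 b4 b5 b6 b7 b8
    have c1 : d.1 1 1 = 1 := by (clear * - h2 b1 b2 b3 b4 b5 b6 b7; grind)
    have c2 : d.1 0 0 = 1 := by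
      have : (d.1 0 0 - 1) ^ 2 = 0 := by (clear * - h2 b1 b2 b3 b4 b5 b6 b7; grind)
      exact sub_eq_zero.1 (pow_eq_zero_iff two_ne_zero |>.1 this)
    have c3 : d.1 0 1 = 0 := by (clear * - h2 b1 b2 b3 b4 b5 b6 b7; grind)
    have c4 : d.1 1 2 = 0 := by simpa [c1, c3, ← b2] using b8
    have c5 : d.1 = 1 + d.1 0 2 • single 0 2 1 := by
      ext i j; fin_cases i <;> fin_cases j <;> simp [single, Matrix.one_apply, *] <;> (clear * - h2 b1 b2 b3 b4 b5 b6 b7; grind)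
    have c6 : ∀ (x : GL (Fin 3) F) (c : F), x ∈ H → x.1 = 1 + c • single 0 2 1 →
        TR (LM H) ![1, 0, 0] (c • LinearMap.proj 2) := fun x c hx hx' =>
      ⟨by simp, _, mem_LM.2 hx, fun v => by
        rw [glEq_apply, hx']
        ext i; fin_cases i <;>
          simp [add_mulVec, smul_mulVec, mulVec, dotProduct, Fin.sum_univ_three, single]⟩
    have c7 := c6 t 1 tH (by rw [ht, one_smul])
    rw [one_smul] at c7
    rcases hs _ _ c7 (by simp) (fun e => by
      simpa using LinearMap.congr_fun e ![0, 0, 1]) _ (c6 d _ dH c5) with c8 | c8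
    · exact Or.inl (Subtype.ext (Units.ext (by rw [c5, c8]; simp)))
    · exact Or.inr (Subtype.ext (Units.ext (by rw [c5, c8, ht]; simp)))

theorem out_all (hF : Fintype.card F = q ^ 2) (hq : 3 ≤ q) : Out (frobq hF) := by
  by_cases h2 : (2 : F) = 0
  · exact out_even hF hq h2
  by_cases h3 : q = 3
  · subst h3; exact out_three hF
  · exact out_odd hF (by omega) h2

end Cfsg.Agent.H18.Rg
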