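import Cfsg.Agent.H18.SLMax

/-! Arithmetic of the minimal field condition. -/

set_option autoImplicit false
set_option synthInstance.maxSize 4096

namespace Cfsg.Agent.H18

open Cfsg.Geo

variable {ι : Type} [Fintype ι] [DecidableEq ι] {F : Type*} [Field F] [Fintype F]

lemma dvd_pow_sub_one_iff {z p d : ℕ} (hz : 1 < z) (hp : 0 < p) :
    z ∣ p ^ d - 1 ↔ (p % z) ^ d % z = 1 := by
  rw [← Nat.modEq_iff_dvd' (Nat.one_le_pow _ _ hp), Nat.ModEq, Nat.mod_eq_of_lt hz, Nat.pow_mod,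
    eq_comm]

lemma minimal_mod {z p e : ℕ} (h : IsMinimalFieldFor z p e F) (hz : z.Prime) :
    0 < e ∧ e < z ∧ (p % z) ^ e % z = 1 ∧ ∀ d < e, 0 < d → (p % z) ^ d % z ≠ 1 := by
  obtain ⟨hp, -, h1, h2, h3⟩ := h
  have he : 0 < e := by
    rcases e with _ | e
    · have := two_le_card (F := F); simp at h1; omega
    · omega
  refine ⟨he, ?_, (dvd_pow_sub_one_iff hz.one_lt hp.pos).mp h2, fun d hd hd0 h4 =>
    h3 d hd0 hd ((dvd_pow_sub_one_iff hz.one_lt hp.pos).mpr h4)⟩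
  by_contra h4
  have h5 := hz.two_le
  apply h3 (z - 1) (by omega) (by omega)
  rw [← Nat.modEq_iff_dvd' (Nat.one_le_pow _ _ hp.pos), ← Nat.totient_prime hz]
  exact (Nat.ModEq.pow_totient ((Nat.coprime_primes hp hz).mpr
    (ne_of_dvd_pow_sub_one hz he h2).symm)).symm

lemma eq_of_prime_pow {r s m k : ℕ} (hr : r.Prime) (hs : s.Prime) (hk : 0 < k)
    (h : s ^ k = r ^ m) : r = s :=
  ((Nat.prime_dvd_prime_iff_eq hs hr).mp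
    (hs.dvd_of_dvd_pow (h ▸ dvd_pow_self s hk.ne'))).symm

lemma not_prime_pow {r m n s s' : ℕ} (hr : r.Prime) (hs : s.Prime) (hs' : s'.Prime) (hne : s ≠ s')
    (h1 : s ∣ n) (h2 : s' ∣ n) : n ≠ r ^ m := by
  rintro rfl
  exact hne (((Nat.prime_dvd_prime_iff_eq hs hr).mp (hs.dvd_of_dvd_pow h1)).trans
    ((Nat.prime_dvd_prime_iff_eq hs' hr).mp (hs'.dvd_of_dvd_pow h2)).symm)

lemma linData_odd {r : ℕ} {R : Subgroup (GL ι F)} (h : IsLinearSymplecticTypeData r R)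
    (hr : r ≠ 2) : ∃ p e : ℕ, p.Prime ∧ CharP F p ∧ Fintype.card F = p ^ e ∧ e % 2 = 1 ∧
      0 < e ∧ e < r ∧ (p % r) ^ e % r = 1 ∧ ∀ d < e, 0 < d → (p % r) ^ d % r ≠ 1 := by
  obtain ⟨p, e, -, h1, ⟨-, h2, h3, -⟩ | ⟨h2, -⟩ | ⟨h2, -⟩⟩ := h.field
  · rw [h3] at h1
    exact ⟨p, e, h1.1, h1.2.1, h1.2.2.1, Nat.odd_iff.mp h2, minimal_mod h1 h.symplecticType.prime⟩
  · exact absurd h2 hr
  · exact absurd h2 hr

lemma linData_two {R : Subgroup (GL ι F)} (h : IsLinearSymplecticTypeData 2 R)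
    (hn : 3 ≤ Fintype.card ι) : ∃ p : ℕ, p.Prime ∧ Fintype.card F = p ∧ p % 4 = 1 := by
  obtain ⟨p, e, -, h1, ⟨h2, -⟩ | ⟨-, rfl, h3, -⟩ | ⟨-, -, h2, -⟩⟩ := h.field
  · exact absurd h2 (by decide)
  · rw [h3] at h1
    obtain ⟨hp, -, h4, h5, -⟩ := h1
    have := hp.pos
    rw [pow_one] at h4 h5
    exact ⟨p, hp, h4, by omega⟩
  · omega

lemma linData_three {R : Subgroup (GL ι F)} (h : IsLinearSymplecticTypeData 3 R) :
    ∃ p : ℕ, p.Prime ∧ Fintype.card F = p ∧ p % 3 = 1 := by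
  obtain ⟨p, e, h1, -, h2, h3, h4, h5, h6, -⟩ := linData_odd h (by decide)
  obtain rfl : e = 1 := by omega
  exact ⟨p, h1, by simpa using h2, by simpa using h6⟩

lemma linData_five {R : Subgroup (GL ι F)} (h : IsLinearSymplecticTypeData 5 R) :
    ∃ p : ℕ, p.Prime ∧ Fintype.card F = p ∧ p % 5 = 1 := by
  obtain ⟨p, e, h1, -, h2, h3, h4, h5, h6, h7⟩ := linData_odd h (by decide)
  have : ∀ a < 5, ∀ e < 5, e % 2 = 1 → a ^ e % 5 = 1 → (∀ d < e, 0 < d → a ^ d % 5 ≠ 1) →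
      e = 1 ∧ a = 1 := by decide
  obtain ⟨rfl, h8⟩ := this _ (Nat.mod_lt p (by decide)) e h5 h3 h6 h7
  exact ⟨p, h1, by simpa using h2, h8⟩

lemma linData_seven {R : Subgroup (GL ι F)} (h : IsLinearSymplecticTypeData 7 R) :
    ∃ p : ℕ, p.Prime ∧ CharP F p ∧ ((Fintype.card F = p ∧ p % 7 = 1) ∨
      (Fintype.card F = p ^ 3 ∧ (p % 7 = 2 ∨ p % 7 = 4))) := by
  obtain ⟨p, e, h1, hc, h2, h3, h4, h5, h6, h7⟩ := linData_odd h (by decide)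
  have : ∀ a < 7, ∀ e < 7, e % 2 = 1 → a ^ e % 7 = 1 → (∀ d < e, 0 < d → a ^ d % 7 ≠ 1) →
      (e = 1 ∧ a = 1) ∨ (e = 3 ∧ (a = 2 ∨ a = 4)) := by decide
  rcases this _ (Nat.mod_lt p (by decide)) e h5 h3 h6 h7 with ⟨rfl, h8⟩ | ⟨rfl, h8⟩
  · exact ⟨p, h1, hc, Or.inl ⟨by simpa using h2, h8⟩⟩
  · exact ⟨p, h1, hc, Or.inr ⟨h2, h8⟩⟩

lemma linData_eleven {R : Subgroup (GL ι F)} (h : IsLinearSymplecticTypeData 11 R) :
    ∃ p : ℕ, p.Prime ∧ CharP F p ∧ ((Fintype.card F = p ∧ p % 11 = 1) ∨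
      (Fintype.card F = p ^ 5 ∧ (p % 11 = 3 ∨ p % 11 = 4 ∨ p % 11 = 5 ∨ p % 11 = 9))) := by
  obtain ⟨p, e, h1, hc, h2, h3, h4, h5, h6, h7⟩ := linData_odd h (by decide)
  have : ∀ a < 11, ∀ e < 11, e % 2 = 1 → a ^ e % 11 = 1 → (∀ d < e, 0 < d → a ^ d % 11 ≠ 1) →
      (e = 1 ∧ a = 1) ∨ (e = 5 ∧ (a = 3 ∨ a = 4 ∨ a = 5 ∨ a = 9)) := by decide
  rcases this _ (Nat.mod_lt p (by decide)) e h5 h3 h6 h7 with ⟨rfl, h8⟩ | ⟨rfl, h8⟩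
  · exact ⟨p, h1, hc, Or.inl ⟨by simpa using h2, h8⟩⟩
  · exact ⟨p, h1, hc, Or.inr ⟨h2, h8⟩⟩

lemma le_of_pow_eq {m t n : ℕ} (hm : 2 ≤ m) (ht : 2 ≤ t) (h : n = m ^ t) :
    m * m ≤ n ∧ t < n := by
  subst h
  exact ⟨by rw [← sq]; exact Nat.pow_le_pow_right (by omega) ht, Nat.lt_pow_self (by omega)⟩

end Cfsg.Agent.H18
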