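import Cfsg.Agent.H18.Block

/-! Maximal subgroups of the special linear groups: the list of cases. -/

set_option autoImplicit false

namespace Cfsg.Agent.H18

open Cfsg.Geo
open scoped MatrixGroups Matrix Kronecker

variable {ι : Type} [Fintype ι] [DecidableEq ι] {F : Type*} [Field F]

section quad

variable {Ω : Matrix ι ι F} {s t : F}

lemma mem_adjoin_quad (h : Ω * Ω = s • Ω + t • 1) {X : Matrix ι ι F} :
    X ∈ Algebra.adjoin F {Ω} ↔ ∃ c d : F, X = c • 1 + d • Ω := by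
  constructor
  · intro hX
    induction hX using Algebra.adjoin_induction with
    | mem x hx => exact ⟨0, 1, by rw [Set.mem_singleton_iff.mp hx]; simp⟩
    | algebraMap r => exact ⟨r, 0, by simp [Algebra.algebraMap_eq_smul_one]⟩
    | add x y _ _ hx hy =>
      obtain ⟨c, d, rfl⟩ := hx
      obtain ⟨c', d', rfl⟩ := hy
      exact ⟨c + c', d + d', by module⟩
    | mul x y _ _ hx hy =>
      obtain ⟨c, d, rfl⟩ := hx
      obtain ⟨c', d', rfl⟩ := hy
      refine ⟨c * c' + d * d' * t, c * d' + d * c' + d * d' * s, ?_⟩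
      simp only [add_mul, mul_add, Matrix.smul_mul, Matrix.mul_smul, mul_one, one_mul, h]
      module
  · rintro ⟨c, d, rfl⟩
    exact add_mem (Subalgebra.smul_mem _ (one_mem _) _)
      (Subalgebra.smul_mem _ (Algebra.self_mem_adjoin_singleton F Ω) _)

lemma isFieldSubalgebra_quad [Nonempty ι] (h : Ω * Ω = s • Ω + t • 1)
    (hirr : ∀ x : F, x * x ≠ s * x + t) : IsFieldSubalgebra 2 (Algebra.adjoin F {Ω}) := by
  have hN : ∀ c d : F, (c ≠ 0 ∨ d ≠ 0) → c * c + c * d * s - d * d * t ≠ 0 := by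
    intro c d hcd h0
    by_cases hd : d = 0
    · subst hd; simp at hcd h0; exact hcd h0
    · apply hirr (-c / d); field_simp; linear_combination h0
  have hmul : ∀ c d : F, (c • 1 + d • Ω) * ((c + d * s) • 1 + (-d) • Ω) =
      (c * c + c * d * s - d * d * t) • (1 : Matrix ι ι F) := by
    intro c d
    simp only [add_mul, mul_add, Matrix.smul_mul, Matrix.mul_smul, mul_one, one_mul, h]
    module
  refine ⟨fun x hx y hy => ?_, fun x hx hx0 => ?_, ?_⟩
  · obtain ⟨c, d, rfl⟩ := (mem_adjoin_quad h).mp hx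
    obtain ⟨c', d', rfl⟩ := (mem_adjoin_quad h).mp hy
    simp only [add_mul, mul_add, Matrix.smul_mul, Matrix.mul_smul, mul_one, one_mul]
    module
  · obtain ⟨c, d, rfl⟩ := (mem_adjoin_quad h).mp hx
    have h1 := hN c d (by by_contra! h2; simp [h2.1, h2.2] at hx0)
    refine ⟨(c * c + c * d * s - d * d * t)⁻¹ • ((c + d * s) • 1 + (-d) • Ω),
      Subalgebra.smul_mem _ ((mem_adjoin_quad h).mpr ⟨_, _, rfl⟩) _, ?_⟩
    rw [Matrix.mul_smul, hmul, smul_smul, inv_mul_cancel₀ h1, one_smul]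
  · have hli : LinearIndependent F ![(1 : Matrix ι ι F), Ω] := by
      rw [LinearIndependent.pair_iff]
      intro c d hcd
      by_contra h2
      have h3 := hmul c d
      rw [hcd, zero_mul, eq_comm, smul_eq_zero] at h3
      exact h3.elim (hN c d (by tauto)) one_ne_zero
    have h1 : Subalgebra.toSubmodule (Algebra.adjoin F {Ω}) =
        Submodule.span F (Set.range ![(1 : Matrix ι ι F), Ω]) := by
      ext X
      rw [Subalgebra.mem_toSubmodule, mem_adjoin_quad h, Matrix.range_cons, Matrix.range_cons,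
        Matrix.range_empty, Set.union_empty, Set.singleton_union, Submodule.mem_span_pair]
      exact ⟨fun ⟨c, d, h⟩ => ⟨c, d, h.symm⟩, fun ⟨c, d, h⟩ => ⟨c, d, h.symm⟩⟩
    rw [← Subalgebra.finrank_toSubmodule, h1, finrank_span_eq_card hli]; simp

lemma le_normalizer_quad (h : Ω * Ω = s • Ω + t • 1) {H : Subgroup (GL ι F)}
    (hH : ∀ g ∈ H, ∃ c d : F, cj g Ω = c • 1 + d • Ω) :
    H ≤ subalgebraNormalizer (Algebra.adjoin F {Ω}) := by
  refine le_subalgebraNormalizer fun g hg k hk => ?_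
  obtain ⟨c, d, rfl⟩ := (mem_adjoin_quad h).mp hk
  rw [map_add, map_smul, map_smul, map_one]
  exact add_mem (Subalgebra.smul_mem _ (one_mem _) _)
    (Subalgebra.smul_mem _ ((mem_adjoin_quad h).mpr (hH g hg)) _)

end quad

section smallFields

variable [Fintype F]

lemma eq_zero_or_one_of_card_two (h : Fintype.card F = 2) (x : F) : x = 0 ∨ x = 1 := by
  have := FiniteField.pow_card x
  rw [h] at this
  rcases mul_eq_zero.mp (show x * (x - 1) = 0 by linear_combination this) with h | h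
  · exact Or.inl h
  · exact Or.inr (sub_eq_zero.mp h)

lemma two_eq_zero_of_card_two (h : Fintype.card F = 2) : (2 : F) = 0 := by
  simpa [h] using FiniteField.cast_card_eq_zero F

lemma pow_pred_card {q : ℕ} (h : Fintype.card F = q + 1) {x : F} (hx : x ≠ 0) : x ^ q = 1 := by
  simpa [h] using FiniteField.pow_card_sub_one_eq_one x hx

lemma two_le_card : 2 ≤ Fintype.card F := Fintype.one_lt_card

lemma card_ne_six : Fintype.card F ≠ 6 := by
  intro h
  obtain ⟨p, e, hp, -, he, h1⟩ := exists_card_eq_pow F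
  rw [h] at h1
  have h2 := (Nat.prime_dvd_prime_iff_eq Nat.prime_two hp).mp
    (Nat.prime_two.dvd_of_dvd_pow (h1 ▸ (by decide : 2 ∣ 6)))
  have h3 := (Nat.prime_dvd_prime_iff_eq Nat.prime_three hp).mp
    (Nat.prime_three.dvd_of_dvd_pow (h1 ▸ (by decide : 3 ∣ 6)))
  omega

lemma exists_norm_one_of_card_le_four (h : Fintype.card F ≤ 4) :
    ∃ σ : F →+* F, (∀ x, σ (σ x) = x) ∧ ∀ x : F, x ≠ 0 → x * σ x = 1 := by
  have h2 := two_le_card (F := F)
  obtain h | h | h : Fintype.card F = 2 ∨ Fintype.card F = 3 ∨ Fintype.card F = 4 := by omega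
  · exact ⟨RingHom.id F, fun _ => rfl, fun x hx => by
      rcases eq_zero_or_one_of_card_two h x with rfl | rfl
      · exact absurd rfl hx
      · simp⟩
  · exact ⟨RingHom.id F, fun _ => rfl, fun x hx => by simpa [sq] using pow_pred_card (q := 2) h hx⟩
  · have : Fact (Nat.Prime 2) := ⟨Nat.prime_two⟩
    have : CharP F 2 := charP_of_card_eq_prime_pow (p := 2) (f := 2) h
    obtain ⟨σ, h1, h2⟩ := exists_frob_half (d := 1) Nat.prime_two h
    exact ⟨σ, h2, fun x hx => by rw [h1, ← pow_pred_card (q := 3) h hx]; ring⟩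

end smallFields

omit [Fintype ι] [DecidableEq ι] in
lemma notMem_span_of_notMem {W : Submodule F (ι → F)} {v w : ι → F} (hv : v ∈ W) (hv0 : v ≠ 0)
    (hw : w ∉ W) : v ∉ Submodule.span F {w} := by
  intro h
  obtain ⟨c, rfl⟩ := Submodule.mem_span_singleton.mp h
  have hc : c ≠ 0 := by rintro rfl; simp at hv0
  exact hw ((W.smul_mem_iff hc).mp hv)

lemma exists_SL_add {v w : ι → F} (h : v ∉ Submodule.span F {w}) :
    ∃ g ∈ specialLinear ι F, (g : Matrix ι ι F) *ᵥ v = v + w := by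
  obtain ⟨φ, h1, h2⟩ := exists_dot_of_notMem h
  exact ⟨tv w φ (h2 w (Submodule.mem_span_singleton_self w)), tv_mem_SL _ _ _, by
    rw [tv_mulVec, h1, one_smul]⟩

lemma SL_not_le_stab {W : Submodule F (ι → F)} (h1 : W ≠ ⊥) (h2 : W ≠ ⊤) :
    ¬ specialLinear ι F ≤ subspaceStabilizer W := by
  intro h
  obtain ⟨v, hv, hv0⟩ := Submodule.exists_mem_ne_zero_of_ne_bot h1
  obtain ⟨w, hw⟩ : ∃ w, w ∉ W := by
    by_contra! h3; exact h2 (Submodule.eq_top_iff'.mpr h3)
  obtain ⟨g, hg, h3⟩ := exists_SL_add (notMem_span_of_notMem hv hv0 hw)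
  have := (mem_subspaceStabilizer.mp (h hg) v).mp hv
  rw [h3] at this
  exact hw (by simpa using W.sub_mem this hv)

lemma SL_not_le_decomp {t m : ℕ} {D : Fin t → Submodule F (ι → F)} (hD : IsMDecomposition m D) :
    ¬ specialLinear ι F ≤ decompositionStabilizer D := by
  intro h
  have ht := hD.two_le
  have hij : (⟨0, by omega⟩ : Fin t) ≠ ⟨1, by omega⟩ := by simp
  obtain ⟨v, hv, hv0⟩ := exists_ne_zero_of_decomp hD ⟨0, by omega⟩
  obtain ⟨w, hw, hw0⟩ := exists_ne_zero_of_decomp hD ⟨1, by omega⟩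
  have hw' : w ∉ D ⟨0, by omega⟩ := fun h0 =>
    add_notMem_of_decomp hD.indep hij hv hw hv0 hw0 _ (add_mem hv h0)
  obtain ⟨g, hg, h3⟩ := exists_SL_add (notMem_span_of_notMem hv hv0 hw')
  obtain ⟨k, hk⟩ := exists_mem_of_stab (h hg) hv
  exact add_notMem_of_decomp hD.indep hij hv hw hv0 hw0 k (h3 ▸ hk)

lemma exists_SL_small (hn : 2 ≤ Fintype.card ι) : ∃ g ∈ specialLinear ι F,
    ∃ U : Submodule F (ι → F), Module.finrank F U ≤ 1 ∧ (∀ v, (g : Matrix ι ι F) *ᵥ v - v ∈ U) ∧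
      ∃ v, (g : Matrix ι ι F) *ᵥ v ≠ v := by
  obtain ⟨i, j, hij⟩ := Fintype.exists_pair_of_one_lt_card (α := ι) hn
  refine ⟨tv (Pi.single i 1) (Pi.single j 1) (by simp [hij.symm]), tv_mem_SL _ _ _, _,
    finrank_span_singleton_le _, tv_sub_mem _ _ _, Pi.single j 1, fun h => ?_⟩
  rw [tv_mulVec] at h
  simpa [hij] using congrFun h i

section small

variable {g : GL ι F} {U : Submodule F (ι → F)}

lemma not_mem_normalizer_of_small (hn : 3 ≤ Fintype.card ι) (h1 : Module.finrank F U ≤ 1)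
    (hU : ∀ v, (g : Matrix ι ι F) *ᵥ v - v ∈ U) (hv : ∃ v, (g : Matrix ι ι F) *ᵥ v ≠ v) {r : ℕ}
    (hr : 2 ≤ r) {K : Subalgebra F (Matrix ι ι F)} (hK : IsFieldSubalgebra r K) :
    g ∉ subalgebraNormalizer K := fun h => by
  obtain ⟨v, hv⟩ := hv
  have := le_finrank_of_centralizes hK (centralizes_of_small hK h hU (by omega)) hU hv
  omega

lemma not_mem_tensor_of_small (hn : 2 ≤ Fintype.card ι) (h1 : Module.finrank F U ≤ 1)
    (hU : ∀ v, (g : Matrix ι ι F) *ᵥ v - v ∈ U) (hv : ∃ v, (g : Matrix ι ι F) *ᵥ v ≠ v) {a b : ℕ}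
    (ha : 2 ≤ a) (hb : 2 ≤ b) (e : ι ≃ Fin a × Fin b) (P : GL ι F) :
    g ∉ tensorProductSubgroup a b e P := fun h => by
  obtain ⟨v, hv⟩ := hv
  obtain ⟨c, hc⟩ := scalar_of_mem_tensor h hU (by omega) (by omega)
  rw [eq_one_of_scalar_small hc hU (by omega)] at hv
  simp at hv

lemma not_mem_wreath_of_small (hn : 2 ≤ Fintype.card ι) (h1 : Module.finrank F U ≤ 1)
    (hU : ∀ v, (g : Matrix ι ι F) *ᵥ v - v ∈ U) (hv : ∃ v, (g : Matrix ι ι F) *ᵥ v ≠ v) {m t : ℕ}
    (ht : 2 ≤ t) (hm : 3 ≤ m ∨ (2 ≤ m ∧ 3 ≤ t)) (e : ι ≃ (Fin t → Fin m)) (P : GL ι F) :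
    g ∉ tensorWreathSubgroup m t e P := fun h => by
  obtain ⟨v, hv⟩ := hv
  obtain ⟨c, hc⟩ := scalar_of_mem_wreath h hU ht (by omega)
  rw [eq_one_of_scalar_small hc hU (by omega)] at hv
  simp at hv

end small

lemma SL_not_le_subfield (hn : 2 ≤ Fintype.card ι) {F₀ : Subfield F} (h0 : F₀ ≠ ⊤) (P : GL ι F) :
    ¬ specialLinear ι F ≤ subfieldSubgroup F₀ P := by
  intro h
  obtain ⟨c, hc⟩ : ∃ c, c ∉ F₀ := by
    by_contra! h3; exact h0 (eq_top_iff.mpr fun x _ => h3 x)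
  obtain ⟨i, j, hij⟩ := Fintype.exists_pair_of_one_lt_card (α := ι) hn
  let t : GL ι F := tv (Pi.single i c) (Pi.single j 1) (by simp [hij.symm])
  have ht : P * t * P⁻¹ ∈ specialLinear ι F :=
    (MonoidHom.normal_ker _).conj_mem t (tv_mem_SL _ _ _) P
  obtain ⟨ζ, hζ, h1⟩ := mem_subfieldSubgroup_iff.mp (h ht)
  rw [← cj_coe, cj_inv_cj] at h1
  have h2 := h1 j j
  have h3 := h1 i j
  simp [t, tv_coe, Matrix.vecMulVec_apply, hij, hij.symm] at h2 h3
  apply hc
  have := F₀.mul_mem (F₀.inv_mem h2) h3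
  rwa [← mul_assoc, inv_mul_cancel₀ hζ, one_mul] at this

lemma exists_not_scalar_of_irr (hn : 2 ≤ Fintype.card ι) {R : Subgroup (GL ι F)} (h : Irr R) :
    ∃ x ∈ R, ∃ w, (x : Matrix ι ι F) *ᵥ w ∉ Submodule.span F {w} := by
  have : Nonempty ι := Fintype.card_pos_iff.mp (by omega)
  by_contra! h1
  refine scalars_not_irr hn (h.mono fun x hx => ?_)
  obtain ⟨c, hc⟩ := scalar_of_forall_mem_span (h1 x hx)
  exact mem_scalars_of_eq_smul hc

lemma eq_one_of_pGroup {r : ℕ} {R : Subgroup (GL ι F)} (hR : IsPGroup r R) (hr : (r : F) ≠ 0)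
    {y : GL ι F} (hy : y ∈ R) (h : IsNilpotent ((y : Matrix ι ι F) - 1)) : y = 1 := by
  obtain ⟨k, hk⟩ := hR ⟨y, hy⟩
  exact eq_one_of_nilpotent h (N := r ^ k) (by simpa using pow_ne_zero k hr)
    (congrArg Subtype.val hk)

/-- the commutator of a transvection with an element -/
lemma tv_comm_mulVec (x : GL ι F) (w φ : ι → F) (h : φ ⬝ᵥ w = 0)
    (hx : φ ⬝ᵥ ((x : Matrix ι ι F) *ᵥ w) = 0) (v : ι → F) :
    (((tv w φ h * x * (tv w φ h)⁻¹ * x⁻¹ : GL ι F) : Matrix ι ι F) - 1) *ᵥ v =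
      (φ ⬝ᵥ v) • w - (φ ⬝ᵥ (((x⁻¹ : GL ι F) : Matrix ι ι F) *ᵥ v)) • ((x : Matrix ι ι F) *ᵥ w) := by
  rw [Matrix.sub_mulVec, Matrix.one_mulVec, Units.val_mul, Units.val_mul, Units.val_mul,
    ← Matrix.mulVec_mulVec, ← Matrix.mulVec_mulVec, ← Matrix.mulVec_mulVec, tv_inv_mulVec,
    Matrix.mulVec_sub, mulVec_inv_mulVec, Matrix.mulVec_smul, tv_mulVec, dotProduct_sub,
    dotProduct_smul, hx]
  simp only [smul_zero, sub_zero]; abel

lemma not_normalizes_tv {r : ℕ} {R : Subgroup (GL ι F)} (hR : IsPGroup r R) (hr : (r : F) ≠ 0)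
    {x : GL ι F} (hx : x ∈ R) {w φ : ι → F} (h : φ ⬝ᵥ w = 0)
    (h1 : φ ⬝ᵥ ((x : Matrix ι ι F) *ᵥ w) = 0) (h2 : φ ≠ 0)
    (h3 : (x : Matrix ι ι F) *ᵥ w ∉ Submodule.span F {w}) : tv w φ h ∉ subgroupNormalizer R := by
  intro h4
  have h5 : tv w φ h * x * (tv w φ h)⁻¹ * x⁻¹ ∈ R :=
    R.mul_mem ((Subgroup.mem_normalizer_iff.mp h4 x).mp hx) (R.inv_mem hx)
  have h6 := eq_one_of_pGroup hR hr h5 ⟨3, by
    apply Matrix.toLin'.injective
    refine LinearMap.ext fun v => ?_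
    rw [pow_succ, pow_succ, pow_one, Matrix.toLin'_apply, ← Matrix.mulVec_mulVec,
      ← Matrix.mulVec_mulVec]
    simp only [tv_comm_mulVec x w φ h h1, dotProduct_sub, dotProduct_smul, h, h1,
      Matrix.mulVec_sub, Matrix.mulVec_smul, inv_mulVec_mulVec]
    simp⟩
  obtain ⟨i, hi⟩ := Function.ne_iff.mp h2
  have h7 := tv_comm_mulVec x w φ h h1 ((x : Matrix ι ι F) *ᵥ Pi.single i 1)
  rw [h6, inv_mulVec_mulVec, Units.val_one, sub_self, Matrix.zero_mulVec, eq_comm, sub_eq_zero] at h7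
  apply h3
  have h8 : φ ⬝ᵥ Pi.single i 1 ≠ 0 := by simpa using hi
  rw [← Submodule.smul_mem_iff _ h8, ← h7]
  exact Submodule.smul_mem _ _ (Submodule.mem_span_singleton_self w)

omit [DecidableEq ι] in
lemma exists_notMem_span_pair (hn : 3 ≤ Fintype.card ι) (u w : ι → F) :
    ∃ v, v ∉ Submodule.span F {u} ⊔ Submodule.span F {w} :=
  exists_notMem_of_finrank_lt (by
    have := finrank_sup_le' (Submodule.span F {u}) (Submodule.span F {w})
    have := finrank_span_singleton_le u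
    have := finrank_span_singleton_le w
    omega)

lemma SL_not_le_normalizer (hn : 3 ≤ Fintype.card ι) {r : ℕ} {R : Subgroup (GL ι F)}
    (hR : IsPGroup r R) (hr : (r : F) ≠ 0) (hi : Irr R) :
    ¬ specialLinear ι F ≤ subgroupNormalizer R := by
  intro h
  obtain ⟨x, hx, w, hw⟩ := exists_not_scalar_of_irr (by omega) hi
  obtain ⟨v, hv⟩ := exists_notMem_span_pair hn w ((x : Matrix ι ι F) *ᵥ w)
  obtain ⟨φ, h1, h2⟩ := exists_dot_of_notMem hv
  exact not_normalizes_tv hR hr hx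
    (h2 _ (Submodule.mem_sup_left (Submodule.mem_span_singleton_self _)))
    (h2 _ (Submodule.mem_sup_right (Submodule.mem_span_singleton_self _)))
    (by rintro rfl; simp at h1) hw (h (tv_mem_SL _ _ _))

lemma SL_not_le_similarity (hn : 3 ≤ Fintype.card ι) {σ : F →+* F} {ε : F}
    {f : (ι → F) → (ι → F) → F} (hf : HForm σ ε f) : ¬ specialLinear ι F ≤ similarityGroup f := by
  intro h
  obtain ⟨i⟩ : Nonempty ι := Fintype.card_pos_iff.mp (by omega)
  obtain ⟨w, hw⟩ : ∃ w, f (Pi.single i 1) w ≠ 0 := by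
    by_contra! h0
    simpa using congrFun (hf.nondeg' _ h0) i
  set u : ι → F := Pi.single i 1
  obtain ⟨v₀, hv⟩ := exists_notMem_span_pair hn u w
  have hw' : w ∈ Submodule.span F {u} ⊔ Submodule.span F {w} :=
    Submodule.mem_sup_right (Submodule.mem_span_singleton_self _)
  obtain ⟨φ, h1, h2⟩ := exists_dot_of_notMem hv
  obtain ⟨c, hc⟩ := h (tv_mem_SL w φ (h2 w hw'))
  have h3 := hc u (v₀ - σ (f u v₀ / f u w) • w)
  rw [tv_mulVec, tv_mulVec, h2 u (Submodule.mem_sup_left (Submodule.mem_span_singleton_self _)),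
    dotProduct_sub, dotProduct_smul, h1, h2 w hw', hf.add_right, zero_smul, add_zero,
    hf.sub_right, hf.smul_right, hf.invol, div_mul_cancel₀ _ hw] at h3
  simp [hw] at h3

lemma irr_of_absIrr {R : Subgroup (GL ι F)} (h : ActsAbsolutelyIrreducibly (matrixSet R)) : Irr R :=
  (irr_iff R).mpr h.1

lemma cast_ne_zero_of_ne {r p : ℕ} (hr : r.Prime) (hp : p.Prime) [CharP F p] (h : r ≠ p) :
    (r : F) ≠ 0 := fun h0 =>
  h ((Nat.prime_dvd_prime_iff_eq hp hr).mp ((CharP.cast_eq_zero_iff F p r).mp h0)).symm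

/-- the list of cases for a maximal subgroup of the special linear group -/
def SLCase [Fintype F] (H : Subgroup (GL ι F)) : Prop :=
  (∃ W : Submodule F (ι → F), W ≠ ⊥ ∧ W ≠ ⊤ ∧ H = subspaceStabilizer W ⊓ specialLinear ι F) ∨
  (∃ (t m : ℕ) (D : Fin t → Submodule F (ι → F)), IsMDecomposition m D ∧
      Fintype.card ι = t * m ∧ (m = 1 → 5 ≤ Fintype.card F) ∧ (m = 2 → 3 ≤ Fintype.card F) ∧
      (m = 2 → t = 2 → 4 ≤ Fintype.card F) ∧ H = decompositionStabilizer D ⊓ specialLinear ι F) ∨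
  (∃ (r : ℕ) (K : Subalgebra F (Matrix ι ι F)), r.Prime ∧ r ∣ Fintype.card ι ∧
      IsFieldSubalgebra r K ∧ H = subalgebraNormalizer K ⊓ specialLinear ι F) ∨
  (∃ (a b : ℕ) (e : ι ≃ Fin a × Fin b) (P : GL ι F), 2 ≤ a ∧ a < b ∧ Fintype.card ι = a * b ∧
      (a = 2 → 3 ≤ Fintype.card F) ∧ H = tensorProductSubgroup a b e P ⊓ specialLinear ι F) ∨
  (∃ (F₀ : Subfield F) (r : ℕ) (P : GL ι F), r.Prime ∧ Fintype.card F = Nat.card F₀ ^ r ∧
      H = subfieldSubgroup F₀ P ⊓ specialLinear ι F) ∨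
  (∃ (r : ℕ) (R : Subgroup (GL ι F)), IsLinearSymplecticTypeData r R ∧
      (∃ m, Fintype.card ι = r ^ m) ∧ H = subgroupNormalizer R ⊓ specialLinear ι F) ∨
  (∃ (m t : ℕ) (e : ι ≃ (Fin t → Fin m)) (P : GL ι F), 3 ≤ m ∧ 2 ≤ t ∧ Fintype.card ι = m ^ t ∧
      H = tensorWreathSubgroup m t e P ⊓ specialLinear ι F) ∨
  (Odd (Fintype.card F) ∧ ∃ Q : (ι → F) → F, IsNondegenerateQuadraticForm Q ∧
      H = quadSimilarityGroup Q ⊓ specialLinear ι F) ∨
  (Even (Fintype.card ι) ∧ ∃ f : (ι → F) → (ι → F) → F, IsSymplecticForm f ∧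
      H = similarityGroup f ⊓ specialLinear ι F) ∨
  (∃ (σ : F ≃+* F) (f : (ι → F) → (ι → F) → F), IsUnitaryForm σ f ∧
      H = similarityGroup f ⊓ specialLinear ι F) ∨
  InLinearResidualClass H

section cases

variable [Fintype F] {H : Subgroup (GL ι F)}

lemma slCase_of_inC8 (hn : 3 ≤ Fintype.card ι) (hH : IsMaximalIn (specialLinear ι F) H)
    (h : InC8 H) : SLCase H := by
  iterate 7 right
  rcases h with ⟨f, h1, h2⟩ | ⟨σ, f, h1, h2⟩ | ⟨Q, h1, h2, h3⟩
  · exact Or.inr (Or.inl ⟨even_card_of_symplectic h1, f, h1,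
      eq_of_maximal hH h2 (SL_not_le_similarity hn (hform_of_symplectic h1))⟩)
  · exact Or.inr (Or.inr (Or.inl ⟨σ, f, h1,
      eq_of_maximal hH h2 (SL_not_le_similarity hn (hform_of_unitary h1))⟩))
  · exact Or.inl ⟨h2, Q, h1, eq_of_maximal hH h3 fun h =>
      SL_not_le_similarity hn (hform_of_quad h1) (h.trans (quadSimilarityGroup_le Q))⟩

lemma slCase_of_hform (hn : 3 ≤ Fintype.card ι) (hH : IsMaximalIn (specialLinear ι F) H)
    {σ : F →+* F} {ε : F} {f : (ι → F) → (ι → F) → F} (hf : HForm σ ε f)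
    (h : H ≤ similarityGroup f) : SLCase H := by
  by_cases hi : Irr H
  · exact slCase_of_inC8 hn hH (inC8_of_hform hf (by omega) hi h)
  · obtain ⟨W, h1, h2, h3⟩ := exists_stab_of_not_irr hi
    exact Or.inl ⟨W, h1, h2, eq_of_maximal hH h3 (SL_not_le_stab h1 h2)⟩

lemma slCase_of_field (hn : 3 ≤ Fintype.card ι) (hH : IsMaximalIn (specialLinear ι F) H)
    {r : ℕ} {K : Subalgebra F (Matrix ι ι F)} (hr : r.Prime) (hK : IsFieldSubalgebra r K)
    (h : H ≤ subalgebraNormalizer K) : SLCase H := by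
  have : Nonempty ι := Fintype.card_pos_iff.mp (by omega)
  obtain ⟨g, hg, U, h1, h2, h3⟩ := exists_SL_small (ι := ι) (F := F) (by omega)
  exact Or.inr (Or.inr (Or.inl ⟨r, K, hr, dvd_card_of_isFieldSubalgebra hK, hK,
    eq_of_maximal hH h fun h4 => not_mem_normalizer_of_small hn h1 h2 h3 hr.two_le hK (h4 hg)⟩))

lemma slCase_of_subfield (hn : 3 ≤ Fintype.card ι) (hH : IsMaximalIn (specialLinear ι F) H)
    (h : InC5 H) : SLCase H := by
  obtain ⟨F₀, r, P, h1, h2, h3⟩ := h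
  iterate 4 right
  exact Or.inl ⟨F₀, r, P, h1, h2,
    eq_of_maximal hH h3 (SL_not_le_subfield (by omega) (ne_top_of_card_eq_pow h1 h2) P)⟩

/-- the matrix of a root of `x ^ 2 + x + 1` in characteristic two -/
def om2 (F : Type*) [Field F] : Matrix (Fin 2) (Fin 2) F := !![0, 1; 1, 1]

lemma om2_sq : om2 F * om2 F = (1 : F) • om2 F + (1 : F) • 1 := by
  ext i j
  fin_cases i <;> fin_cases j <;> simp [om2, Matrix.mul_apply, Fin.sum_univ_two]

lemma cj_om2 (h : Fintype.card F = 2) (x : GL (Fin 2) F) :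
    ∃ c : F, cj x (om2 F) = c • 1 + (1 : F) • om2 F := by
  have h2 := two_eq_zero_of_card_two h
  have h3 : (cj x (om2 F)).trace = 1 := by rw [trace_cj]; simp [om2]
  have h4 : (cj x (om2 F)).det = 1 := by
    rw [cj_apply, Matrix.det_units_conj]; simp [om2, Matrix.det_fin_two]; linear_combination -h2
  generalize cj x (om2 F) = X at h3 h4
  rw [Matrix.trace_fin_two] at h3
  rw [Matrix.det_fin_two] at h4
  have h5 : X 0 0 * X 1 1 = 0 := by
    rcases eq_zero_or_one_of_card_two h (X 0 0) with h0 | h0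
    · rw [h0, zero_mul]
    · rw [h0] at h3 ⊢; linear_combination h3
  have h6 : X 0 1 * X 1 0 = 1 := by linear_combination h5 - h4 - h2
  have h7 : X 0 1 = 1 := (eq_zero_or_one_of_card_two h _).resolve_left (left_ne_zero_of_mul_eq_one h6)
  have h8 : X 1 0 = 1 := (eq_zero_or_one_of_card_two h _).resolve_left (right_ne_zero_of_mul_eq_one h6)
  refine ⟨X 0 0, ?_⟩
  ext i j
  fin_cases i <;> fin_cases j <;> simp [om2, h7, h8]
  linear_combination h3 - X 0 0 * h2

theorem slCase (hn : 3 ≤ Fintype.card ι) (hH : IsMaximalIn (specialLinear ι F) H) : SLCase H := by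
  have : Nonempty ι := Fintype.card_pos_iff.mp (by omega)
  have hq := two_le_card (F := F)
  obtain ⟨g₀, hg₀, U, hU1, hU2, hU3⟩ := exists_SL_small (ι := ι) (F := F) (by omega)
  rcases linCase hn H with ⟨W, h1, h2, h3⟩ | ⟨t, m, D, h1, h2⟩ | ⟨r, K, h1, h2, h3⟩ |
    ⟨a, b, e, P, h1, h2, h3⟩ | h | ⟨r, R, h1, h2, h3⟩ | ⟨m, t, e, P, h1, h2, h3⟩ | h | h
  · exact Or.inl ⟨W, h1, h2, eq_of_maximal hH h3 (SL_not_le_stab h1 h2)⟩
  · obtain ⟨e, P, -, -, hb⟩ := exists_block h1 (decompBasis h1)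
    by_cases c1 : m = 1 ∧ Fintype.card F ≤ 4
    · obtain ⟨rfl, c1⟩ := c1
      obtain ⟨σ, hσ, hσ1⟩ := exists_norm_one_of_card_le_four c1
      refine slCase_of_hform hn hH ((hform_kron_one (hform_frm (G := (1 : Matrix (Fin 1) (Fin 1) F))
        hσ (ε := 1) (by simp) (by simp) (by simp))).trB e P) fun g hg => ?_
      obtain ⟨ρ, a, ha⟩ := hb g (h2 hg)
      refine mem_similarityGroup_of_gram ha one_ne_zero (blockMon_form σ ρ fun j => ?_)
      have := det_ne_zero_of_blockMon ha j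
      rw [Matrix.det_unique] at this
      ext x y
      simpa [Matrix.mul_apply, Subsingleton.elim x 0, Subsingleton.elim y 0] using hσ1 _ this
    by_cases c2 : m = 2 ∧ Fintype.card F = 2
    · obtain ⟨rfl, c2⟩ := c2
      refine slCase_of_hform hn hH ((hform_kron_one hform_J2).trB e P) fun g hg => ?_
      obtain ⟨ρ, a, ha⟩ := hb g (h2 hg)
      refine mem_similarityGroup_of_gram ha one_ne_zero (blockMon_form _ ρ fun j => ?_)
      rw [transpose_J2, (eq_zero_or_one_of_card_two c2 _).resolve_left (det_ne_zero_of_blockMon ha j)]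
    by_cases c3 : m = 2 ∧ t = 2 ∧ Fintype.card F = 3
    · obtain ⟨rfl, rfl, c3⟩ := c3
      refine slCase_of_hform hn hH ((hform_kron_one hform_J2).trB e P) fun g hg => ?_
      obtain ⟨ρ, a, ha⟩ := hb g (h2 hg)
      refine mem_similarityGroup_of_gram ha (det_ne_zero_of_blockMon ha 0)
        (blockMon_form _ ρ fun j => ?_)
      rw [transpose_J2]
      have h4 := mem_specialLinear.mp (hH.1.le hg)
      rw [ha, det_trans, det_blockMon, Fin.prod_univ_two] at h4
      have h5 : ((Equiv.Perm.sign ρ : ℤ) : F) ^ Fintype.card (Fin 2) = 1 := by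
        rcases Int.units_eq_one_or (Equiv.Perm.sign ρ) with h | h <;> simp [h]
      have h6 := pow_pred_card (q := 2) c3 (det_ne_zero_of_blockMon ha 0)
      rw [h5, one_mul] at h4
      fin_cases j
      · rfl
      · congr 1
        change (a 1).det = _
        linear_combination (a 0).det * h4 - (a 1).det * h6
    exact Or.inr (Or.inl ⟨t, m, D, h1, card_eq_of_isMDecomposition h1, by omega, by omega, by omega,
      eq_of_maximal hH h2 (SL_not_le_decomp h1)⟩)
  · exact slCase_of_field hn hH h1 h2 h3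
  · by_cases c : a = 2 ∧ Fintype.card F = 2
    · obtain ⟨rfl, c⟩ := c
      have h4 : trans e P (om2 F ⊗ₖ (1 : Matrix (Fin b) (Fin b) F)) *
          trans e P (om2 F ⊗ₖ (1 : Matrix (Fin b) (Fin b) F)) =
          (1 : F) • trans e P (om2 F ⊗ₖ (1 : Matrix (Fin b) (Fin b) F)) + (1 : F) • 1 := by
        rw [← map_mul, ← Matrix.mul_kronecker_mul, om2_sq]
        simp [Matrix.add_kronecker]
      refine slCase_of_field hn hH Nat.prime_two (isFieldSubalgebra_quad h4 fun x => ?_)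
        (le_normalizer_quad h4 fun g hg => ?_)
      · rcases eq_zero_or_one_of_card_two c x with rfl | rfl <;> simp
      · obtain ⟨x, y, hxy⟩ := mem_tensorProductSubgroup.mp (h3 hg)
        obtain ⟨d, hd⟩ := cj_om2 c x
        exact ⟨d, 1, by
          rw [cj_kron hxy, hd, map_one]
          simp [Matrix.add_kronecker, Matrix.smul_kronecker]⟩
    · iterate 3 right
      exact Or.inl ⟨a, b, e, P, h1, h2, by simpa using Fintype.card_congr e, by omega,
        eq_of_maximal hH h3 fun h4 =>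
          not_mem_tensor_of_small (by omega) hU1 hU2 hU3 h1 (by omega) e P (h4 hg₀)⟩
  · exact slCase_of_subfield hn hH h
  · iterate 5 right
    obtain ⟨p, e, h4, h5, -⟩ := h1.field
    have := h5.2.1
    exact Or.inl ⟨r, R, h1, h2, eq_of_maximal hH h3 (SL_not_le_normalizer hn h1.symplecticType.pGroup
      (cast_ne_zero_of_ne h1.symplecticType.prime h5.1 h4) (irr_of_absIrr h1.absIrred))⟩
  · iterate 6 right
    exact Or.inl ⟨m, t, e, P, h1, h2, by simpa using Fintype.card_congr e,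
      eq_of_maximal hH h3 fun h4 =>
        not_mem_wreath_of_small (by omega) hU1 hU2 hU3 h2 (Or.inl h1) e P (h4 hg₀)⟩
  · exact slCase_of_inC8 hn hH h
  · iterate 10 right
    exact h

end cases

end Cfsg.Agent.H18
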