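import Cfsg.Agent.H18.FormD
import Cfsg.Agent.H4.Burnside

/-! The structure theorem for subgroups of symplectic groups. -/

set_option autoImplicit false

namespace Cfsg.Agent.H18

open Cfsg.Geo
open scoped MatrixGroups Matrix Kronecker commutatorElement

variable {ι : Type} [Fintype ι] [DecidableEq ι] {F : Type*} [Field F]

section aux
variable {σ : F →+* F} {ε : F} {f : (ι → F) → (ι → F) → F}

lemma span_eq_top_of_single {κ : Type} [Fintype κ] [DecidableEq κ] (e : ι ≃ κ) (P : GL ι F)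
    {S : Set (ι → F)} (h : ∀ k, (P : Matrix ι ι F) *ᵥ ((Pi.single k 1 : κ → F) ∘ e) ∈ S) :
    Submodule.span F S = ⊤ := by
  rw [Submodule.eq_top_iff']
  intro v
  obtain ⟨c, rfl⟩ := exists_eq_mulVec_comp e P v
  have : c ∘ e = ∑ k, c k • ((Pi.single k 1 : κ → F) ∘ e) := by
    funext i; simp [Pi.single_apply]
  rw [this, Matrix.mulVec_sum]
  exact sum_mem fun k _ => by
    rw [Matrix.mulVec_smul]; exact Submodule.smul_mem _ _ (Submodule.subset_span (h k))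

lemma kronV_single {α β : Type} [DecidableEq α] [DecidableEq β] (p : α × β) :
    kronV (Pi.single p.1 (1 : F)) (Pi.single p.2 1) = Pi.single p 1 := by
  funext q
  by_cases h1 : q.1 = p.1 <;> by_cases h2 : q.2 = p.2 <;>
    simp [kronV, Pi.single_apply, Prod.ext_iff, h1, h2]

lemma pureV_single {α κ : Type} [Fintype κ] [DecidableEq α] [DecidableEq κ] (p : κ → α) :
    pureV (fun i => Pi.single (p i) (1 : F)) = Pi.single p 1 := by
  funext q
  simp [pureV, Pi.single_apply, funext_iff, Finset.prod_boole]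

lemma HForm.exists_half {a : ℕ} {f : (Fin a → F) → (Fin a → F) → F}
    (hf : HForm (RingHom.id F) 1 f) (halt : ∀ v, f v v = 0) :
    ∃ k, k + adj (RingHom.id F) f k = 1 := by
  let A : Matrix (Fin a) (Fin a) F := Matrix.of fun i j => if i < j then gramMatrix f i j else 0
  obtain ⟨D, hD⟩ := hf.exists_repr (sesq_frm (RingHom.id F) A)
  have h1 : gramMatrix f = A + Aᵀ := by
    ext i j
    rcases lt_trichotomy i j with h | rfl | h
    · simp [A, h, h.not_gt]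
    · simp [A, gramMatrix, halt]
    · simp [A, h, h.not_gt, gramMatrix, hf.symm (Pi.single i 1)]
  refine ⟨D, hf.mat_eq_of_left fun u v => ?_⟩
  rw [Matrix.add_mulVec, hf.add_left, ← hf.adj_spec', hf.symm u, ← hD, ← hD, Matrix.one_mulVec,
    hf.eq_frm, h1]
  simp only [frm_eq_sum, Matrix.add_apply, mul_add, add_mul, Finset.sum_add_distrib,
    RingHom.id_apply, Matrix.transpose_apply]
  rw [Finset.sum_comm (f := fun a b => v a * A a b * u b)]
  congr 1
  exact Finset.sum_congr rfl fun _ _ => Finset.sum_congr rfl fun _ _ => by ring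

lemma HForm.one_of_two {f : (ι → F) → (ι → F) → F} (hf : HForm (RingHom.id F) ε f)
    (h2 : (2 : F) = 0) : HForm (RingHom.id F) 1 f := by
  rcases hf.eps_id with rfl | rfl
  · exact hf
  · rwa [show (-1 : F) = 1 by linear_combination -h2] at hf

theorem KronD.exists_quad {f : (ι → F) → (ι → F) → F} (hf : HForm (RingHom.id F) 1 f) {a b : ℕ}
    {e : ι ≃ Fin a × Fin b} {P : GL ι F} {ε₂ : F} {f₁ : _} {f₂ : _}
    (h : KronD (RingHom.id F) f e P 1 f₁ ε₂ f₂) (h1 : ∀ v, f₁ v v = 0) (h2 : ∀ v, f₂ v v = 0) :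
    ∃ Q : (ι → F) → F, IsNondegenerateQuadraticForm Q ∧ QuadraticMap.polar Q = f ∧
      ∀ x z, Q ((P : Matrix ι ι F) *ᵥ (kronV x z ∘ e)) = 0 := by
  obtain ⟨k, hk⟩ := h.hf₁.exists_half h1
  obtain ⟨c, -, -, hc⟩ := h.form hf
  have h3 := hf.quad_of_half (k := trans e P (k ⊗ₖ 1)) (by
    rw [h.adj₁, ← map_add, ← Matrix.add_kronecker, hk, Matrix.one_kronecker_one, map_one])
  refine ⟨_, h3.1, h3.2, fun x z => ?_⟩
  rw [trans_mulVec, kron_mulVec]
  refine (hc _ _).trans ?_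
  rw [h.form_kronV, Matrix.one_mulVec, h2, mul_zero, mul_zero]

lemma tensor_le_isometryGroup {Q : (ι → F) → F} (hQ : IsNondegenerateQuadraticForm Q) {a b : ℕ}
    {e : ι ≃ Fin a × Fin b} {P : GL ι F}
    (h : ∀ x z, Q ((P : Matrix ι ι F) *ᵥ (kronV x z ∘ e)) = 0) :
    tensorProductSubgroup a b e P ⊓ isoG (QuadraticMap.polar Q) ≤ isometryGroup F Q := by
  intro g hg
  refine mem_isometryGroup_of_span hQ hg.2 (span_eq_top_of_single e P
    (S := {v | ∃ x z, v = (P : Matrix ι ι F) *ᵥ (kronV x z ∘ e)}) fun p =>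
      ⟨_, _, by rw [kronV_single]⟩) ?_
  rintro _ ⟨x, z, rfl⟩
  obtain ⟨x', y', hxy⟩ := mem_tensorProductSubgroup.mp hg.1
  rw [hxy, trans_mulVec, kron_mulVec, h, h]

theorem PowD.exists_quad {f : (ι → F) → (ι → F) → F} (hf : HForm (RingHom.id F) 1 f) {k t : ℕ}
    {e : ι ≃ (Fin t → Fin k)} {P : GL ι F} {f₁ : _}
    (h : PowD (RingHom.id F) f e P 1 f₁) (h1 : ∀ v, f₁ v v = 0) :
    ∃ Q : (ι → F) → F, IsNondegenerateQuadraticForm Q ∧ QuadraticMap.polar Q = f ∧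
      ∀ x, Q ((P : Matrix ι ι F) *ᵥ (pureV x ∘ e)) = 0 := by
  obtain ⟨l, hl⟩ := h.hf₁.exists_half h1
  obtain ⟨c, -, -, hc⟩ := h.form hf
  have ht := h.two_le_t
  have h3 := hf.quad_of_half (k := trans e P (embT ⟨0, by omega⟩ l)) (by
    rw [h.adj₁, ← map_add, ← embAlg_apply, ← embAlg_apply, ← map_add, hl, map_one, map_one])
  refine ⟨_, h3.1, h3.2, fun x => ?_⟩
  rw [trans_mulVec, embT, pureT_mulVec]
  refine (hc _ _).trans ?_
  rw [h.form_pureV, Finset.prod_eq_zero (Finset.mem_univ ⟨1, ht⟩) (by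
    rw [Pi.mulSingle_eq_of_ne (by simp), Matrix.one_mulVec, h1]), mul_zero]

lemma wreath_le_isometryGroup {Q : (ι → F) → F} (hQ : IsNondegenerateQuadraticForm Q) {k t : ℕ}
    {e : ι ≃ (Fin t → Fin k)} {P : GL ι F}
    (h : ∀ x, Q ((P : Matrix ι ι F) *ᵥ (pureV x ∘ e)) = 0) :
    tensorWreathSubgroup k t e P ⊓ isoG (QuadraticMap.polar Q) ≤ isometryGroup F Q := by
  intro g hg
  refine mem_isometryGroup_of_span hQ hg.2 (span_eq_top_of_single e P
    (S := {v | ∃ x, v = (P : Matrix ι ι F) *ᵥ (pureV x ∘ e)}) fun p =>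
      ⟨_, by rw [pureV_single]⟩) ?_
  rintro _ ⟨x, rfl⟩
  obtain ⟨s, hs', h1⟩ := (mem_map_trans e P _ g).mp hg.1
  obtain ⟨a, π, rfl⟩ := exists_eq_of_mem_wreath hs'
  rw [h1, trans_mulVec, Units.val_mul, ← Matrix.mulVec_mulVec]
  change Q (_ *ᵥ ((pureT _ *ᵥ permT F _ π *ᵥ _) ∘ e)) = _
  rw [permT_mulVec, pureT_mulVec, h, h]

lemma PowD.alt {k t : ℕ} {e : ι ≃ (Fin t → Fin k)} {P : GL ι F} {ε₁ : F} {f₁ : _}
    (hf : HForm σ ε f) (h : PowD σ f e P ε₁ f₁) (halt : ∀ v, f v v = 0) (v : Fin k → F) :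
    f₁ v v = 0 := by
  obtain ⟨c, hc0, -, hc⟩ := h.form hf
  have h1 := hc (pureV fun _ => v) (pureV fun _ => v)
  rw [h.form_pureV, trF, halt, Finset.prod_const] at h1
  exact pow_eq_zero_iff (by have := h.two_le_t; simp; omega) |>.mp
    ((mul_eq_zero.mp h1.symm).resolve_left hc0)

lemma HForm.adjoin_cases (hf : HForm σ ε f) {Ω : Matrix ι ι F} {H : Subgroup (GL ι F)}
    (h1 : adj σ f Ω ∈ Algebra.adjoin F {Ω}) (h2 : ∀ g ∈ H, cj g Ω ∈ Algebra.adjoin F {Ω}) :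
    (∀ x ∈ Algebra.adjoin F {Ω}, ∀ y ∈ Algebra.adjoin F {Ω}, x * y = y * x) ∧
    (∀ g ∈ H, ∀ x ∈ Algebra.adjoin F {Ω}, cj g x ∈ Algebra.adjoin F {Ω}) ∧
    ∀ x ∈ Algebra.adjoin F {Ω}, adj σ f x ∈ Algebra.adjoin F {Ω} := by
  refine ⟨fun x hx y hy => Algebra.commute_of_mem_adjoin_singleton_of_commute hy
    (Algebra.commute_of_mem_adjoin_self hx).symm, fun g hg x hx => ?_, fun x hx => ?_⟩
  · exact (Algebra.adjoin_le (S := (Algebra.adjoin F {Ω}).comap (cj g).toAlgHom)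
      (Set.singleton_subset_iff.mpr (h2 g hg))) hx
  · induction hx using Algebra.adjoin_induction with
    | mem x hx => rw [hx]; exact h1
    | algebraMap c =>
      rw [Algebra.algebraMap_eq_smul_one, hf.adj_smul, hf.adj_one]
      exact Subalgebra.smul_mem _ (one_mem _) _
    | add x y _ _ hx hy => rw [hf.adj_add]; exact add_mem hx hy
    | mul x y _ _ hx hy => rw [hf.adj_mul]; exact mul_mem hy hx

lemma HForm.exists_skew_two {f : (Fin 2 → F) → (Fin 2 → F) → F} (hf : HForm (RingHom.id F) 1 f)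
    (h2 : (2 : F) ≠ 0) : ∃ s, adj (RingHom.id F) f s = -s ∧ s ≠ 0 ∧
      ∀ Y, adj (RingHom.id F) f Y = -Y → ∃ c : F, Y = c • s := by
  obtain ⟨s, hs⟩ := hf.exists_repr (sesq_frm (RingHom.id F) (J2 F))
  refine ⟨s, hf.adj_eq fun u v => ?_, fun h0 => ?_, fun Y hY => ?_⟩
  · rw [Matrix.neg_mulVec, hf.neg_right, hf.symm u, ← hs, ← hs, frm_J2, frm_J2]; ring
  · have := hs ![1, 0] ![0, 1]
    rw [h0, Matrix.zero_mulVec, hf.zero_left, frm_J2] at this
    simp at this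
  · have h3 : ∀ u v, f (Y *ᵥ u) v = - f (Y *ᵥ v) u := fun u v => by
      rw [hf.adj_spec, hY, Matrix.neg_mulVec, hf.neg_right, hf.symm]
    have h4 : ∀ u, f (Y *ᵥ u) u = 0 := fun u =>
      (mul_eq_zero.mp (by linear_combination h3 u u : 2 * f (Y *ᵥ u) u = 0)).resolve_left h2
    refine ⟨f (Y *ᵥ ![1, 0]) ![0, 1], hf.mat_eq_of_left fun u v => ?_⟩
    rw [Matrix.smul_mulVec, hf.smul_left, ← hs, frm_J2]
    have h5 : ∀ u : Fin 2 → F, u = u 0 • ![1, 0] + u 1 • ![0, 1] := fun u => by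
      funext i; fin_cases i <;> simp
    conv_lhs => rw [h5 u, h5 v]
    simp only [Matrix.mulVec_add, Matrix.mulVec_smul, hf.add_left, hf.add_right, hf.smul_left,
      hf.smul_right, h4, RingHom.id_apply, h3 ![0, 1]]
    ring

theorem KronD.exists_comm {f : (ι → F) → (ι → F) → F} (hf : HForm (RingHom.id F) ε f) {a : ℕ}
    {e : ι ≃ Fin a × Fin 2} {P : GL ι F} {ε₁ : F} {f₁ : _} {f₂ : _}
    (h : KronD (RingHom.id F) f e P ε₁ f₁ 1 f₂) (h2 : (2 : F) ≠ 0) :
    ∃ Ω : Matrix ι ι F, adj (RingHom.id F) f Ω = -Ω ∧ Ω ≠ 0 ∧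
      ∀ g ∈ tensorProductSubgroup a 2 e P ⊓ similarityGroup f, ∃ c : F, cj g Ω = c • Ω := by
  obtain ⟨s, h3, h4, h5⟩ := h.hf₂.exists_skew_two h2
  have := h.two_le₁
  have : Nonempty (Fin a) := ⟨⟨0, by omega⟩⟩
  refine ⟨trans e P (kronRight (Fin a) _ F s), ?_, fun h0 => h4 (algHom_matrix_injective
    (kronRight (Fin a) _ F) ((trans e P).injective (by rw [h0, map_zero, map_zero]))),
    fun g hg => ?_⟩
  · rw [kronRight_apply, h.adj₂, h3, ← kronRight_apply, map_neg, map_neg, kronRight_apply]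
  · obtain ⟨x, -, y, hy, hxy⟩ := h.sim hf hg.1 hg.2
    obtain ⟨c, hc⟩ := h5 (cj y s) (by rw [h.hf₂.adj_cj hy, h3, map_neg])
    exact ⟨c, by rw [kronRight_apply, cj_kron hxy, map_one, hc, ← kronRight_apply, map_smul,
      map_smul, kronRight_apply]⟩

lemma HForm.comm_of_skew [Nonempty ι] {f : (ι → F) → (ι → F) → F} (hf : HForm (RingHom.id F) ε f)
    (h2 : (2 : F) ≠ 0) {Ω : Matrix ι ι F} (h1 : adj (RingHom.id F) f Ω = -Ω) (h0 : Ω ≠ 0)
    {H : Subgroup (GL ι F)} (hH : ∀ g ∈ H, ∃ c : F, cj g Ω = c • Ω) :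
    ∃ C : Subalgebra F (Matrix ι ι F), (∀ x ∈ C, ∀ y ∈ C, x * y = y * x) ∧
      (∀ g ∈ H, ∀ x ∈ C, cj g x ∈ C) ∧ (∀ x ∈ C, adj (RingHom.id F) f x ∈ C) ∧ C ≠ ⊥ := by
  have h3 : Ω ∈ Algebra.adjoin F {Ω} := Algebra.self_mem_adjoin_singleton F Ω
  obtain ⟨a1, a2, a3⟩ := hf.adjoin_cases (H := H) (h1 ▸ neg_mem h3) fun g hg => by
    obtain ⟨c, hc⟩ := hH g hg
    rw [hc]; exact Subalgebra.smul_mem _ h3 c
  refine ⟨_, a1, a2, a3, fun h4 => h0 ?_⟩
  rw [h4, Algebra.mem_bot] at h3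
  obtain ⟨c, rfl⟩ := h3
  rw [Algebra.algebraMap_eq_smul_one, hf.adj_smul, hf.adj_one, eq_neg_iff_add_eq_zero,
    RingHom.id_apply, ← two_smul F, smul_eq_zero] at h1
  rw [Algebra.algebraMap_eq_smul_one]; exact h1.resolve_left h2

lemma solvable_GL2 [Fintype F] (h : Fintype.card F ≤ 3) : Group.IsSolvable (GL (Fin 2) F) := by
  have := two_le_card (F := F)
  have h1 := Matrix.card_GL_field (𝔽 := F) 2
  obtain h2 | h2 : Fintype.card F = 2 ∨ Fintype.card F = 3 := by omega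
  · exact H4.burnside_pq (a := 1) (b := 1) Nat.prime_two Nat.prime_three (by
      rw [h1, h2]; decide)
  · exact H4.burnside_pq (a := 4) (b := 1) Nat.prime_two Nat.prime_three (by
      rw [h1, h2]; decide)

lemma Resid.le_iso {H P : Subgroup (GL ι F)} (h : Resid (H ⊔ scalars ι F) P) : P ≤ H :=
  h.le.trans (by rw [commutator_sup_scalars]; exact commutator_self_le H)

lemma Resid.normal' {H P : Subgroup (GL ι F)} (h : Resid (H ⊔ scalars ι F) P) :
    ∀ g ∈ H, ∀ x ∈ P, g * x * g⁻¹ ∈ P := fun g hg => h.normal g (Subgroup.mem_sup_left hg)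

/-- a group fixing a bilinear and a unitary form is realisable over a subfield -/
lemma realisable_of_two_forms [Finite F] [Nonempty ι] {ε' : F} {f' : (ι → F) → (ι → F) → F}
    (hf : HForm σ ε f) (hσ : σ ≠ RingHom.id F) (hf' : HForm (RingHom.id F) ε' f')
    {P : Subgroup (GL ι F)} (hP : spanAlg F P = ⊤) (h1 : P ≤ isoG f) (h2 : P ≤ isoG f') :
    ∃ F₀ : Subfield F, F₀ ≠ ⊤ ∧ RealisableOver F₀ (matrixSet P) :=
  ⟨σ.eqLocusField (RingHom.id F), fun h => hσ (RingHom.ext fun x => h.ge (Subfield.mem_top x)),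
    realisableOver_of_trace hP _ fun x hx =>
      (hf.trace_isoG (h1 hx)).trans (hf'.trace_isoG (h2 hx)).symm⟩

lemma coe_ne_id {σ : F ≃+* F} (h : σ ≠ RingEquiv.refl F) : (σ : F →+* F) ≠ RingHom.id F :=
  fun h0 => h (RingEquiv.ext fun x => RingHom.congr_fun h0 x)

lemma exists_prime_subfield [Fintype F] (h : ¬ (Fintype.card F).Prime) :
    ∃ F₀ : Subfield F, F₀ ≠ ⊤ := by
  obtain ⟨p, e, hp, hc, he0, he⟩ := exists_card_eq_pow F
  obtain ⟨F₀, h1, -⟩ := exists_subfield_pow (d := 1) hp he one_pos (by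
    by_contra h1
    obtain rfl : e = 1 := by omega
    exact h (by rwa [he, pow_one]))
  exact ⟨F₀, h1⟩

end aux

/-- the cases of the structure theorem for symplectic groups -/
def SpCase [Fintype F] (f : (ι → F) → (ι → F) → F) (H : Subgroup (GL ι F)) : Prop :=
  (∃ W, W ≠ ⊥ ∧ IsTotallySingularFor f W ∧ H ≤ subspaceStabilizer W) ∨
  (∃ W, W ≠ ⊥ ∧ IsNondegenerateOn f W ∧ 2 * Module.finrank F W < Fintype.card ι ∧
      H ≤ subspaceStabilizer W) ∨
  (∃ (t k : ℕ) (D : Fin t → Submodule F (ι → F)), IsNondegenerateMDecomposition f k D ∧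
      H ≤ decompositionStabilizer D) ∨
  (∃ (m : ℕ) (D : Fin 2 → Submodule F (ι → F)), Odd (Fintype.card F) ∧ IsMDecomposition m D ∧
      (∀ i, IsTotallySingularFor f (D i)) ∧ H ≤ decompositionStabilizer D) ∨
  FC5 f H ∨
  (∃ (R : Subgroup (GL ι F)) (k : ℕ), IsSymplecticTypeGroup 2 R ∧
      ActsAbsolutelyIrreducibly (matrixSet R) ∧ R ≤ isoG f ∧ (Fintype.card F).Prime ∧
      Odd (Fintype.card F) ∧ Fintype.card ι = 2 ^ k ∧ Nat.card R = 2 ^ (1 + 2 * k) ∧
      Nat.card (Subgroup.center R) = 2 ∧ IsOfMinusType k R ∧ H ≤ subgroupNormalizer R) ∨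
  (¬ Odd (Fintype.card F) ∧ InO f H) ∨
  (∃ (r : ℕ) (K : Subalgebra F (Matrix ι ι F)), r.Prime ∧ IsFieldSubalgebra r K ∧
      IsSelfAdjointFor f K ∧ (∀ k ∈ K, ∀ v, f (k *ᵥ v) v = 0) ∧ H ≤ subalgebraNormalizer K) ∨
  (∃ K : Subalgebra F (Matrix ι ι F), Odd (Fintype.card F) ∧ IsFieldSubalgebra 2 K ∧
      IsAdjointClosedFor f K ∧ ¬ IsSelfAdjointFor f K ∧ H ≤ subalgebraNormalizer K) ∨
  (∃ (a b : ℕ) (e : ι ≃ Fin a × Fin b) (P : GL ι F) (f₁ : _) (f₂ : _), Odd (Fintype.card F) ∧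
      3 ≤ b ∧ KronD (RingHom.id F) f e P (-1) f₁ 1 f₂ ∧ H ≤ tensorProductSubgroup a b e P) ∨
  (∃ (k t : ℕ) (e : ι ≃ (Fin t → Fin k)) (P : GL ι F) (f₁ : _), Odd (Fintype.card F) ∧ Odd t ∧
      3 ≤ t ∧ ¬ (Fintype.card F = 3 ∧ k = 2) ∧ PowD (RingHom.id F) f e P (-1) f₁ ∧
      H ≤ tensorWreathSubgroup k t e P) ∨
  InSymplecticResidualClass H

section sp
variable [Fintype F] {f : (ι → F) → (ι → F) → F} {H : Subgroup (GL ι F)}

lemma HForm.selfAdj_iff {σ : F →+* F} {ε : F} (hf : HForm σ ε f) {K : Subalgebra F (Matrix ι ι F)} :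
    IsSelfAdjointFor f K ↔ ∀ x ∈ K, adj σ f x = x :=
  ⟨fun h x hx => hf.adj_eq (h x hx), fun h x hx u v => by rw [hf.adj_spec, h x hx]⟩

lemma HForm.adjClosed_iff {σ : F →+* F} {ε : F} (hf : HForm σ ε f)
    {K : Subalgebra F (Matrix ι ι F)} : IsAdjointClosedFor f K ↔ ∀ x ∈ K, adj σ f x ∈ K :=
  ⟨fun h x hx => by obtain ⟨y, hy, h1⟩ := h x hx; rwa [hf.adj_eq h1],
    fun h x hx => ⟨_, h x hx, hf.adj_spec x⟩⟩

lemma spCase_of_inO (h2 : (2 : F) = 0) (h : InO f H) : SpCase f H := by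
  iterate 6 right
  exact Or.inl ⟨fun h3 => two_ne_zero_iff_odd.mpr h3 h2, h⟩

lemma spCase_of_red (hf : IsSymplecticForm f) (hH : H ≤ isoG f) (hi : ¬ Irr H) : SpCase f H := by
  have hf' := hform_of_symplectic hf
  rcases hf'.red (hH.trans (isoG_le_sim f)) hi with h | ⟨W, h1, h2, h3, h4⟩
  · exact Or.inl h
  · rcases h3.lt_or_eq with h5 | h5
    · exact Or.inr (Or.inl ⟨W, h1, h2, h5, h4⟩)
    · obtain ⟨h6, h7⟩ := hf'.pair_decomp h1 h2 h5
      exact Or.inr (Or.inr (Or.inl ⟨_, _, _, h6, (le_inf (hH.trans (isoG_le_sim f)) h4).trans h7⟩))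

lemma spCase_of_comm [Nonempty ι] (hf : IsSymplecticForm f) (hH : H ≤ isoG f)
    (C : Subalgebra F (Matrix ι ι F)) (hc : ∀ x ∈ C, ∀ y ∈ C, x * y = y * x)
    (hn : ∀ h ∈ H, ∀ x ∈ C, cj h x ∈ C) (ha : ∀ x ∈ C, adj (RingHom.id F) f x ∈ C) (hne : C ≠ ⊥) :
    SpCase f H := by
  by_cases hi : Irr H
  swap
  · exact spCase_of_red hf hH hi
  have hf' := hform_of_symplectic hf
  have hs := hH.trans (isoG_le_sim f)
  rcases hf'.comm_cases hs hi C hc hn ha hne with ⟨t, m, D, h1, h2, -⟩ |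
    ⟨m, e, h1, h2, h3, h4, h5, h6, h7, -⟩ | ⟨r, K, h1, h2, -, h3, h4, -⟩
  · exact Or.inr (Or.inr (Or.inl ⟨t, m, D, h1, h2⟩))
  · by_cases h8 : (2 : F) = 0
    · refine spCase_of_inO h8 ((hf'.one_of_two h8).inO_of_half (k := e 0) (by rw [h3, h2]; simp)
        hH fun g hg v => ?_)
      rcases h7 g hg with h9 | h9 <;> rw [h9]
      · rw [sub_self, Matrix.zero_mulVec, hf'.zero_left]
      · rw [h2, sub_sub, ← two_smul F, h8, zero_smul, sub_zero, Matrix.one_mulVec, hf.alternating]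
    · exact Or.inr (Or.inr (Or.inr (Or.inl ⟨m, _, two_ne_zero_iff_odd.mp h8, h4, h5, h6⟩)))
  by_cases h5 : ∀ x ∈ K, adj (RingHom.id F) f x = x
  · iterate 7 right
    exact Or.inl ⟨r, K, h1, h2, hf'.selfAdj_iff.mpr h5,
      fun k hk => hf'.alt_of_selfAdj hf.alternating h2 h3 hk (h5 k hk), h4⟩
  by_cases h8 : (2 : F) = 0
  · push Not at h5
    obtain ⟨x, hx, h5⟩ := h5
    have h9 : ∀ X : Matrix ι ι F, -X = X := fun X => by
      rw [neg_eq_iff_add_eq_zero, ← two_smul F, h8, zero_smul]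
    obtain ⟨y, hy, h6⟩ := h2.inv _ (add_mem hx (h3 x hx)) fun h0 =>
      h5 ((eq_neg_of_add_eq_zero_right h0).trans (h9 x))
    have h7 : adj (RingHom.id F) f y = y := by
      have := congrArg (adj (RingHom.id F) f) h6
      rw [hf'.adj_mul, hf'.adj_add, hf'.adj_adj, hf'.adj_one, add_comm] at this
      rw [← mul_one (adj _ f y), ← h6, ← mul_assoc, this, one_mul]
    have h10 : x * y + adj (RingHom.id F) f (x * y) = 1 := by
      rw [hf'.adj_mul, h7, h2.comm y hy _ (h3 x hx), ← add_mul, h6]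
    refine spCase_of_inO h8 ((hf'.one_of_two h8).inO_of_half h10 hH fun g hg v =>
      hf'.alt_of_selfAdj hf.alternating h2 h3 (sub_mem ((mem_subalgebraNormalizer.mp (h4 hg) _).mp
        (mul_mem hx hy)) (mul_mem hx hy)) ?_ v)
    rw [hf'.adj_sub, hf'.adj_cj (hs hg), eq_sub_of_add_eq' h10, map_sub, map_one, ← h9 (_ - _)]
    abel
  · obtain rfl : r = 2 := by
      by_contra h0
      exact h5 (hf'.selfAdj_of_odd h2 h3 (h1.odd_of_ne_two h0))
    iterate 8 right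
    exact Or.inl ⟨K, two_ne_zero_iff_odd.mp h8, h2, hf'.adjClosed_iff.mpr h3,
      fun h0 => h5 (hf'.selfAdj_iff.mp h0), h4⟩

lemma spCase_of_kron (hf : IsSymplecticForm f) (hH : H ≤ isoG f) (h2 : (2 : F) ≠ 0) {a b : ℕ}
    {e : ι ≃ Fin a × Fin b} {P : GL ι F} {f₁ : _} {f₂ : _}
    (h : KronD (RingHom.id F) f e P (-1) f₁ 1 f₂) (hle : H ≤ tensorProductSubgroup a b e P) :
    SpCase f H := by
  have hf' := hform_of_symplectic hf
  rcases h.two_le₂.lt_or_eq with h3 | rfl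
  · iterate 9 right
    exact Or.inl ⟨a, b, e, P, f₁, f₂, two_ne_zero_iff_odd.mp h2, h3, h, hle⟩
  · have := h.two_le₁
    have : Nonempty ι := ⟨e.symm (⟨0, by omega⟩, 0)⟩
    obtain ⟨Ω, h3, h4, h5⟩ := h.exists_comm hf' h2
    obtain ⟨C, a1, a2, a3, a4⟩ := hf'.comm_of_skew h2 h3 h4 (H := H)
      fun g hg => h5 g ⟨hle hg, isoG_le_sim f (hH hg)⟩
    exact spCase_of_comm hf hH C a1 a2 a3 a4

theorem spCase (hf : IsSymplecticForm f) (hn : 2 ≤ Fintype.card ι) (hH : H ≤ isoG f) :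
    SpCase f H := by
  have : Nonempty ι := Fintype.card_pos_iff.mp (by omega)
  by_cases hi : Irr H
  swap
  · exact spCase_of_red hf hH hi
  have hf' := hform_of_symplectic hf
  have hs : H ⊔ scalars ι F ≤ similarityGroup f :=
    sup_le (hH.trans (isoG_le_sim f)) (scalars_le_similarityGroup hf'.toSesq)
  have h5 : ∀ N, spanAlg F N = ⊤ → N ≤ isoG f → (∀ h ∈ H, ∀ x ∈ N, h * x * h⁻¹ ∈ N) →
      (∃ F₀ : Subfield F, F₀ ≠ ⊤ ∧ RealisableOver F₀ (matrixSet N)) → SpCase f H := by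
    rintro N h1 h2 h3 ⟨F₀, h4, h5⟩
    iterate 4 right
    exact Or.inl (hf'.fc5_of_realisable h1 h2 h3 h4 h5)
  rcases hf'.master hn hH hi with ⟨N, -, h1, h2, h3⟩ | ⟨a, b, e, P, ε₁, ε₂, f₁, f₂, h1, h2⟩ |
    ⟨N, r, h⟩ | ⟨k, t, e, P, ε₁, f₁, h1, h2, h3⟩ | ⟨P, h⟩
  · exact spCase_of_comm hf hH _ (ctr_comm N) (cj_mem_ctr h2) (hf'.adj_mem_ctr (h1.trans hs)) h3
  · by_cases h8 : (2 : F) = 0
    · have a1 := (h1.hf₂.one_of_two h8).alt_of_irr h8 (by simpa using h1.two_le₂)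
        (h1.irr₂ hf' hi h2 (le_sup_left.trans hs)) le_rfl
      have a2 := (h1.hf₁.one_of_two h8).alt_of_irr h8 (by simpa using h1.two_le₁)
        (h1.swap.irr₂ hf' hi (by rwa [tensorProductSubgroup_swap]) (le_sup_left.trans hs)) le_rfl
      obtain ⟨Q, a3, rfl, a4⟩ := KronD.exists_quad (hf'.one_of_two h8)
        ⟨h1.1, h1.2, h1.hf₁.one_of_two h8, h1.4, h1.5, h1.6⟩ a2 a1
      exact spCase_of_inO h8 ⟨Q, a3, rfl, (le_inf h2 hH).trans (tensor_le_isometryGroup a3 a4)⟩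
    · obtain ⟨c, h3, h4, -⟩ := h1.form hf'
      have h6 : (-1 : F) ≠ 1 := fun h => h8 (by linear_combination -h)
      rw [RingHom.id_apply, mul_comm, mul_right_inj' h3] at h4
      rcases h1.hf₁.eps_id with rfl | rfl <;> rcases h1.hf₂.eps_id with rfl | rfl
      · exact absurd (by simpa using h4) h6
      · exact spCase_of_kron hf hH h8 h1.swap (by rwa [tensorProductSubgroup_swap])
      · exact spCase_of_kron hf hH h8 h1 h2
      · exact absurd (by simpa using h4) h6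
  · obtain rfl := h.eq_two hf' hs
    have hR := h.extraR_iso hf' hs
    have h1 := hR.card_center_iso hf' h inf_le_right
    have h2 : (2 : F) ≠ 0 := by
      obtain ⟨k, hk, h2⟩ := hR.exists_card_eq_pow h
      have := h.card_ne_zero
      rw [h2, Nat.cast_pow] at this
      exact fun h0 => this (by rw [Nat.cast_ofNat, h0, zero_pow (by omega)])
    have hN := fun g hg => hR.normal g (Subgroup.mem_sup_left hg)
    by_cases hp : (Fintype.card F).Prime
    · obtain ⟨k, -, hk⟩ := hR.exists_card_eq_pow h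
      iterate 5 right
      exact Or.inl ⟨_, k, hR.symplecticType h, absIrr_of_spanAlg_eq_top (hR.span h), inf_le_right,
        hp, two_ne_zero_iff_odd.mp h2, hk, by rw [hR.card_eq h, h1, hk]; ring, h1,
        hR.minus hf' hf.alternating h2 h inf_le_right hk, le_subgroupNormalizer hN⟩
    · obtain ⟨F₀, h3⟩ := exists_prime_subfield hp
      refine h5 _ (hR.span h) inf_le_right hN ⟨F₀, h3, hR.realisable h F₀ fun c hc => ?_⟩
      rw [h1, sq] at hc
      rcases mul_self_eq_one_iff.mp (congrArg Units.val hc) with h4 | h4 <;> rw [h4]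
      · exact one_mem _
      · exact neg_mem (one_mem _)
  · by_cases h8 : (2 : F) = 0
    · obtain ⟨Q, a3, rfl, a4⟩ := PowD.exists_quad (hf'.one_of_two h8)
        ⟨h1.1, h1.2, h1.hf₁.one_of_two h8, h1.4⟩ (h1.alt hf' hf.alternating)
      exact spCase_of_inO h8 ⟨Q, a3, rfl, (le_inf h3 hH).trans (wreath_le_isometryGroup a3 a4)⟩
    · obtain ⟨c, h4, h6, -⟩ := h1.form hf'
      have h7 : (-1 : F) ≠ 1 := fun h => h8 (by linear_combination -h)
      rw [RingHom.id_apply, mul_comm, mul_right_inj' h4] at h6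
      rcases h1.hf₁.eps_id with rfl | rfl
      · exact absurd (by simpa using h6) h7
      have h9 : Odd t := Nat.not_even_iff_odd.mp fun h0 => h7 (by rw [h6, h0.neg_one_pow])
      iterate 10 right
      refine Or.inl ⟨k, t, e, P, f₁, two_ne_zero_iff_odd.mp h8, h9, ?_, ?_, h1, h3⟩
      · have := h1.two_le_t; obtain ⟨j, rfl⟩ := h9; omega
      · rintro ⟨h10, rfl⟩
        have := solvable_GL2 h10.le
        exact h2 inferInstance
  · by_cases h1 : ∃ F₀ : Subfield F, F₀ ≠ ⊤ ∧ RealisableOver F₀ (matrixSet P)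
    · exact h5 P h.span (h.le_iso.trans hH) h.normal' h1
    by_cases h2 : ∃ Q : (ι → F) → F, IsNondegenerateQuadraticForm Q ∧ FixesQuadForm (matrixSet P) Q
    · obtain ⟨Q, h2, h3⟩ := h2
      obtain ⟨c, hc⟩ := (hform_of_quad h2).exists_eq_smul hf'.toSesq h.span fun x hx =>
        ⟨1, by simpa using fixes_of_fixesQuadForm h3 x hx, mult_one_iff.mpr (hH (h.le_iso hx))⟩
      obtain ⟨u, v, huv⟩ := hf'.exists_ne
      have h4 : c ≠ 0 := by rintro rfl; exact huv (by rw [hc, zero_mul])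
      have h8 : (2 : F) = 0 := by
        have h6 := hf.skew u v
        rw [hc v, ← (hform_of_quad h2).symm, ← hc] at h6
        exact (mul_eq_zero.mp (by linear_combination h6 : 2 * f u v = 0)).resolve_right huv
      have h6 : QuadraticMap.polar (fun v => c * Q v) = f := by
        funext u v; rw [hc]; simp only [QuadraticMap.polar]; ring
      have h7 : IsNondegenerateQuadraticForm (fun v => c * Q v) :=
        ⟨fun d v => by rw [h2.smul]; ring, h6.symm ▸ hf.bilinear, h6.symm ▸ hf.nondegenerate⟩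
      exact spCase_of_inO h8 ⟨_, h7, h6, fun g hg => mem_isometryGroup_of_normalizes hn h7
        (irr_of_spanAlg_eq_top h.span) (fun x hx => mem_isometryGroup'.mpr fun v => by
          rw [h3 _ ⟨x, hx, rfl⟩]) (h6.symm ▸ hH hg) (h.normal' g hg)⟩
    iterate 11 right
    refine ⟨P, h.core fun F₀ h3 h4 => h1 ⟨F₀, h3, h4⟩, h2, ?_⟩
    rintro ⟨σ, f', h3, h4⟩
    exact h1 (realisable_of_two_forms (hform_of_unitary h3) (coe_ne_id h3.ne_refl) hf' h.span
      (fixes_of_fixesForm h4) (h.le_iso.trans hH))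

end sp

end Cfsg.Agent.H18
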