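import Cfsg.Agent.H18.SzC
import Cfsg.Agent.H18.MiF
import Cfsg.Agent.H11.Count
import Cfsg.Agent.H11.Three
import Cfsg.Agent.SzE.A

/-! Simple irreducible subgroups of `Sp₄` (characteristic two) containing a transvection. -/

set_option autoImplicit false
set_option linter.unusedSectionVars false
set_option linter.style.haveILetI false

namespace Cfsg.Agent.H18.Sq

open Matrix Cfsg.Lie Cfsg.Agent.H19

variable {F : Type*} [Field F] [CharP F 2] [Finite F] {P : Subgroup (GL (Fin 4) F)}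
  {g h k : GL (Fin 4) F} {x y w u v z : Fin 4 → F}

/-- All root groups have order two. -/
def Sm (P : Subgroup (GL (Fin 4) F)) : Prop :=
  ∀ v (c : F), v ≠ 0 → tv v ∈ P → tv (c • v) ∈ P → c = 0 ∨ c = 1

theorem tsum (hP : P ≤ Sp4 F) (hh : h ∈ P) {κ ρ τ : F} (k1 : κ ≠ 1) (e1 : h ⋆ x = κ • x)
    (e2 : h ⋆ z = z) (xz : 𝔹 x z = 0) (hu : tv (ρ • x + τ • z) ∈ P) : tv (τ • z) ∈ P := by
  haveI := Fintype.ofFinite F
  let A : F → F → F → Prop := fun p q r => ∃ g ∈ P, ∀ v,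
    g ⋆ v = v + (p * 𝔹 v x + q * 𝔹 v z) • x + (q * 𝔹 v x + r * 𝔹 v z) • z
  have a1 : ∀ p q r p' q' r', A p q r → A p' q' r' → A (p + p') (q + q') (r + r') := by
    rintro p q r p' q' r' ⟨g, hg, e⟩ ⟨g', hg', e'⟩
    refine ⟨g * g', mul_mem hg hg', fun v => ?_⟩
    rw [ac_mul, e, e']
    simp only [B_addl, B_smull, B_self, xz, B_comm z x]
    ext i; simp only [Pi.add_apply, Pi.smul_apply, smul_eq_mul]; ring
  have a2 : ∀ s t, tv (s • x + t • z) ∈ P → A (s ^ 2) (s * t) (t ^ 2) := fun s t hs =>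
    ⟨_, hs, fun v => by
      rw [tv_ac, B_addr, B_smulr, B_smulr]
      ext i; simp only [Pi.add_apply, Pi.smul_apply, smul_eq_mul]; ring⟩
  have a3 : ∀ n : ℕ, tv ((κ ^ n * ρ) • x + τ • z) ∈ P := fun n => by
    induction n with
    | zero => simpa using hu
    | succ n ih =>
      have := tv_img hP hh ih
      rwa [mulVec_add, mulVec_smul, mulVec_smul, e1, e2, smul_smul,
        show κ ^ n * ρ * κ = κ ^ (n + 1) * ρ by ring] at this
  have a4 : ∀ n : ℕ, A ((∑ i ∈ Finset.range n, (κ ^ 2) ^ i) * ρ ^ 2)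
      ((∑ i ∈ Finset.range n, κ ^ i) * (ρ * τ)) (n * τ ^ 2) := fun n => by
    induction n with
    | zero => exact ⟨1, one_mem _, fun v => by simp⟩
    | succ n ih =>
      have := a1 _ _ _ _ _ _ ih (a2 _ _ (a3 n))
      rw [Finset.sum_range_succ, Finset.sum_range_succ]
      convert this using 1 <;> push_cast <;> ring
  have a5 : ∀ c : F, c ≠ 1 → ∑ i ∈ Finset.range (Fintype.card F), c ^ i = 1 := fun c hc => by
    have := geom_sum_mul c (Fintype.card F)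
    rw [FiniteField.pow_card] at this
    exact mul_right_cancel₀ (sub_ne_zero.2 hc) (by rw [this, one_mul])
  have a6 := a4 (Fintype.card F)
  rw [a5 κ k1, a5 _ (fun e => k1 (sq_inj (by rw [e, one_pow]))), FiniteField.cast_card_eq_zero] at a6
  obtain ⟨g, hg, e⟩ := a1 _ _ _ _ _ _ a6 (a2 _ _ hu)
  rwa [show tv (τ • z) = g from ext_ac fun v => by
    rw [e, tv_ac, B_smulr]
    ext i; simp only [Pi.add_apply, Pi.smul_apply, smul_eq_mul]; grind]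

theorem flat3 (hP : P ≤ Sp4 F) (hs : Sm P) (hx : tv x ∈ P) (hy : tv y ∈ P) (hw : tv w ∈ P)
    {a b : F} (hu : tv (a • x + b • y) ∈ P) (u0 : a • x + b • y ≠ 0) (xy : 𝔹 x y = 0)
    (h1 : 𝔹 w x ≠ 0) (h2 : 𝔹 w y ≠ 0) (h3 : 𝔹 w x ≠ 𝔹 w y) : a + b = 1 := by
  obtain ⟨j, hj, j1, -, j3⟩ := sw' hP hx hw (by rwa [B_comm])
  obtain ⟨j', hj', -, j4, j5⟩ := sw' hP hy hw (by rwa [B_comm])
  obtain ⟨κ, hκ⟩ : ∃ κ, κ * 𝔹 w x = 𝔹 w y := ⟨_, div_mul_cancel₀ _ h1⟩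
  have k0 : κ ≠ 0 := by rintro rfl; exact h2 (by rw [← hκ, zero_mul])
  have k1 : κ ≠ 1 := by rintro rfl; exact h3 (by rw [← hκ, one_mul])
  obtain ⟨s, hs'⟩ : ∃ s, s * (1 + κ) = 1 := ⟨_, inv_mul_cancel₀ fun e => k1 (by grind)⟩
  obtain ⟨z, hz⟩ : ∃ z, z = s • (κ • x + y) := ⟨_, rfl⟩
  have z1 : 𝔹 z x = 0 := by simp [hz, B_smull, B_addl, B_self, B_comm y x, xy]
  have z2 : 𝔹 z y = 0 := by simp [hz, B_smull, B_addl, B_self, xy]
  have z3 : 𝔹 z w = 0 := by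
    rw [hz, B_smull, B_addl, B_smull, B_comm x, B_comm y, hκ, CharTwo.add_self_eq_zero, mul_zero]
  have e1 : (j' * j) ⋆ x = y := by rw [ac_mul, j1, j4]
  have e2 : (j' * j) ⋆ z = z := by rw [ac_mul, j3 z z1 z3, j5 z z2 z3]
  have e3 : (j' * j) ⋆ (x + y) = κ • (x + y) := by
    rw [hz, mulVec_smul, mulVec_add, mulVec_smul, e1] at e2
    rw [mulVec_add, e1]
    ext i
    have := congrFun e2 i
    simp only [Pi.add_apply, Pi.smul_apply, smul_eq_mul] at this ⊢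
    grind
  have xz : 𝔹 (x + y) z = 0 := by rw [B_comm, B_addr, z1, z2, add_zero]
  have e4 : x = s • (x + y) + (1 : F) • z := by
    rw [hz]; ext i; simp only [Pi.add_apply, Pi.smul_apply, smul_eq_mul]; grind
  have e5 : a • x + b • y = (a * s + b * (s + 1)) • (x + y) + (a + b) • z := by
    rw [hz]; ext i; simp only [Pi.add_apply, Pi.smul_apply, smul_eq_mul]; grind
  have t1 := tsum hP (mul_mem hj' hj) k1 e3 e2 xz (e4 ▸ hx)
  have t2 := tsum hP (mul_mem hj' hj) k1 e3 e2 xz (e5 ▸ hu)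
  rw [one_smul] at t1
  have z0 : z ≠ 0 := fun e => by
    have : κ • x = y := by
      rw [e] at hz
      ext i
      have := congrFun hz i
      simp only [Pi.add_apply, Pi.smul_apply, smul_eq_mul, Pi.zero_apply] at this ⊢
      grind
    exact (hs x κ (fun e => h1 (by rw [e, B_zeror])) hx (this ▸ hy)).elim k0 k1
  refine (hs z _ z0 t1 t2).resolve_left fun e => ?_
  rw [e, zero_smul, add_zero] at e5
  have := tv_img hP (mul_mem hj' hj) hu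
  rw [e5, mulVec_smul, e3, smul_comm, ← e5] at this
  exact (hs _ κ u0 hu this).elim k0 k1

theorem nonflat (hP : P ≤ Sp4 F) (hi : Irr P) (hs : Sm P) (hx : tv x ∈ P) (hy : tv y ∈ P)
    (x0 : x ≠ 0) (y0 : y ≠ 0) (hne : x ≠ y) {a b : F} (hu : tv (a • x + b • y) ∈ P)
    (u0 : a • x + b • y ≠ 0) (xy : 𝔹 x y = 0) (hab : a + b ≠ 1) : a = 1 ∧ b = 1 := by
  have a0 : a ≠ 0 := by
    rintro rfl
    rw [zero_smul, zero_add] at hu u0
    rcases hs y b y0 hy hu with e | e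
    · exact u0 (by rw [e, zero_smul])
    · exact hab (by rw [e, zero_add])
  have b0 : b ≠ 0 := by
    rintro rfl
    rw [zero_smul, add_zero] at hu u0
    rcases hs x a x0 hx hu with e | e
    · exact a0 e
    · exact hab (by rw [e, add_zero])
  have key : ∀ w, tv w ∈ P → (𝔹 w x = 0 ∨ 𝔹 w y = 0 ∨ 𝔹 w x = 𝔹 w y) ∧
      (𝔹 w x = 0 ∨ a * 𝔹 w x + b * 𝔹 w y = 0 ∨ 𝔹 w x = a * 𝔹 w x + b * 𝔹 w y) ∧
      (𝔹 w y = 0 ∨ a * 𝔹 w x + b * 𝔹 w y = 0 ∨ 𝔹 w y = a * 𝔹 w x + b * 𝔹 w y) := fun w hw => by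
    have e : 𝔹 w (a • x + b • y) = a * 𝔹 w x + b * 𝔹 w y := by rw [B_addr, B_smulr, B_smulr]
    refine ⟨?_, ?_, ?_⟩ <;> by_contra! H
    · exact hab (flat3 hP hs hx hy hw hu u0 xy H.1 H.2.1 H.2.2)
    · have e1 : (a / b) • x + b⁻¹ • (a • x + b • y) = y := by
        ext i; simp only [Pi.add_apply, Pi.smul_apply, smul_eq_mul]; field_simp; grind
      have := flat3 hP hs hx hu hw (e1.symm ▸ hy) (e1.symm ▸ y0)
        (by rw [B_addr, B_smulr, B_smulr, B_self, xy]; ring) H.1 (e ▸ H.2.1) (e ▸ H.2.2)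
      field_simp at this
      exact hab (by grind)
    · have e1 : (b / a) • y + a⁻¹ • (a • x + b • y) = x := by
        ext i; simp only [Pi.add_apply, Pi.smul_apply, smul_eq_mul]; field_simp; grind
      have := flat3 hP hs hy hu hw (e1.symm ▸ hx) (e1.symm ▸ x0)
        (by rw [B_addr, B_smulr, B_smulr, B_self, B_comm, xy]; ring) H.1 (e ▸ H.2.1) (e ▸ H.2.2)
      field_simp at this
      exact hab (by grind)
  obtain ⟨g1, hg1, e1⟩ := exists_B hP hi x0 x0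
  obtain ⟨g2, hg2, e2⟩ := exists_B hP hi x0 y0
  obtain ⟨g3, hg3, e3⟩ := exists_B hP hi x0 (v := x + y) fun e => hne (by
    rw [← add_zero x, ← e, ← add_assoc, vadd_self, zero_add])
  have k1 := key _ (tv_img hP hg1 hx)
  have k2 := key _ (tv_img hP hg2 hx)
  have k3 := key _ (tv_img hP hg3 hx)
  rw [B_addr] at e3
  generalize 𝔹 (g1 ⋆ x) x = p1 at *
  generalize 𝔹 (g1 ⋆ x) y = q1 at *
  generalize 𝔹 (g2 ⋆ x) x = p2 at *
  generalize 𝔹 (g2 ⋆ x) y = q2 at *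
  generalize 𝔹 (g3 ⋆ x) x = p3 at *
  generalize 𝔹 (g3 ⋆ x) y = q3 at *
  have f1 : a = 1 ∨ a = b := by clear * - k1 e1 a0 b0 hab; grind
  have f2 : b = 1 ∨ a = b := by clear * - k2 e2 a0 b0 hab; grind
  have f3 : a = 1 ∨ b = 1 := by clear * - k3 e3 a0 b0 hab; grind
  clear * - f1 f2 f3; grind

theorem small_one (hP : P ≤ Sp4 F) (hi : Irr P) (hs : Sm P) (hx : tv x ∈ P) (hy : tv y ∈ P)
    (hu : tv (x + y) ∈ P) (y0 : y ≠ 0) (xy : 𝔹 x y = 0) (hw : tv w ∈ P) (h1 : 𝔹 w x ≠ 0)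
    (h2 : 𝔹 w y = 0) : 𝔹 w x = 1 := by
  have e : tv x ⋆ tv (x + y) ⋆ w = (1 : F) • w + 𝔹 w x • y := by
    simp only [tv_ac, B_addl, B_addr, B_smull, B_self, B_comm y x, xy, h2]
    ext i; simp only [Pi.add_apply, Pi.smul_apply, smul_eq_mul]; grind
  have w0 : w ≠ 0 := fun e => h1 (by rw [e, B_zerol])
  exact (nonflat hP hi hs hw hy w0 y0 (fun e => h1 (by rw [e, B_comm, xy]))
    (e ▸ tv_img hP hx (tv_img hP hu hw)) (e ▸ ac_ne _ (ac_ne _ w0)) h2 (by simpa using h1)).2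

theorem exists_sylow {G : Type*} [Group G] {a b : G} (a2 : a * a = 1) (b2 : b * b = 1)
    (c : Commute a b) : ∃ S : Sylow 2 G, a ∈ S ∧ b ∈ S := by
  have h1 : ∀ i j : ℕ, (a ^ i * b ^ j) ^ 2 = 1 := fun i j => by
    rw [(c.pow_pow i j).mul_pow, ← pow_mul, ← pow_mul, mul_comm i, mul_comm j, pow_mul, pow_mul,
      sq, sq, a2, b2]; simp
  let A : Subgroup G :=
    { carrier := {g | ∃ i j : ℕ, g = a ^ i * b ^ j}
      one_mem' := ⟨0, 0, by simp⟩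
      mul_mem' := by
        rintro _ _ ⟨i, j, rfl⟩ ⟨k, l, rfl⟩
        exact ⟨i + k, j + l, by
          rw [pow_add, pow_add, (c.symm.pow_pow j k).mul_mul_mul_comm]⟩
      inv_mem' := by
        rintro _ ⟨i, j, rfl⟩
        exact ⟨i, j, inv_eq_of_mul_eq_one_right (by rw [← sq, h1])⟩ }
  have h2 : IsPGroup 2 A := by
    rintro ⟨_, i, j, rfl⟩
    exact ⟨1, Subtype.ext (h1 i j)⟩
  obtain ⟨S, hS⟩ := h2.exists_le_sylow
  exact ⟨S, hS ⟨1, 0, by simp⟩, hS ⟨0, 1, by simp⟩⟩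

theorem perp2 (hs : Sm P) (hx : tv x ∈ P) (hy : tv y ∈ P) (x0 : x ≠ 0) (y0 : y ≠ 0) (hne : x ≠ y)
    (xy : 𝔹 x y = 0) : ∃ m, 𝔹 x m = 1 ∧ 𝔹 y m = 1 ∧
      ∀ v, 𝔹 x v = 0 → 𝔹 y v = 0 → ∃ a b : F, v = a • x + b • y := by
  obtain ⟨n, hn⟩ := exists_B_one (a := x + y) fun e => hne (by
    rw [← add_zero x, ← e, ← add_assoc, vadd_self, zero_add])
  obtain ⟨x', hx'⟩ : ∃ x', x' = x + 𝔹 x n • (x + y) := ⟨_, rfl⟩
  have x1 : x' ≠ 0 := fun e => by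
    rw [e] at hx'
    by_cases c0 : 𝔹 x n = 0
    · exact x0 (by rw [hx', c0, zero_smul, add_zero])
    have : ((1 + 𝔹 x n) / 𝔹 x n) • x = y := by
      ext i
      have := congrFun hx' i
      simp only [Pi.add_apply, Pi.smul_apply, smul_eq_mul, Pi.zero_apply] at this ⊢
      field_simp; grind
    rcases hs x _ x0 hx (this ▸ hy) with e | e <;> rw [e] at this
    · exact y0 (by rw [← this, zero_smul])
    · exact hne (by rw [← this, one_smul])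
  obtain ⟨m0, hm0⟩ := exists_B_one x1
  obtain ⟨m, hm⟩ : ∃ m, m = m0 + 𝔹 m0 n • (x + y) + 𝔹 m0 (x + y) • n := ⟨_, rfl⟩
  have b1 : 𝔹 (x + y) x' = 0 := by simp [hx', B_addl, B_addr, B_smulr, B_self, B_comm y x, xy]
  have b2 : 𝔹 (x + y) m = 0 := by
    rw [hm, B_addr, B_addr, B_smulr, B_smulr, B_self, hn, B_comm m0 (x + y)]; grind
  have b3 : 𝔹 x' n = 0 := by rw [hx', B_addl, B_smull, hn]; grind
  have b4 : 𝔹 x' m = 1 := by
    rw [hm, B_addr, B_addr, B_smulr, B_smulr, hm0, b3, B_comm x', b1]; ring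
  have b5 : 𝔹 m n = 0 := by rw [hm, B_addl, B_addl, B_smull, B_smull, B_self, hn]; grind
  have b6 : 𝔹 x m = 1 := by rwa [hx', B_addl, B_smull, b2, mul_zero, add_zero] at b4
  obtain ⟨A, -, eA⟩ := exists_sb b1 b2 hn b4 b3 b5
  refine ⟨m, b6, by rw [B_addl, b6] at b2; grind, fun v h1 h2 => ?_⟩
  have e := eA (A⁻¹ ⋆ v)
  rw [ac_inv] at e
  generalize A⁻¹ ⋆ v = s at e
  have h3 : 𝔹 (x + y) v = 0 := by rw [B_addl, h1, h2, add_zero]
  have h4 : 𝔹 x' v = 0 := by rw [hx', B_addl, B_smull, h1, h3]; ring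
  rw [e] at h3 h4
  simp only [B_addr (_ : Fin 4 → F) _ (_ • _), B_smulr, B_self, b1, b2, b3, b4, hn,
    B_comm x' (x + y), mul_zero, zero_add, add_zero, mul_one] at h3 h4
  refine ⟨s 0 + s 1 * (1 + 𝔹 x n), s 0 + s 1 * 𝔹 x n, ?_⟩
  rw [e, h3, h4, hx']
  ext i; simp only [Pi.add_apply, Pi.smul_apply, smul_eq_mul]; ring

theorem not_flat [IsSimpleGroup P] (hna : ¬ IsMulCommutative P) (hP : P ≤ Sp4 F) (hs : Sm P)
    (hx : tv x ∈ P) (hy : tv y ∈ P) (x0 : x ≠ 0) (y0 : y ≠ 0) (hne : x ≠ y) (xy : 𝔹 x y = 0)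
    (H : ∀ a b : F, tv (a • x + b • y) ∈ P → a • x + b • y ≠ 0 → a + b = 1) : False := by
  obtain ⟨m, xm, ym, hm⟩ := perp2 hs hx hy x0 y0 hne xy
  obtain ⟨S, s1, s2⟩ := exists_sylow (a := (⟨tv x, hx⟩ : P)) (b := ⟨tv y, hy⟩)
    (Subtype.ext (tv_sq x)) (Subtype.ext (tv_sq y)) (Subtype.ext (ext_ac fun v => by
      simp only [Subgroup.coe_mul, ac_mul, tv_ac, B_addl, B_smull, xy, B_comm y x]
      ext i; simp only [Pi.add_apply, Pi.smul_apply, smul_eq_mul]; ring))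
  have h1 : ∀ u v, ∀ a ∈ S, ∀ b ∈ S, a.1 = tv u → b.1 = tv v → 𝔹 u v = 0 := by
    intro u v a ha b hb e1 e2
    obtain ⟨k, hk⟩ := S.2 ⟨a * b, mul_mem ha hb⟩
    have h2 : (tv u * tv v) ^ 2 ^ k = 1 := by
      rw [← e1, ← e2]; exact congrArg (fun g : S => g.1.1) hk
    have h3 := S4.tr_pow k (tv u * tv v).1
    rw [← Units.val_pow_eq_pow_val, h2, trace_one4, trace_tv_tv, ← pow_mul] at h3
    exact pow_eq_zero_iff (by positivity) |>.1 h3.symm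
  have h2 : ∀ v, v ≠ 0 → ∀ a ∈ S, a.1 = tv v → 𝔹 v m = 1 := by
    intro v v0 a ha e
    obtain ⟨p, q, rfl⟩ := hm v (h1 _ _ _ s1 a ha rfl e) (h1 _ _ _ s2 a ha rfl e)
    rw [B_addl, B_smull, B_smull, xm, ym, mul_one, mul_one]
    exact H p q (e ▸ a.2) v0
  have h3 : ∀ g ∈ S, 𝔹 (g.1 ⋆ x) m = 1 ∧ 𝔹 (g.1 ⋆ y) m = 1 := fun g hg =>
    ⟨h2 _ (ac_ne _ x0) _ (mul_mem (mul_mem hg s1) (inv_mem hg)) (tv_conj (hP g.2) x),
      h2 _ (ac_ne _ y0) _ (mul_mem (mul_mem hg s2) (inv_mem hg)) (tv_conj (hP g.2) y)⟩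
  have h4 : ∀ g ∈ S, ∀ k ∈ S, 𝔹 ((g * k).1 ⋆ m) m = 𝔹 (g.1 ⋆ m) m + 𝔹 (k.1 ⋆ m) m := by
    intro g hg k hk
    have h5 := h3 _ (inv_mem hk)
    obtain ⟨p, q, e⟩ := hm (k.1 ⋆ m + m)
      (by rw [B_addr, B_comm, sp' (hP k.2), B_comm, xm]; exact (congrArg (· + 1) h5.1).trans (by grind))
      (by rw [B_addr, B_comm, sp' (hP k.2), B_comm, ym]; exact (congrArg (· + 1) h5.2).trans (by grind))
    have e' : k.1 ⋆ m = m + (p • x + q • y) := by
      rw [← e, add_comm, add_assoc, vadd_self, add_zero]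
    rw [Subgroup.coe_mul, ac_mul, e']
    simp only [mulVec_add, mulVec_smul, B_addl, B_smull, (h3 g hg).1, (h3 g hg).2, xm, ym, B_self,
      zero_add]
  letI := ZMod.algebra F 2
  obtain ⟨f, hf⟩ := Module.Projective.exists_dual_ne_zero (ZMod 2) (one_ne_zero (α := F))
  let T : Subgroup P :=
    { carrier := {g | g ∈ S ∧ f (𝔹 (g.1 ⋆ m) m) = 0}
      one_mem' := ⟨one_mem _, by rw [Subgroup.coe_one, ac_one, B_self, map_zero]⟩
      mul_mem' := fun {a b} ha hb => ⟨mul_mem ha.1 hb.1, by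
        rw [h4 a ha.1 b hb.1, map_add, ha.2, hb.2, add_zero]⟩
      inv_mem' := fun {a} ha => ⟨inv_mem ha.1, by
        rw [Subgroup.coe_inv, B_comm, ← sp' (hP a.2)]; exact ha.2⟩ }
  have h5 : ∀ v, v ≠ 0 → ∀ a ∈ S, a.1 = tv v → 𝔹 (a.1 ⋆ m) m = 1 := fun v v0 a ha e => by
    rw [e, tv_ac, B_addl, B_smull, B_self, B_comm m, h2 v v0 a ha e]; ring
  have h6 : T.relIndex S = 2 := by
    refine Subgroup.relIndex_eq_two_iff.2 ⟨_, s1, fun b hb => ?_⟩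
    change Xor (_ ∧ _) (_ ∧ _)
    rw [h4 b hb _ s1, h5 x x0 _ s1 rfl, map_add]
    have : b * ⟨tv x, hx⟩ ∈ S := mul_mem hb s1
    have hb' : b ∈ S := hb
    simp only [this, hb', true_and]
    generalize f (𝔹 (b.1 ⋆ m) m) = p
    generalize f 1 = q at hf
    revert p q; decide
  obtain ⟨g, hg⟩ := H11.thompson_transfer_sylow (H11.no_index_two_of_simple' hna) S
    (T := T) (fun a ha => ha.1) h6 (u := ⟨tv x, hx⟩) (Subtype.ext (tv_sq x))
  exact hf (by rw [← h5 _ (ac_ne g.1 x0) _ hg.1 (tv_conj (hP g.2) x)]; exact hg.2)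

theorem small [IsSimpleGroup P] (hna : ¬ IsMulCommutative P) (hP : P ≤ Sp4 F) (hi : Irr P)
    (hs : Sm P) (hx : tv x ∈ P) (x0 : x ≠ 0) (hw : tv w ∈ P) : 𝔹 w x = 0 ∨ 𝔹 w x = 1 := by
  obtain ⟨g, c, hne⟩ := Mi.exists_comm_conj hna (t := (⟨tv x, hx⟩ : P)) (by
    rw [← Subgroup.orderOf_coe]
    exact orderOf_eq_prime (by rw [sq]; exact tv_sq x) (tv_ne x0))
  have e : (g * ⟨tv x, hx⟩ * g⁻¹ : P).1 = tv (g.1 ⋆ x) := tv_conj (hP g.2) x
  have y0 := ac_ne g.1 x0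
  have hy := tv_img hP g.2 hx
  have hne' : x ≠ g.1 ⋆ x := fun f => hne (Subtype.ext (by rw [e, ← f]))
  have c' : tv x * tv (g.1 ⋆ x) = tv (g.1 ⋆ x) * tv x := by
    rw [← e]; exact congrArg Subtype.val c.eq
  generalize g.1 ⋆ x = y at y0 hy hne' c'
  have xy : 𝔹 x y = 0 := by
    have h1 : tv x ⋆ y = y := tv_inj (by rw [← tv_conj (tv_mem x), c', mul_inv_cancel_right])
    rw [tv_ac, add_eq_left, smul_eq_zero, B_comm] at h1
    exact h1.resolve_right x0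
  obtain ⟨a, b, hu, u0, hab⟩ : ∃ a b : F, tv (a • x + b • y) ∈ P ∧ a • x + b • y ≠ 0 ∧ a + b ≠ 1 := by
    by_contra! H
    exact not_flat hna hP hs hx hy x0 y0 hne' xy H
  obtain ⟨rfl, rfl⟩ := nonflat hP hi hs hx hy x0 y0 hne' hu u0 xy hab
  rw [one_smul, one_smul] at hu u0
  by_cases h1 : 𝔹 w x = 0
  · exact .inl h1
  by_cases h2 : 𝔹 w y = 0
  · exact .inr (small_one hP hi hs hx hy hu y0 xy hw h1 h2)
  by_cases h3 : 𝔹 w x = 𝔹 w y
  · exact .inr (small_one hP hi hs hx hu (by rwa [← add_assoc, vadd_self, zero_add]) u0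
      (by rw [B_addr, B_self, xy, add_zero]) hw h1 (by rw [B_addr, h3]; grind))
  · have := flat3 hP hs hx hy hw (a := 1) (b := 1) (by rwa [one_smul, one_smul])
      (by rwa [one_smul, one_smul]) xy h1 h2 h3
    exact absurd this hab

theorem caseT [IsSimpleGroup P] (hna : ¬ IsMulCommutative P) (hP : P ≤ Sp4 F) (hi : Irr P) {c : F}
    (c0 : c ≠ 0) (c1 : c ≠ 1) (hx : tv x ∈ P) (x0 : x ≠ 0) :
    P = Sp4 F ∨ ∃ K : Subfield F, K ≠ ⊤ ∧ (∀ g ∈ P, g.1.trace ∈ K) ∧ ∃ g ∈ P, g.1.trace ≠ 0 := by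
  have key : ∀ x, x ≠ 0 → tv x ∈ P → (∀ K : Subfield F, (∀ c, tv (c • x) ∈ P → c ∈ K) →
      ∀ g ∈ P, 𝔹 x (g ⋆ x) ∈ K) → P = Sp4 F ∨
      ∃ K : Subfield F, K ≠ ⊤ ∧ (∀ g ∈ P, g.1.trace ∈ K) ∧ ∃ g ∈ P, g.1.trace ≠ 0 := by
    intro x x0 hx H
    obtain ⟨g, hg, e⟩ := exists_B hP hi x0 x0
    have hw := tv_img hP hg hx
    rw [B_comm] at e
    by_cases hK : rootF hP hx hw e = ⊤
    · exact .inl (full hP hi c0 c1 (fun d => show d ∈ rootF hP hx hw e from hK ▸ trivial) x0)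
    · exact .inr ⟨_, hK, traces hP hx x0 _ (H _ fun _ h => h), _, mul_mem hx hw, by
        rw [trace_tv_tv]; exact pow_ne_zero _ e⟩
  by_cases hs : Sm P
  · refine key x x0 hx fun K _ g hg => ?_
    rw [B_comm]
    rcases small hna hP hi hs hx x0 (tv_img hP hg hx) with e | e <;> rw [e]
    · exact zero_mem _
    · exact one_mem _
  · simp only [Sm, not_forall, not_or] at hs
    obtain ⟨v, s, v0, hv, hs, s0, s1⟩ := hs
    exact key v v0 hv fun K hK g hg => big hP hv (tv_img hP hg hv) s0 s1 hs K hK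

end Cfsg.Agent.H18.Sq
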