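import Cfsg.Agent.H18.Master

/-! Forms and tensor decompositions. -/

set_option autoImplicit false

namespace Cfsg.Agent.H18

open Cfsg.Geo
open scoped MatrixGroups Matrix Kronecker

variable {ι : Type} [Fintype ι] [DecidableEq ι] {F : Type*} [Field F]

section transport

variable {κ : Type} [Fintype κ] [DecidableEq κ] {σ : F →+* F} {ε : F}

/-- a form in new coordinates -/
def trF (f : (ι → F) → (ι → F) → F) (e : ι ≃ κ) (P : GL ι F) (x y : κ → F) : F :=
  f ((P : Matrix ι ι F) *ᵥ (x ∘ e)) ((P : Matrix ι ι F) *ᵥ (y ∘ e))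

omit [Fintype κ] [DecidableEq κ] in
lemma HForm.trF {f : (ι → F) → (ι → F) → F} (hf : HForm σ ε f) (e : ι ≃ κ) (P : GL ι F) :
    HForm σ ε (trF f e P) where
  add_left x y v := by
    unfold H18.trF; rw [← hf.add_left, ← Matrix.mulVec_add]; rfl
  smul_left c x v := by
    unfold H18.trF; rw [← hf.smul_left, ← Matrix.mulVec_smul]; rfl
  add_right v x y := by
    unfold H18.trF; rw [← hf.add_right, ← Matrix.mulVec_add]; rfl
  smul_right c v x := by
    unfold H18.trF; rw [← hf.smul_right, ← Matrix.mulVec_smul]; rfl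
  invol := hf.invol
  eps := hf.eps
  herm u v := hf.herm _ _
  nondeg v h := by
    have : (P : Matrix ι ι F) *ᵥ (v ∘ e) = 0 := hf.nondeg _ fun x => by
      have h1 := h ((((P⁻¹ : GL ι F) : Matrix ι ι F) *ᵥ x) ∘ e.symm)
      unfold H18.trF at h1
      rwa [Function.comp_assoc, e.symm_comp_self, Function.comp_id, mulVec_inv_mulVec] at h1
    rw [mulVec_eq_zero_iff] at this
    funext k
    simpa using congrFun this (e.symm k)

lemma HForm.adj_trans {f : (ι → F) → (ι → F) → F} (hf : HForm σ ε f) (e : ι ≃ κ) (P : GL ι F)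
    (X : Matrix κ κ F) : adj σ f (trans e P X) = trans e P (adj σ (H18.trF f e P) X) :=
  hf.adj_eq fun u v => by
    obtain ⟨x, rfl⟩ := exists_eq_mulVec_comp e P u
    obtain ⟨y, rfl⟩ := exists_eq_mulVec_comp e P v
    rw [trans_mulVec, trans_mulVec]
    exact (hf.trF e P).adj_spec X x y

/-- a form given in other coordinates -/
def trB (f : (κ → F) → (κ → F) → F) (e : ι ≃ κ) (P : GL ι F) (u v : ι → F) : F :=
  f ((((P⁻¹ : GL ι F) : Matrix ι ι F) *ᵥ u) ∘ e.symm) ((((P⁻¹ : GL ι F) : Matrix ι ι F) *ᵥ v) ∘ e.symm)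

omit [Fintype κ] [DecidableEq κ] in
lemma trF_trB (f : (κ → F) → (κ → F) → F) (e : ι ≃ κ) (P : GL ι F) : trF (trB f e P) e P = f := by
  funext x y
  simp only [trF, trB, inv_mulVec_mulVec, Function.comp_assoc, e.self_comp_symm, Function.comp_id]

omit [Fintype κ] [DecidableEq κ] in
lemma HForm.trB {f : (κ → F) → (κ → F) → F} (hf : HForm σ ε f) (e : ι ≃ κ) (P : GL ι F) :
    HForm σ ε (trB f e P) where
  add_left x y v := by
    unfold H18.trB; rw [← hf.add_left, Matrix.mulVec_add]; rfl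
  smul_left c x v := by
    unfold H18.trB; rw [← hf.smul_left, Matrix.mulVec_smul]; rfl
  add_right v x y := by
    unfold H18.trB; rw [← hf.add_right, Matrix.mulVec_add]; rfl
  smul_right c v x := by
    unfold H18.trB; rw [← hf.smul_right, Matrix.mulVec_smul]; rfl
  invol := hf.invol
  eps := hf.eps
  herm u v := hf.herm _ _
  nondeg v h := by
    have : (((P⁻¹ : GL ι F) : Matrix ι ι F) *ᵥ v) ∘ e.symm = 0 := hf.nondeg _ fun x => by
      have h1 := h ((P : Matrix ι ι F) *ᵥ (x ∘ e))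
      unfold H18.trB at h1
      rwa [inv_mulVec_mulVec, Function.comp_assoc, e.self_comp_symm, Function.comp_id] at h1
    rw [← mulVec_eq_zero_iff P⁻¹]
    funext k
    simpa using congrFun this (e k)

lemma mem_similarityGroup_trans {f : (ι → F) → (ι → F) → F} {e : ι ≃ κ} {P g : GL ι F}
    {s : GL κ F} (h : (g : Matrix ι ι F) = trans e P (s : Matrix κ κ F)) :
    g ∈ similarityGroup f ↔ s ∈ similarityGroup (trF f e P) := by
  constructor
  · rintro ⟨c, hc⟩
    exact ⟨c, fun x y => by unfold trF; rw [← trans_mulVec, ← trans_mulVec, ← h, hc]⟩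
  · rintro ⟨c, hc⟩
    refine ⟨c, fun u v => ?_⟩
    obtain ⟨x, rfl⟩ := exists_eq_mulVec_comp e P u
    obtain ⟨y, rfl⟩ := exists_eq_mulVec_comp e P v
    rw [h, trans_mulVec, trans_mulVec]
    exact hc x y

end transport

section star

variable {σ : F →+* F} {ε : F}

lemma adj_frm (σ : F →+* F) (G X : Matrix ι ι F) :
    adj σ (frm σ G) X = (G⁻¹ * Xᵀ * G).map σ := by rw [adj, gram_frm]

lemma adj_smul_form {f : (ι → F) → (ι → F) → F} (hf : HForm σ ε f) {c : F} (hc : c ≠ 0)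
    (X : Matrix ι ι F) : adj σ (fun u v => c * f u v) X = adj σ f X :=
  (hf.smul hc).adj_eq fun u v => by rw [hf.adj_spec]

/-- forms with the same adjoints are proportional -/
theorem HForm.eq_smul_of_adj [Nonempty ι] {ε' : F} {f f' : (ι → F) → (ι → F) → F}
    (hf : HForm σ ε f) (hf' : HForm σ ε' f') (S : Set (Matrix ι ι F))
    (hS : ∀ Y : Matrix ι ι F, (∀ X ∈ S, Y * X = X * Y) → ∃ c : F, Y = c • (1 : Matrix ι ι F))
    (h : ∀ X ∈ S, adj σ f X = adj σ f' X) : ∃ c : F, c ≠ 0 ∧ ∀ u v, f' u v = c * f u v := by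
  obtain ⟨D, hD⟩ := hf.exists_repr hf'.toSesq
  obtain ⟨c, hc⟩ := hS D fun X hX => hf.mat_eq_of_left fun u v => by
    rw [← Matrix.mulVec_mulVec, ← Matrix.mulVec_mulVec, ← hD, hf'.adj_spec, hf.adj_spec X, h X hX, hD]
  have h1 : ∀ u v, f' u v = c * f u v := fun u v => by
    rw [hD, hc, Matrix.smul_mulVec, Matrix.one_mulVec, hf.smul_left]
  refine ⟨c, ?_, h1⟩
  rintro rfl
  obtain ⟨i⟩ := ‹Nonempty ι›
  have := hf'.nondeg (Pi.single i 1) fun x => by rw [h1, zero_mul]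
  simpa using congrFun this i

lemma eps_eq_of_smul [Nonempty ι] {ε' : F} {f f' : (ι → F) → (ι → F) → F}
    (hf : HForm σ ε f) (hf' : HForm σ ε' f') {c : F} (h : ∀ u v, f' u v = c * f u v) :
    ε' * σ c = c * ε := by
  obtain ⟨i⟩ := ‹Nonempty ι›
  obtain ⟨x, hx⟩ : ∃ x, f x (Pi.single i 1) ≠ 0 := by
    by_contra! h0
    simpa using congrFun (hf.nondeg _ h0) i
  have h1 := hf'.herm (Pi.single i 1) x
  rw [h, h, hf.herm, map_mul] at h1
  apply mul_right_cancel₀ ((map_ne_zero σ).mpr hx)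
  linear_combination -h1

lemma isUnit_det_map_transpose (σ : F →+* F) {G : Matrix ι ι F} (hG : IsUnit G.det) :
    IsUnit ((G.map σ)ᵀ).det := by
  rw [Matrix.det_transpose, isUnit_iff_ne_zero]
  have := RingHom.map_det σ G
  rw [RingHom.mapMatrix_apply] at this
  rw [← this]; simpa using hG.ne_zero

lemma hform_of_eq_smul [Nonempty ι] (hσ : ∀ x, σ (σ x) = x) {G : Matrix ι ι F} (hG : IsUnit G.det)
    {c : F} (hc' : G = c • (G.map σ)ᵀ) : HForm σ c (frm σ G) := by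
  refine hform_frm hσ ?_ hG hc'
  obtain ⟨a, b, hab⟩ : ∃ a b, G a b ≠ 0 := by
    by_contra! h0
    have : G = 0 := by ext a b; exact h0 a b
    rw [this, Matrix.det_zero] at hG
    exact not_isUnit_zero hG
  have h1 := congrFun (congrFun hc' a) b
  have h2 := congrFun (congrFun hc' b) a
  simp only [Matrix.smul_apply, Matrix.transpose_apply, Matrix.map_apply, smul_eq_mul] at h1 h2
  rw [h2, map_mul, hσ] at h1
  apply mul_right_cancel₀ hab
  linear_combination -h1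

lemma HForm.transpose_mul_gram {f : (ι → F) → (ι → F) → F} (hf : HForm σ ε f) (X : Matrix ι ι F) :
    Xᵀ * gramMatrix f = gramMatrix f * (adj σ f X).map σ := by
  have h4 : (σ ∘ σ : F → F) = id := funext hf.invol
  rw [adj, Matrix.map_map, h4, Matrix.map_id, ← Matrix.mul_assoc, ← Matrix.mul_assoc,
    Matrix.mul_nonsing_inv _ hf.isUnit_det, Matrix.one_mul]

/-- an involution of the matrix algebra is the adjoint for a form -/
theorem exists_hform_of_star [Nonempty ι] (hσ : ∀ x, σ (σ x) = x) (s : Matrix ι ι F → Matrix ι ι F)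
    (hadd : ∀ X Y, s (X + Y) = s X + s Y) (hsmul : ∀ (c : F) X, s (c • X) = σ c • s X)
    (hmul : ∀ X Y, s (X * Y) = s Y * s X) (hone : s 1 = 1) (hinv : ∀ X, s (s X) = X) :
    ∃ (ε : F) (f : (ι → F) → (ι → F) → F), HForm σ ε f ∧ ∀ X, adj σ f X = s X := by
  have h4 : (σ ∘ σ : F → F) = id := funext hσ
  let ψ : Matrix ι ι F →ₐ[F] Matrix ι ι F := AlgHom.ofLinearMap
    { toFun := fun X => ((s X).map σ)ᵀ
      map_add' := fun X Y => by rw [hadd, Matrix.map_add _ (map_add σ), Matrix.transpose_add]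
      map_smul' := fun c X => by
        rw [hsmul]; ext i j; simp [hσ] }
    (by simp [hone]) (fun X Y => by simp [hmul, Matrix.map_mul])
  obtain ⟨B, hB⟩ := exists_cj_of_algHom ψ
  let G : Matrix ι ι F := (B : Matrix ι ι F)ᵀ
  have hG : IsUnit G.det := by
    rw [Matrix.det_transpose]; exact isUnit_iff_ne_zero.mpr B.det_ne_zero
  have h1 : ∀ X, Xᵀ * G = G * (s X).map σ := by
    intro X
    have h2 : (B : Matrix ι ι F) * X = ((s X).map σ)ᵀ * B := (cj_eq_iff _ _ _).mp (hB X).symm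
    have h3 := congrArg Matrix.transpose h2
    rwa [Matrix.transpose_mul, Matrix.transpose_mul, Matrix.transpose_transpose] at h3
  have hG' := isUnit_det_map_transpose σ hG
  have h2 : ∀ X, Xᵀ * (G.map σ)ᵀ = (G.map σ)ᵀ * (s X).map σ := by
    intro X
    have h3 := congrArg (fun Y : Matrix ι ι F => (Y.map σ)ᵀ) (h1 (s X))
    simp only [Matrix.map_mul, Matrix.transpose_mul, Matrix.map_map, hinv, h4, Matrix.map_id] at h3
    exact h3.symm
  obtain ⟨c, hc⟩ := scalar_of_commute_all (Y := G * ((G.map σ)ᵀ)⁻¹) fun X => by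
    have h5 : IsUnit (G.map σ)ᵀ := by rwa [Matrix.isUnit_iff_isUnit_det]
    apply h5.mul_right_cancel
    rw [← X.transpose_transpose, Matrix.mul_assoc, h2, Matrix.mul_assoc, ← Matrix.mul_assoc _⁻¹,
      Matrix.nonsing_inv_mul _ hG', Matrix.one_mul, ← h1, Matrix.mul_assoc, Matrix.mul_assoc,
      Matrix.nonsing_inv_mul _ hG', Matrix.mul_one]
  have hc' : G = c • (G.map σ)ᵀ := by
    have h1 := congrArg (fun X : Matrix ι ι F => X * (G.map σ)ᵀ) hc
    simp only [Matrix.smul_mul, Matrix.one_mul] at h1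
    rwa [Matrix.mul_assoc, Matrix.nonsing_inv_mul _ hG', Matrix.mul_one] at h1
  refine ⟨c, _, hform_of_eq_smul hσ hG hc', fun X => ?_⟩
  rw [adj_frm, Matrix.mul_assoc, h1, ← Matrix.mul_assoc, Matrix.nonsing_inv_mul _ hG,
    Matrix.one_mul, Matrix.map_map, h4, Matrix.map_id]

/-- the form induced on a matrix subalgebra closed under adjoints -/
theorem HForm.exists_factor [Nonempty ι] {α : Type} [Fintype α] [DecidableEq α] [Nonempty α]
    {f : (ι → F) → (ι → F) → F} (hf : HForm σ ε f) (φ : Matrix α α F →ₐ[F] Matrix ι ι F)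
    (h : ∀ X, ∃ Y, adj σ f (φ X) = φ Y) :
    ∃ (ε₁ : F) (f₁ : (α → F) → (α → F) → F), HForm σ ε₁ f₁ ∧
      ∀ X, adj σ f (φ X) = φ (adj σ f₁ X) := by
  choose s hs using h
  have hi := algHom_matrix_injective φ
  obtain ⟨ε₁, f₁, h1, h2⟩ := exists_hform_of_star hf.invol s
    (fun X Y => hi (by rw [← hs, map_add, hf.adj_add, hs, hs, map_add]))
    (fun c X => hi (by rw [← hs, map_smul, hf.adj_smul, hs, map_smul]))
    (fun X Y => hi (by rw [← hs, map_mul, hf.adj_mul, hs, hs, map_mul]))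
    (hi (by rw [← hs, map_one, hf.adj_one]))
    (fun X => hi (by rw [← hs, ← hs, hf.adj_adj]))
  exact ⟨ε₁, f₁, h1, fun X => by rw [h2, hs]⟩

end star

section pow

variable {κ α : Type} [Fintype κ] [DecidableEq κ] [Fintype α] [DecidableEq α] {σ : F →+* F} {ε : F}

lemma isUnit_det_pureT {G : κ → Matrix α α F} (hG : ∀ i, IsUnit (G i).det) :
    IsUnit (pureT G).det := by
  rw [← Matrix.isUnit_iff_isUnit_det]
  exact (Pi.isUnit_iff.mpr fun i => (Matrix.isUnit_iff_isUnit_det _).mpr (hG i)).map pureT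

lemma HForm.pow {f : (α → F) → (α → F) → F} (hf : HForm σ ε f) (κ : Type) [Fintype κ]
    [DecidableEq κ] :
    HForm σ (ε ^ Fintype.card κ) (frm σ (pureT fun _ : κ => gramMatrix f)) := by
  refine hform_frm hf.invol (by rw [map_pow, ← mul_pow, hf.eps, one_pow])
    (isUnit_det_pureT fun _ => hf.isUnit_det) ?_
  rw [pureT_map, pureT_transpose, ← Finset.card_univ, ← Finset.prod_const, ← pureT_smul]
  congr 1
  funext _
  exact hf.gram_herm

lemma HForm.adj_pureT {f : (α → F) → (α → F) → F} (hf : HForm σ ε f) (X : κ → Matrix α α F) :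
    adj σ (frm σ (pureT fun _ : κ => gramMatrix f)) (pureT X) = pureT fun i => adj σ f (X i) := by
  refine (hf.pow κ).adj_eq fun u v => ?_
  have h1 := frm_mulVec_mulVec σ (pureT fun _ : κ => gramMatrix f) (pureT X) 1 u v
  have h2 := frm_mulVec_mulVec σ (pureT fun _ : κ => gramMatrix f) 1
    (pureT fun i => adj σ f (X i)) u v
  rw [Matrix.one_mulVec] at h1 h2
  rw [h1, h2, Matrix.map_one _ (map_zero σ) (map_one σ), Matrix.transpose_one, Matrix.one_mul,
    Matrix.mul_one, pureT_transpose, pureT_map, ← map_mul, ← map_mul]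
  congr 2
  funext i
  exact hf.transpose_mul_gram (X i)

lemma HForm.adj_embT {f : (α → F) → (α → F) → F} (hf : HForm σ ε f) (i : κ) (X : Matrix α α F) :
    adj σ (frm σ (pureT fun _ : κ => gramMatrix f)) (embT i X) = embT i (adj σ f X) := by
  rw [embT, hf.adj_pureT, embT]
  congr 1
  funext j
  by_cases hj : j = i
  · subst hj; simp
  · simp [hj, hf.adj_one]

theorem HForm.tensorPower {k t : ℕ} {ε₁ : F} {f : (ι → F) → (ι → F) → F}
    (hf : HForm σ ε f) {f₁ : (Fin k → F) → (Fin k → F) → F} (hf₁ : HForm σ ε₁ f₁) (hk : 0 < k)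
    {e : ι ≃ (Fin t → Fin k)} {P : GL ι F}
    (h : ∀ i X, adj σ f (trans e P (embT i X)) = trans e P (embT i (adj σ f₁ X))) :
    ∃ c : F, c ≠ 0 ∧ ε * σ c = c * ε₁ ^ t ∧
      ∀ x y, H18.trF f e P x y = c * frm σ (pureT fun _ : Fin t => gramMatrix f₁) x y := by
  have : Nonempty (Fin k) := ⟨⟨0, hk⟩⟩
  obtain ⟨c, hc, h1⟩ := (hf₁.pow (Fin t)).eq_smul_of_adj (hf.trF e P)
    {Y | ∃ i X, Y = embT i X} (fun Y hY => scalar_of_commute_embT fun i X => hY _ ⟨i, X, rfl⟩)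
    (by
      rintro _ ⟨i, X, rfl⟩
      rw [hf₁.adj_embT]
      apply (trans e P).injective
      rw [← h, hf.adj_trans])
  refine ⟨c, hc, ?_, h1⟩
  simpa using eps_eq_of_smul (hf₁.pow (Fin t)) (hf.trF e P) h1

lemma isTensorPowerFormStructure_of {k t : ℕ} {f : (ι → F) → (ι → F) → F}
    {f₁ : (Fin k → F) → (Fin k → F) → F} {e : ι ≃ (Fin t → Fin k)} {P : GL ι F} {c : F}
    (hc : c ≠ 0)
    (h : ∀ x y, trF f e P x y = c * frm σ (pureT fun _ : Fin t => gramMatrix f₁) x y) :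
    IsTensorPowerFormStructure σ f f₁ e P :=
  ⟨c, hc, fun x y => by have := h x y; rw [frm_eq_sum] at this; exact this⟩

lemma pureGL_mem_similarityGroup {f : (α → F) → (α → F) → F} (hf : Sesq σ f) {g : κ → GL α F}
    (hg : ∀ i, g i ∈ similarityGroup f) :
    pureGL g ∈ similarityGroup (frm σ (pureT fun _ : κ => gramMatrix f)) := by
  choose c hc using hg
  refine ⟨∏ i, c i, fun u v => ?_⟩
  rw [frm_mulVec_mulVec, ← frm_smul]
  congr 1
  change (pureT _)ᵀ * _ * (pureT _).map σ = _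
  rw [pureT_transpose, pureT_map, ← map_mul, ← map_mul, Units.coe_prod, ← pureT_smul]
  congr 1
  funext i
  apply frm_inj (σ := σ)
  intro u v
  simp only [Pi.mul_apply]
  rw [← frm_mulVec_mulVec, frm_smul, ← hf.eq_frm, hc]

lemma permGL_mem_similarityGroup (G : Matrix α α F) (π : Equiv.Perm κ) :
    permGL F α π ∈ similarityGroup (frm σ (pureT fun _ : κ => G)) := by
  refine ⟨1, fun u v => ?_⟩
  rw [frm_mulVec_mulVec, Units.val_one, one_mul]
  congr 1
  have h1 : (permT F α π).map σ = permT F α π := by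
    ext x y; simp [permT, apply_ite σ]
  have h2 : (permT F α π)ᵀ = permT F α π.symm := by
    ext x y
    have : x = y ∘ π ↔ y = x ∘ π.symm :=
      ⟨fun h => by rw [h]; funext i; simp, fun h => by rw [h]; funext i; simp⟩
    simp [permT, this]
  change (permT F α π)ᵀ * _ * (permT F α π).map σ = _
  rw [h1, h2]
  exact cj_permGL π.symm fun _ : κ => G

lemma wreath_le_similarityGroup {m t : ℕ} {f : (Fin m → F) → (Fin m → F) → F} (hf : Sesq σ f)
    (h : ∀ g : GL (Fin m) F, g ∈ similarityGroup f) :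
    tensorWreathStandard m t F ≤ similarityGroup (frm σ (pureT fun _ : Fin t => gramMatrix f)) :=
  fun _ hg => wreath_induction (fun g => pureGL_mem_similarityGroup hf fun i => h (g i))
    (permGL_mem_similarityGroup _) (fun _ _ => mul_mem) (fun _ => inv_mem) hg

end pow

/-- the standard alternating form in dimension two -/
def J2 (F : Type*) [Field F] : Matrix (Fin 2) (Fin 2) F := !![0, 1; -1, 0]

lemma hform_J2 : HForm (RingHom.id F) (-1) (frm (RingHom.id F) (J2 F)) :=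
  hform_frm (fun _ => rfl) (by simp) (by simp [J2, Matrix.det_fin_two]) (by
    ext i j; fin_cases i <;> fin_cases j <;> simp [J2])

lemma frm_J2 (u v : Fin 2 → F) : frm (RingHom.id F) (J2 F) u v = u 0 * v 1 - u 1 * v 0 := by
  simp [frm_eq_sum, J2, Fin.sum_univ_two]; ring

lemma mem_similarityGroup_J2 (g : GL (Fin 2) F) :
    g ∈ similarityGroup (frm (RingHom.id F) (J2 F)) :=
  ⟨Matrix.GeneralLinearGroup.det g, fun u v => by
    simp [frm_J2, Matrix.mulVec, dotProduct, Fin.sum_univ_two, Matrix.det_fin_two]; ring⟩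

theorem exists_hform_wreath_two {t : ℕ} (e : ι ≃ (Fin t → Fin 2)) (P : GL ι F) :
    ∃ f : (ι → F) → (ι → F) → F, HForm (RingHom.id F) ((-1) ^ t) f ∧
      tensorWreathSubgroup 2 t e P ≤ similarityGroup f := by
  refine ⟨trB _ e P, by simpa using ((hform_J2 (F := F)).pow (Fin t)).trB e P, fun g hg => ?_⟩
  obtain ⟨s, hs, h⟩ := (mem_map_trans e P _ g).mp hg
  rw [mem_similarityGroup_trans h, trF_trB]
  simpa [gram_frm] using
    wreath_le_similarityGroup (hform_J2 (F := F)).toSesq mem_similarityGroup_J2 hs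

section kron

variable {α β : Type} [Fintype α] [DecidableEq α] [Fintype β] [DecidableEq β] {σ : F →+* F}

/-- embedding as the right tensor factor -/
def kronRight (α β : Type) [Fintype α] [DecidableEq α] [Fintype β] [DecidableEq β] (F : Type*)
    [Field F] : Matrix β β F →ₐ[F] Matrix (α × β) (α × β) F :=
  AlgHom.ofLinearMap
    { toFun := fun X => (1 : Matrix α α F) ⊗ₖ X
      map_add' := fun X Y => Matrix.kronecker_add _ _ _
      map_smul' := fun c X => Matrix.kronecker_smul _ _ _ }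
    Matrix.one_kronecker_one (fun X Y => by
      change (1 : Matrix α α F) ⊗ₖ (X * Y) = ((1 : Matrix α α F) ⊗ₖ X) * ((1 : Matrix α α F) ⊗ₖ Y)
      rw [← Matrix.mul_kronecker_mul, Matrix.one_mul])

lemma kronRight_apply (X : Matrix β β F) : kronRight α β F X = (1 : Matrix α α F) ⊗ₖ X := rfl

lemma kron_eq_mul (X : Matrix α α F) (Y : Matrix β β F) :
    X ⊗ₖ Y = (X ⊗ₖ (1 : Matrix β β F)) * ((1 : Matrix α α F) ⊗ₖ Y) := by
  rw [← Matrix.mul_kronecker_mul, Matrix.one_mul, Matrix.mul_one]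

lemma kron_commute (X : Matrix α α F) (Y : Matrix β β F) :
    Commute (X ⊗ₖ (1 : Matrix β β F)) ((1 : Matrix α α F) ⊗ₖ Y) := by
  rw [Commute, SemiconjBy, ← Matrix.mul_kronecker_mul, ← Matrix.mul_kronecker_mul]; simp

lemma eq_top_of_kron {A : Subalgebra F (Matrix (α × β) (α × β) F)}
    (h1 : ∀ X : Matrix α α F, X ⊗ₖ (1 : Matrix β β F) ∈ A)
    (h2 : ∀ Y : Matrix β β F, (1 : Matrix α α F) ⊗ₖ Y ∈ A) : A = ⊤ := by
  rw [eq_top_iff]
  intro Z _
  rw [matrix_eq_sum_smul_single Z]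
  refine A.sum_mem fun x _ => A.sum_mem fun y _ => A.smul_mem ?_ _
  have : Matrix.single x y (1 : F) = Matrix.single x.1 y.1 (1 : F) ⊗ₖ Matrix.single x.2 y.2 (1 : F) := by
    rw [Matrix.single_kronecker_single]; simp
  rw [this, kron_eq_mul]
  exact A.mul_mem (h1 _) (h2 _)

lemma scalar_of_commute_kron {Z : Matrix (α × β) (α × β) F}
    (h1 : ∀ X : Matrix α α F, Z * (X ⊗ₖ (1 : Matrix β β F)) = (X ⊗ₖ (1 : Matrix β β F)) * Z)
    (h2 : ∀ Y : Matrix β β F, Z * ((1 : Matrix α α F) ⊗ₖ Y) = ((1 : Matrix α α F) ⊗ₖ Y) * Z) :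
    ∃ c : F, Z = c • (1 : Matrix (α × β) (α × β) F) := by
  refine scalar_of_commute_all fun X => ?_
  have := eq_top_of_kron (A := Subalgebra.centralizer F {Z})
    (fun X => by rw [Subalgebra.mem_centralizer_iff]; rintro _ rfl; exact h1 X)
    (fun X => by rw [Subalgebra.mem_centralizer_iff]; rintro _ rfl; exact h2 X)
  have hX : X ∈ Subalgebra.centralizer F {Z} := by rw [this]; exact Algebra.mem_top
  exact (Subalgebra.mem_centralizer_iff F).mp hX Z rfl

lemma kron_map (σ : F →+* F) (X : Matrix α α F) (Y : Matrix β β F) :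
    (X ⊗ₖ Y).map σ = X.map σ ⊗ₖ Y.map σ := by
  ext x y; simp

lemma HForm.kron {ε₁ ε₂ : F} {f₁ : (α → F) → (α → F) → F} {f₂ : (β → F) → (β → F) → F}
    (h₁ : HForm σ ε₁ f₁) (h₂ : HForm σ ε₂ f₂) :
    HForm σ (ε₁ * ε₂) (frm σ (gramMatrix f₁ ⊗ₖ gramMatrix f₂)) := by
  refine hform_frm h₁.invol (by rw [map_mul, mul_mul_mul_comm, h₁.eps, h₂.eps, one_mul]) ?_ ?_
  · rw [Matrix.det_kronecker]
    exact (h₁.isUnit_det.pow _).mul (h₂.isUnit_det.pow _)
  · conv_lhs => rw [h₁.gram_herm, h₂.gram_herm]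
    rw [kron_map, ← Matrix.kroneckerMap_transpose, Matrix.smul_kronecker, Matrix.kronecker_smul,
      smul_smul]

lemma HForm.adj_kron {ε₁ ε₂ : F} {f₁ : (α → F) → (α → F) → F} {f₂ : (β → F) → (β → F) → F}
    (h₁ : HForm σ ε₁ f₁) (h₂ : HForm σ ε₂ f₂) (X : Matrix α α F) (Y : Matrix β β F) :
    adj σ (frm σ (gramMatrix f₁ ⊗ₖ gramMatrix f₂)) (X ⊗ₖ Y) = adj σ f₁ X ⊗ₖ adj σ f₂ Y := by
  refine (h₁.kron h₂).adj_eq fun u v => ?_
  have h1 := frm_mulVec_mulVec σ (gramMatrix f₁ ⊗ₖ gramMatrix f₂) (X ⊗ₖ Y) 1 u v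
  have h2 := frm_mulVec_mulVec σ (gramMatrix f₁ ⊗ₖ gramMatrix f₂) 1
    (adj σ f₁ X ⊗ₖ adj σ f₂ Y) u v
  rw [Matrix.one_mulVec] at h1 h2
  rw [h1, h2, Matrix.map_one _ (map_zero σ) (map_one σ), Matrix.transpose_one, Matrix.one_mul,
    Matrix.mul_one, kron_map, ← Matrix.kroneckerMap_transpose, ← Matrix.mul_kronecker_mul,
    ← Matrix.mul_kronecker_mul, h₁.transpose_mul_gram, h₂.transpose_mul_gram]

/-- a form for which the left tensor factor is closed under adjoints is a tensor product -/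
theorem HForm.exists_kron [Nonempty α] [Nonempty β] {ε : F}
    {f : (α × β → F) → (α × β → F) → F} (hf : HForm σ ε f)
    (h : ∀ X : Matrix α α F, ∃ Y : Matrix α α F,
      adj σ f (X ⊗ₖ (1 : Matrix β β F)) = Y ⊗ₖ (1 : Matrix β β F)) :
    ∃ (ε₁ ε₂ : F) (f₁ : (α → F) → (α → F) → F) (f₂ : (β → F) → (β → F) → F),
      HForm σ ε₁ f₁ ∧ HForm σ ε₂ f₂ ∧
      (∀ X, adj σ f (X ⊗ₖ (1 : Matrix β β F)) = adj σ f₁ X ⊗ₖ (1 : Matrix β β F)) ∧
      ∀ Y, adj σ f ((1 : Matrix α α F) ⊗ₖ Y) = (1 : Matrix α α F) ⊗ₖ adj σ f₂ Y := by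
  obtain ⟨ε₁, f₁, h1, h1'⟩ := hf.exists_factor (kronLeft α β F) h
  obtain ⟨ε₂, f₂, h2, h2'⟩ := hf.exists_factor (kronRight α β F) fun Y => by
    refine exists_one_kronecker_of_commute _ fun X => ?_
    obtain ⟨X', hX'⟩ := h X
    have : X ⊗ₖ (1 : Matrix β β F) = adj σ f (X' ⊗ₖ (1 : Matrix β β F)) := by
      rw [← hX', hf.adj_adj]
    rw [this, ← hf.adj_mul, ← hf.adj_mul, kronRight_apply, (kron_commute X' Y).eq]
  exact ⟨ε₁, ε₂, f₁, f₂, h1, h2, h1', h2'⟩

theorem HForm.eq_smul_kron [Nonempty α] [Nonempty β] {ε ε₁ ε₂ : F}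
    {f : (α × β → F) → (α × β → F) → F} (hf : HForm σ ε f)
    {f₁ : (α → F) → (α → F) → F} {f₂ : (β → F) → (β → F) → F}
    (h₁ : HForm σ ε₁ f₁) (h₂ : HForm σ ε₂ f₂)
    (h1 : ∀ X, adj σ f (X ⊗ₖ (1 : Matrix β β F)) = adj σ f₁ X ⊗ₖ (1 : Matrix β β F))
    (h2 : ∀ Y, adj σ f ((1 : Matrix α α F) ⊗ₖ Y) = (1 : Matrix α α F) ⊗ₖ adj σ f₂ Y) :
    ∃ c : F, c ≠ 0 ∧ ε * σ c = c * (ε₁ * ε₂) ∧
      ∀ x y, f x y = c * frm σ (gramMatrix f₁ ⊗ₖ gramMatrix f₂) x y := by
  obtain ⟨c, hc, h3⟩ := (h₁.kron h₂).eq_smul_of_adj hf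
    ({Z | ∃ X : Matrix α α F, Z = X ⊗ₖ (1 : Matrix β β F)} ∪
      {Z | ∃ Y : Matrix β β F, Z = (1 : Matrix α α F) ⊗ₖ Y})
    (fun Z hZ => scalar_of_commute_kron (fun X => hZ _ (Or.inl ⟨X, rfl⟩))
      (fun X => hZ _ (Or.inr ⟨X, rfl⟩))) (by
      rintro _ (⟨X, rfl⟩ | ⟨X, rfl⟩)
      · rw [h1, h₁.adj_kron h₂, h₂.adj_one]
      · rw [h2, h₁.adj_kron h₂, h₁.adj_one])
  exact ⟨c, hc, eps_eq_of_smul (h₁.kron h₂) hf h3, h3⟩

end kron

lemma isTensorFormStructure_of {σ : F →+* F} {a b : ℕ} {f : (ι → F) → (ι → F) → F}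
    {f₁ : (Fin a → F) → (Fin a → F) → F} {f₂ : (Fin b → F) → (Fin b → F) → F}
    {e : ι ≃ Fin a × Fin b} {P : GL ι F} {c : F} (hc : c ≠ 0)
    (h : ∀ x y, trF f e P x y = c * frm σ (gramMatrix f₁ ⊗ₖ gramMatrix f₂) x y) :
    IsTensorFormStructure σ f f₁ f₂ e P :=
  ⟨c, hc, fun x y => by rw [formOfGram_eq]; exact h x y⟩

lemma mem_tensorProductSubgroup {a b : ℕ} {e : ι ≃ Fin a × Fin b} {P g : GL ι F} :
    g ∈ tensorProductSubgroup a b e P ↔ ∃ (x : GL (Fin a) F) (y : GL (Fin b) F),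
      (g : Matrix ι ι F) = trans e P ((x : Matrix (Fin a) (Fin a) F) ⊗ₖ (y : Matrix (Fin b) (Fin b) F)) := by
  rw [tensorProductSubgroup, mem_map_trans]
  constructor
  · rintro ⟨s, ⟨x, y, hs⟩, h⟩; exact ⟨x, y, by rw [h, hs]⟩
  · rintro ⟨x, y, h⟩
    exact ⟨unitsBack (trans e P) g, ⟨x, y, by rw [unitsBack_coe, h, AlgEquiv.symm_apply_apply]⟩,
      by rw [unitsBack_coe, AlgEquiv.apply_symm_apply]⟩

lemma trans_swap {α β : Type} [Fintype α] [DecidableEq α] [Fintype β] [DecidableEq β]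
    (e : ι ≃ α × β) (P : GL ι F) (X : Matrix α α F) (Y : Matrix β β F) :
    trans (e.trans (Equiv.prodComm α β)) P (Y ⊗ₖ X) = trans e P (X ⊗ₖ Y) := by
  rw [trans_apply, trans_apply]; congr 1
  ext i j; simp [mul_comm]

lemma tensorProductSubgroup_swap {a b : ℕ} (e : ι ≃ Fin a × Fin b) (P : GL ι F) :
    tensorProductSubgroup b a (e.trans (Equiv.prodComm _ _)) P = tensorProductSubgroup a b e P := by
  ext g
  simp only [mem_tensorProductSubgroup, trans_swap]
  exact ⟨fun ⟨x, y, h⟩ => ⟨y, x, h⟩, fun ⟨x, y, h⟩ => ⟨y, x, h⟩⟩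

lemma cj_kron {α β : Type} [Fintype α] [DecidableEq α] [Fintype β] [DecidableEq β]
    {e : ι ≃ α × β} {P g : GL ι F} {x : GL α F} {y : GL β F}
    (h : (g : Matrix ι ι F) = trans e P ((x : Matrix α α F) ⊗ₖ (y : Matrix β β F)))
    (X : Matrix α α F) (Y : Matrix β β F) :
    cj g (trans e P (X ⊗ₖ Y)) = trans e P (cj x X ⊗ₖ cj y Y) := by
  rw [cj_eq_iff, h, ← map_mul, ← map_mul, ← Matrix.mul_kronecker_mul, ← Matrix.mul_kronecker_mul,
    cj_mul_self, cj_mul_self]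

theorem exists_tensor_of_algHom [Nonempty ι] {a : ℕ} (ha : 0 < a)
    (φ : Matrix (Fin a) (Fin a) F →ₐ[F] Matrix ι ι F) (hφ : φ.range ≠ ⊤) :
    ∃ (b : ℕ) (e : ι ≃ Fin a × Fin b) (P : GL ι F), 2 ≤ b ∧
      (∀ X, trans e P (X ⊗ₖ (1 : Matrix (Fin b) (Fin b) F)) = φ X) ∧
      ∀ g : GL ι F, (∀ X ∈ φ.range, cj g X ∈ φ.range) → g ∈ tensorProductSubgroup a b e P := by
  have : Nonempty (Fin a) := ⟨⟨0, ha⟩⟩
  obtain ⟨b, Θ, hΘ⟩ := exists_kronecker_of_algHom φ
  obtain ⟨e, P, he⟩ := exists_trans Θ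
  have hb0 : Nonempty (Fin b) := ⟨(e (Classical.arbitrary ι)).2⟩
  have h1 : ∀ X, trans e P (X ⊗ₖ (1 : Matrix (Fin b) (Fin b) F)) = φ X := fun X => by
    rw [← he, hΘ]
  refine ⟨b, e, P, ?_, h1, fun g hg => ?_⟩
  · by_contra hb
    obtain ⟨j⟩ := hb0
    obtain rfl : b = 1 := by have := j.2; omega
    apply hφ
    rw [eq_top_iff]
    intro Y _
    refine ⟨(Θ.symm Y).submatrix (fun i => (i, 0)) (fun i => (i, 0)), ?_⟩
    change φ _ = Y
    rw [← hΘ]
    conv_rhs => rw [← Θ.apply_symm_apply Y]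
    congr 1
    ext ⟨i, i'⟩ ⟨j, j'⟩
    simp [Subsingleton.elim i' 0, Subsingleton.elim j' 0]
  · obtain ⟨x, y, h⟩ := exists_kronecker_of_normalizes (unitsBack (trans e P) g) fun X => by
      obtain ⟨Y, hY⟩ := hg _ ⟨X, rfl⟩
      exact ⟨Y, (trans e P).injective (by rw [cj_unitsBack, h1, h1]; exact hY.symm)⟩
    exact mem_tensorProductSubgroup.mpr ⟨x, y, by rw [← h, unitsBack_coe, AlgEquiv.apply_symm_apply]⟩

theorem exists_wreath_of_kron {a : ℕ} (ha : 0 < a) (e : ι ≃ Fin a × Fin a) (P : GL ι F)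
    (B : GL (Fin a) F) :
    ∃ (e' : ι ≃ (Fin 2 → Fin a)) (P' : GL ι F),
      (∀ X, trans e' P' (embT 0 X) = trans e P (X ⊗ₖ (1 : Matrix (Fin a) (Fin a) F))) ∧
      (∀ X, trans e' P' (embT 1 X) = trans e P ((1 : Matrix (Fin a) (Fin a) F) ⊗ₖ cj B X)) ∧
      tensorProductSubgroup a a e P ≤ tensorWreathSubgroup a 2 e' P' := by
  have : Nonempty (Fin a) := ⟨⟨0, ha⟩⟩
  have : Nonempty ι := ⟨e.symm (⟨0, ha⟩, ⟨0, ha⟩)⟩
  let φ : Fin 2 → Matrix (Fin a) (Fin a) F →ₐ[F] Matrix ι ι F :=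
    ![(trans e P).toAlgHom.comp (kronLeft _ _ F),
      (trans e P).toAlgHom.comp ((kronRight _ _ F).comp (cj B).toAlgHom)]
  have h0 : ∀ X, φ 0 X = trans e P (X ⊗ₖ (1 : Matrix (Fin a) (Fin a) F)) := fun _ => rfl
  have h1 : ∀ X, φ 1 X = trans e P ((1 : Matrix (Fin a) (Fin a) F) ⊗ₖ cj B X) := fun _ => rfl
  obtain ⟨e', P', h⟩ := exists_trans_pow φ (by
    intro i j hij X Y
    fin_cases i <;> fin_cases j
    · exact absurd rfl hij
    · exact (kron_commute X (cj B Y)).map (trans e P)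
    · exact (kron_commute Y (cj B X)).symm.map (trans e P)
    · exact absurd rfl hij) (by
    intro A hA
    have := eq_top_of_kron (A := A.comap (trans e P).toAlgHom) (fun X => hA 0 X)
      (fun Y => by have := hA 1 (cj B⁻¹ Y); rwa [h1, cj_cj_inv] at this)
    rw [eq_top_iff]
    intro Y _
    have h2 : (trans e P).symm Y ∈ A.comap (trans e P).toAlgHom := this ▸ Algebra.mem_top
    simpa using h2)
  refine ⟨e', P', fun X => by rw [h, h0], fun X => by rw [h, h1], fun g hg => ?_⟩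
  obtain ⟨x, y, hxy⟩ := mem_tensorProductSubgroup.mp hg
  refine mem_tensorWreath_of_permutes ha two_pos 1 fun i X => ?_
  fin_cases i
  · exact ⟨cj x X, by
      change cj g (trans e' P' (embT 0 X)) = trans e' P' (embT 0 _)
      rw [h, h, h0, h0, cj_kron hxy, map_one]⟩
  · exact ⟨cj B⁻¹ (cj y (cj B X)), by
      change cj g (trans e' P' (embT 1 X)) = trans e' P' (embT 1 _)
      rw [h, h, h1, h1, cj_kron hxy, map_one, cj_cj_inv]⟩

theorem TPow.exists_wreath [Nonempty ι] {H L : Subgroup (GL ι F)} {t m : ℕ}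
    {φ₀ : Matrix (Fin m) (Fin m) F →ₐ[F] Matrix ι ι F}
    {φ : Fin t → Matrix (Fin m) (Fin m) F →ₐ[F] Matrix ι ι F} (h : TPow H L t m φ₀ φ) :
    ∃ (e : ι ≃ (Fin t → Fin m)) (P : GL ι F), (∀ i X, trans e P (embT i X) = φ i X) ∧
      H ≤ tensorWreathSubgroup m t e P := by
  have h1 := h.two_le_m
  have h2 := h.two_le_t
  have : Nonempty (Fin m) := ⟨⟨0, by omega⟩⟩
  obtain ⟨e, P, h3⟩ := exists_trans_pow φ h.comm h.gen
  refine ⟨e, P, h3, fun g hg => ?_⟩
  obtain ⟨π, hπ⟩ := h.perm g hg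
  exact mem_tensorWreath_of_permutes (by omega) (by omega) π fun i X => by
    simpa only [h3] using hπ i X

end Cfsg.Agent.H18
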