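import Cfsg.Agent.H18.Extra

/-! Tensor powers of matrix algebras and the tensor-wreath subgroups. -/

set_option autoImplicit false

namespace Cfsg.Agent.H18

open Cfsg.Geo
open scoped MatrixGroups Matrix Kronecker

variable {ι : Type} [Fintype ι] [DecidableEq ι] {F : Type*} [Field F]

section pure

variable {κ α : Type} [Fintype κ] [DecidableEq κ] [Fintype α] [DecidableEq α]

/-- the tensor product of a family of matrices -/
def pureT : (κ → Matrix α α F) →* Matrix (κ → α) (κ → α) F where
  toFun X := Matrix.of fun x y => ∏ i, X i (x i) (y i)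
  map_one' := by
    ext x y
    simp only [Matrix.of_apply, Pi.one_apply, Matrix.one_apply, Finset.prod_boole, Finset.mem_univ,
      true_imp_iff, funext_iff]
  map_mul' X Y := by
    ext x y
    simp only [Matrix.of_apply, Pi.mul_apply, Matrix.mul_apply, Finset.prod_univ_sum,
      Fintype.piFinset_univ, Finset.prod_mul_distrib]

lemma pureT_apply (X : κ → Matrix α α F) (x y : κ → α) :
    pureT X x y = ∏ i, X i (x i) (y i) := rfl

lemma pureT_transpose (X : κ → Matrix α α F) : (pureT X)ᵀ = pureT fun i => (X i)ᵀ := rfl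

lemma pureT_map (σ : F →+* F) (X : κ → Matrix α α F) :
    (pureT X).map σ = pureT fun i => (X i).map σ := by
  ext x y; simp [pureT_apply]

lemma pureT_smul (c : κ → F) (X : κ → Matrix α α F) :
    pureT (fun i => c i • X i) = (∏ i, c i) • pureT X := by
  ext x y; simp [pureT_apply, Finset.prod_mul_distrib]

lemma pureT_single (x y : κ → α) :
    pureT (fun i => Matrix.single (x i) (y i) (1 : F)) = Matrix.single x y 1 := by
  ext z w
  simp only [pureT_apply, Matrix.single, Matrix.of_apply, Finset.prod_boole, Finset.mem_univ,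
    true_imp_iff, funext_iff, forall_and]

/-- the tensor product of a family of invertible matrices -/
def pureGL (g : κ → GL α F) : GL (κ → α) F where
  val := pureT fun i => (g i : Matrix α α F)
  inv := pureT fun i => (((g i)⁻¹ : GL α F) : Matrix α α F)
  val_inv := by
    rw [← map_mul, ← pureT.map_one]; congr 1; funext i; simp
  inv_val := by
    rw [← map_mul, ← pureT.map_one]; congr 1; funext i; simp

lemma cj_pureGL (g : κ → GL α F) (X : κ → Matrix α α F) :
    cj (pureGL g) (pureT X) = pureT fun i => cj (g i) (X i) := by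
  rw [cj_apply]
  change pureT _ * pureT _ * pureT _ = _
  rw [← map_mul, ← map_mul]; rfl

/-- permutation of the tensor factors -/
def permT (F : Type*) [Field F] (α : Type) [DecidableEq α] (σ : Equiv.Perm κ) :
    Matrix (κ → α) (κ → α) F :=
  Matrix.of fun x y => if y = x ∘ σ then 1 else 0

lemma permT_mul (σ : Equiv.Perm κ) (X : Matrix (κ → α) (κ → α) F) (x y : κ → α) :
    (permT F α σ * X) x y = X (x ∘ σ) y := by
  simp [permT, Matrix.mul_apply]

lemma mul_permT (σ : Equiv.Perm κ) (X : Matrix (κ → α) (κ → α) F) (x y : κ → α) :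
    (X * permT F α σ) x y = X x (y ∘ σ.symm) := by
  have : ∀ z : κ → α, y = z ∘ σ ↔ z = y ∘ σ.symm := fun z =>
    ⟨fun h => by rw [h]; funext i; simp, fun h => by rw [h]; funext i; simp⟩
  simp [permT, Matrix.mul_apply, this]

lemma permT_mul_symm (σ : Equiv.Perm κ) : permT F α σ * permT F α σ.symm = 1 := by
  ext x y
  rw [permT_mul, permT, Matrix.of_apply, Matrix.one_apply]
  have : (x ∘ σ) ∘ σ.symm = x := by funext i; simp
  rw [this]; simp only [eq_comm]

/-- permutation of the tensor factors as an invertible matrix -/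
def permGL (F : Type*) [Field F] (α : Type) [Fintype α] [DecidableEq α] (σ : Equiv.Perm κ) :
    GL (κ → α) F where
  val := permT F α σ
  inv := permT F α σ.symm
  val_inv := permT_mul_symm σ
  inv_val := permT_mul_symm σ.symm

lemma cj_permGL (σ : Equiv.Perm κ) (X : κ → Matrix α α F) :
    cj (permGL F α σ) (pureT X) = pureT (X ∘ σ.symm) := by
  rw [cj_eq_iff]
  ext x y
  change (permT F α σ * pureT X) x y = (pureT (X ∘ σ.symm) * permT F α σ) x y
  rw [permT_mul, mul_permT, pureT_apply, pureT_apply]
  exact Fintype.prod_equiv σ _ _ (by simp)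

lemma mulSingle_comp_symm (σ : Equiv.Perm κ) (i : κ) (X : Matrix α α F) :
    (Pi.mulSingle i X : κ → Matrix α α F) ∘ σ.symm = Pi.mulSingle (σ i) X := by
  funext j
  simp only [Function.comp_apply, Pi.mulSingle_apply, Equiv.symm_apply_eq]

/-- embedding as the `i`-th tensor factor -/
def embT (i : κ) (X : Matrix α α F) : Matrix (κ → α) (κ → α) F := pureT (Pi.mulSingle i X)

lemma pureT_mem_of_embT {A : Submonoid (Matrix (κ → α) (κ → α) F)} (X : κ → Matrix α α F)
    (h : ∀ i, embT i (X i) ∈ A) : pureT X ∈ A := by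
  have : ∀ s : Finset κ, pureT (fun i => if i ∈ s then X i else 1) ∈ A := by
    intro s
    induction s using Finset.induction_on with
    | empty =>
      have : (fun i => if i ∈ (∅ : Finset κ) then X i else 1) = 1 := by funext i; simp
      rw [this, map_one]; exact A.one_mem
    | insert a s ha ih =>
      have : (fun i => if i ∈ insert a s then X i else 1) =
          Pi.mulSingle a (X a) * fun i => if i ∈ s then X i else 1 := by
        funext i
        by_cases hi : i = a
        · subst hi; simp [ha]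
        · simp [hi]
      rw [this, map_mul]; exact A.mul_mem (h a) ih
  simpa using this Finset.univ

lemma scalar_of_commute_embT {Y : Matrix (κ → α) (κ → α) F}
    (h : ∀ i X, Y * embT i X = embT i X * Y) : ∃ c : F, Y = c • (1 : Matrix (κ → α) (κ → α) F) := by
  refine scalar_of_commute_all fun X => ?_
  have h1 : ∀ Z : κ → Matrix α α F, Y * pureT Z = pureT Z * Y := fun Z =>
    (pureT_mem_of_embT (A := Submonoid.centralizer {Y}) Z fun i => by
      rw [Submonoid.mem_centralizer_iff]; rintro _ rfl; exact h i _) Y rfl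
  rw [matrix_eq_sum_smul_single X]
  simp only [Finset.mul_sum, Finset.sum_mul, Matrix.mul_smul, Matrix.smul_mul, ← pureT_single, h1]

/-- an algebra homomorphism from a tensor power out of commuting homomorphisms -/
theorem exists_algHom_pow {B : Type*} [Ring B] [Algebra F B] (φ : κ → Matrix α α F →ₐ[F] B)
    (hc : ∀ i j, i ≠ j → ∀ X Y, Commute (φ i X) (φ j Y)) :
    ∃ Θ : Matrix (κ → α) (κ → α) F →ₐ[F] B, ∀ i X, Θ (embT i X) = φ i X := by
  let Ψ : (κ → Matrix α α F) →* B :=
    MonoidHom.noncommPiCoprod (N := fun _ : κ => Matrix α α F)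
      (fun i => (φ i : Matrix α α F →* B)) (fun i j hij X Y => hc i j hij X Y)
  have hΨ : ∀ i X, Ψ (Pi.mulSingle i X) = φ i X := fun i X =>
    MonoidHom.noncommPiCoprod_mulSingle (N := fun _ : κ => Matrix α α F)
      (fun i => (φ i : Matrix α α F →* B)) (hcomm := fun i j hij X Y => hc i j hij X Y) i X
  have hup : ∀ (X : κ → Matrix α α F) i Y,
      Ψ (Function.update X i Y) = Ψ (Function.update X i 1) * φ i Y := by
    intro X i Y
    rw [← hΨ, ← map_mul]; congr 1
    funext j
    by_cases hj : j = i
    · subst hj; simp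
    · simp [hj]
  let M : MultilinearMap F (fun _ : κ => Matrix α α F) B :=
    MultilinearMap.mk' Ψ (fun X i Y Z => by rw [hup, hup X i Y, hup X i Z, map_add, mul_add])
      (fun X i c Y => by rw [hup, hup X i Y, map_smul, mul_smul_comm])
  have hM : ∀ X, M X = Ψ X := fun _ => rfl
  let E : (κ → α) → (κ → α) → B := fun x y => Ψ fun i => Matrix.single (x i) (y i) 1
  have hmul : ∀ x y z w, E x y * E z w = if y = z then E x w else 0 := by
    intro x y z w
    simp only [E, ← map_mul]
    split_ifs with h
    · subst h; congr 1; funext i; simp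
    · obtain ⟨i, hi⟩ := Function.ne_iff.mp h
      rw [← hM]
      exact M.map_coord_zero i (by simp [hi])
  have hone : ∑ x, E x x = 1 := by
    have := M.map_sum (fun i (a : α) => Matrix.single a a (1 : F))
    simp only [sum_single_diag, hM] at this
    rw [← this]; exact Ψ.map_one
  have hΘ : ∀ X, algHomOfUnits (R := F) E hmul hone (pureT X) = Ψ X := by
    intro X
    rw [algHomOfUnits_apply]
    have h1 := M.map_sum (fun i (p : α × α) => X i p.1 p.2 • Matrix.single p.1 p.2 (1 : F))
    have h2 : ∀ i, ∑ p : α × α, X i p.1 p.2 • Matrix.single p.1 p.2 (1 : F) = X i := fun i => by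
      rw [Fintype.sum_prod_type]; exact (matrix_eq_sum_smul_single (X i)).symm
    simp only [h2, MultilinearMap.map_smul_univ] at h1
    rw [← hM, h1, ← Fintype.sum_prod_type']
    exact (Fintype.sum_equiv (Equiv.arrowProdEquivProdArrow κ (fun _ => α) (fun _ => α)) _ _
      fun r => rfl).symm
  exact ⟨_, fun i X => by rw [embT, hΘ, hΨ]⟩

end pure

theorem exists_trans_pow {κ α : Type} [Fintype κ] [DecidableEq κ] [Fintype α] [DecidableEq α]
    [Nonempty ι] [Nonempty α] (φ : κ → Matrix α α F →ₐ[F] Matrix ι ι F)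
    (hc : ∀ i j, i ≠ j → ∀ X Y, Commute (φ i X) (φ j Y))
    (hgen : ∀ A : Subalgebra F (Matrix ι ι F), (∀ i X, φ i X ∈ A) → A = ⊤) :
    ∃ (e : ι ≃ (κ → α)) (P : GL ι F), ∀ i X, trans e P (embT i X) = φ i X := by
  obtain ⟨Θ, hΘ⟩ := exists_algHom_pow φ hc
  have hs : Function.Surjective Θ := by
    rw [← AlgHom.range_eq_top]
    exact hgen _ fun i X => ⟨_, hΘ i X⟩
  obtain ⟨e, P, h⟩ := exists_trans (AlgEquiv.ofBijective Θ ⟨algHom_matrix_injective Θ, hs⟩)
  exact ⟨e, P, fun i X => by rw [← h, ← hΘ]; rfl⟩

section wreath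

variable {m t : ℕ}

lemma pureGL_mem (g : Fin t → GL (Fin m) F) : pureGL g ∈ tensorWreathStandard m t F :=
  Subgroup.subset_closure (Or.inl ⟨g, fun _ _ => rfl⟩)

lemma permGL_mem (σ : Equiv.Perm (Fin t)) : permGL F (Fin m) σ ∈ tensorWreathStandard m t F :=
  Subgroup.subset_closure (Or.inr ⟨σ, fun _ _ => rfl⟩)

lemma wreath_induction {p : GL (Fin t → Fin m) F → Prop} (h1 : ∀ g, p (pureGL g))
    (h2 : ∀ σ, p (permGL F (Fin m) σ)) (hmul : ∀ x y, p x → p y → p (x * y))
    (hinv : ∀ x, p x → p x⁻¹) {g : GL (Fin t → Fin m) F} (hg : g ∈ tensorWreathStandard m t F) :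
    p g := by
  refine Subgroup.closure_induction (p := fun g _ => p g) ?_ ?_ (fun x y _ _ => hmul x y)
    (fun x _ => hinv x) hg
  · rintro g (⟨gs, h⟩ | ⟨σ, h⟩)
    · have : g = pureGL gs := Units.ext (Matrix.ext h)
      rw [this]; exact h1 gs
    · have : g = permGL F (Fin m) σ := Units.ext (Matrix.ext h)
      rw [this]; exact h2 σ
  · have : (1 : GL (Fin t → Fin m) F) = pureGL 1 := Units.ext pureT.map_one.symm
    rw [this]; exact h1 1

lemma scalars_le_wreath (ht : 0 < t) : scalars (Fin t → Fin m) F ≤ tensorWreathStandard m t F := by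
  rintro _ ⟨c, rfl⟩
  have : sc (Fin t → Fin m) c = pureGL (Pi.mulSingle ⟨0, ht⟩ (sc (Fin m) c)) := by
    refine Units.ext ?_
    have h := pureT_smul (α := Fin m) (Pi.mulSingle (⟨0, ht⟩ : Fin t) (c : F)) 1
    rw [map_one, Finset.prod_pi_mulSingle'] at h
    rw [sc_coe]
    simp only [Finset.mem_univ, if_true] at h
    rw [← h]
    change _ = pureT _
    congr 1
    funext i
    by_cases hi : i = ⟨0, ht⟩
    · subst hi; simp [sc_coe]
    · simp [hi]
  exact this ▸ pureGL_mem _

/-- embedding as a tensor factor, as an algebra homomorphism -/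
def embAlg {κ α : Type} [Fintype κ] [DecidableEq κ] [Fintype α] [DecidableEq α] (i : κ) :
    Matrix α α F →ₐ[F] Matrix (κ → α) (κ → α) F :=
  AlgHom.ofLinearMap
    { toFun := embT i
      map_add' := fun X Y => by
        ext x y
        simp only [embT, pureT_apply, Matrix.add_apply]
        rw [← Finset.mul_prod_erase _ _ (Finset.mem_univ i),
          ← Finset.mul_prod_erase _ _ (Finset.mem_univ i),
          ← Finset.mul_prod_erase _ _ (Finset.mem_univ i)]
        have : ∀ Z : Matrix α α F, ∏ j ∈ Finset.univ.erase i,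
            (Pi.mulSingle i Z : κ → Matrix α α F) j (x j) (y j) =
            ∏ j ∈ Finset.univ.erase i, (1 : Matrix α α F) (x j) (y j) := fun Z =>
          Finset.prod_congr rfl fun j hj => by rw [Pi.mulSingle_eq_of_ne (Finset.ne_of_mem_erase hj)]
        simp only [this, Pi.mulSingle_eq_same, Matrix.add_apply, add_mul]
      map_smul' := fun c X => by
        have h := pureT_smul (α := α) (Pi.mulSingle i c) (Pi.mulSingle i X)
        rw [Finset.prod_pi_mulSingle'] at h
        simp only [Finset.mem_univ, if_true] at h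
        rw [RingHom.id_apply, embT, embT, ← h]
        congr 1
        funext j
        by_cases hj : j = i
        · subst hj; simp
        · simp [hj] }
    (by change embT i 1 = 1; rw [embT, Pi.mulSingle_one, map_one])
    (fun X Y => by
      change embT i (X * Y) = embT i X * embT i Y
      rw [embT, embT, embT, Pi.mulSingle_mul, map_mul])

lemma embAlg_apply {κ α : Type} [Fintype κ] [DecidableEq κ] [Fintype α] [DecidableEq α] (i : κ)
    (X : Matrix α α F) : embAlg i X = (embT i X : Matrix (κ → α) (κ → α) F) := rfl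

/-- a homomorphism into the range of an injective one factors through it -/
lemma exists_cj_of_range {α : Type} [Fintype α] [DecidableEq α] [Nonempty α] {B : Type*} [Ring B]
    [Algebra F B] [Nontrivial B] (φ ψ : Matrix α α F →ₐ[F] B) (h : ∀ X, ∃ Y, φ X = ψ Y) :
    ∃ a : GL α F, ∀ X, φ X = ψ (cj a X) := by
  have hψ := algHom_matrix_injective ψ
  let e := AlgEquiv.ofInjective ψ hψ
  obtain ⟨a, ha⟩ := exists_cj_of_algHom (e.symm.toAlgHom.comp (φ.codRestrict ψ.range fun X => by
    obtain ⟨Y, hY⟩ := h X; exact ⟨Y, hY.symm⟩))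
  refine ⟨a, fun X => ?_⟩
  rw [← ha]
  have := congrArg Subtype.val (e.apply_symm_apply (φ.codRestrict ψ.range (fun X => by
    obtain ⟨Y, hY⟩ := h X; exact ⟨Y, hY.symm⟩) X))
  exact this.symm

theorem mem_wreath_of_permutes (hm : 0 < m) (ht : 0 < t) {g : GL (Fin t → Fin m) F}
    (π : Equiv.Perm (Fin t)) (h : ∀ i X, ∃ Y, cj g (embT i X) = embT (π i) Y) :
    g ∈ tensorWreathStandard m t F := by
  have : Nonempty (Fin m) := ⟨⟨0, hm⟩⟩
  have h1 : ∀ i, ∃ a : GL (Fin m) F, ∀ X, cj g (embT i X) = embT (π i) (cj a X) := fun i =>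
    exists_cj_of_range ((cj g).toAlgHom.comp (embAlg i)) (embAlg (π i)) (h i)
  choose a ha using h1
  have h2 : (permGL F (Fin m) π * pureGL a)⁻¹ * g ∈ scalars (Fin t → Fin m) F := by
    obtain ⟨c, hc⟩ := scalar_of_commute_embT
      (Y := (((permGL F (Fin m) π * pureGL a)⁻¹ * g : GL (Fin t → Fin m) F) :
        Matrix (Fin t → Fin m) (Fin t → Fin m) F)) fun i X => by
        rw [← cj_eq_iff, cj_mul, ha]
        have : embT (π i) (cj (a i) X) = cj (permGL F (Fin m) π * pureGL a) (embT i X) := by
          rw [cj_mul, embT, embT, cj_pureGL, cj_permGL, ← mulSingle_comp_symm]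
          congr 2
          funext j
          by_cases hj : j = i
          · subst hj; simp
          · simp [hj]
        rw [this, cj_inv_cj]
    exact mem_scalars_of_eq_smul hc
  have h3 := (tensorWreathStandard m t F).mul_mem
    ((tensorWreathStandard m t F).mul_mem (permGL_mem π) (pureGL_mem a)) (scalars_le_wreath ht h2)
  rwa [mul_inv_cancel_left] at h3

theorem mem_tensorWreath_of_permutes (hm : 0 < m) (ht : 0 < t) {e : ι ≃ (Fin t → Fin m)}
    {P : GL ι F} {g : GL ι F} (π : Equiv.Perm (Fin t))
    (h : ∀ i X, ∃ Y, cj g (trans e P (embT i X)) = trans e P (embT (π i) Y)) :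
    g ∈ tensorWreathSubgroup m t e P := by
  rw [tensorWreathSubgroup, mem_map_trans]
  refine ⟨unitsBack (trans e P) g, mem_wreath_of_permutes hm ht π fun i X => ?_, by
    rw [unitsBack_coe, AlgEquiv.apply_symm_apply]⟩
  obtain ⟨Y, hY⟩ := h i X
  exact ⟨Y, (trans e P).injective (by rw [cj_unitsBack, hY])⟩

end wreath

end Cfsg.Agent.H18
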