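import Cfsg.Agent.H18.Linear

/-! Transvections and elements with a large fixed space inside the geometric subgroups. -/

set_option autoImplicit false

namespace Cfsg.Agent.H18

open Cfsg.Geo
open scoped MatrixGroups Matrix Kronecker

variable {ι : Type} [Fintype ι] [DecidableEq ι] {F : Type*} [Field F]

lemma eq_of_maximal {G : Type*} [Group G] {G₀ H M : Subgroup G} (hH : IsMaximalIn G₀ H)
    (hle : H ≤ M) (hne : ¬ G₀ ≤ M) : H = M ⊓ G₀ := by
  rcases hH.2 (M ⊓ G₀) (le_inf hle hH.1.le) inf_le_right with h | h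
  · exact h.symm
  · exact absurd (h.ge.trans inf_le_left) hne

/-- the transvection `v ↦ v + (φ ⬝ v) w` -/
def tv (w φ : ι → F) (h : φ ⬝ᵥ w = 0) : GL ι F where
  val := 1 + Matrix.vecMulVec w φ
  inv := 1 - Matrix.vecMulVec w φ
  val_inv := by simp [mul_sub, add_mul, Matrix.vecMulVec_mul_vecMulVec, h]
  inv_val := by simp [mul_add, sub_mul, Matrix.vecMulVec_mul_vecMulVec, h]

lemma tv_coe (w φ : ι → F) (h : φ ⬝ᵥ w = 0) :
    (tv w φ h : Matrix ι ι F) = 1 + Matrix.vecMulVec w φ := rfl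

lemma tv_inv_coe (w φ : ι → F) (h : φ ⬝ᵥ w = 0) :
    (((tv w φ h)⁻¹ : GL ι F) : Matrix ι ι F) = 1 - Matrix.vecMulVec w φ := rfl

lemma tv_mulVec (w φ : ι → F) (h : φ ⬝ᵥ w = 0) (v : ι → F) :
    (tv w φ h : Matrix ι ι F) *ᵥ v = v + (φ ⬝ᵥ v) • w := by
  rw [tv_coe, Matrix.add_mulVec, Matrix.one_mulVec, Matrix.vecMulVec_mulVec]; simp

lemma tv_inv_mulVec (w φ : ι → F) (h : φ ⬝ᵥ w = 0) (v : ι → F) :
    (((tv w φ h)⁻¹ : GL ι F) : Matrix ι ι F) *ᵥ v = v - (φ ⬝ᵥ v) • w := by
  rw [tv_inv_coe, Matrix.sub_mulVec, Matrix.one_mulVec, Matrix.vecMulVec_mulVec]; simp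

lemma mem_specialLinear {g : GL ι F} : g ∈ specialLinear ι F ↔ (g : Matrix ι ι F).det = 1 := by
  rw [specialLinear, MonoidHom.mem_ker, Units.ext_iff]; rfl

lemma tv_mem_SL (w φ : ι → F) (h : φ ⬝ᵥ w = 0) : tv w φ h ∈ specialLinear ι F := by
  rw [mem_specialLinear, tv_coe, Matrix.vecMulVec_eq Unit,
    Matrix.det_one_add_replicateCol_mul_replicateRow, h, add_zero]

lemma tv_sub_mem (w φ : ι → F) (h : φ ⬝ᵥ w = 0) (v : ι → F) :
    (tv w φ h : Matrix ι ι F) *ᵥ v - v ∈ Submodule.span F {w} := by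
  rw [tv_mulVec, add_sub_cancel_left]
  exact Submodule.smul_mem _ _ (Submodule.mem_span_singleton_self w)

lemma exists_dot_of_notMem {W : Submodule F (ι → F)} {v : ι → F} (hv : v ∉ W) :
    ∃ φ : ι → F, φ ⬝ᵥ v = 1 ∧ ∀ w ∈ W, φ ⬝ᵥ w = 0 := by
  obtain ⟨f, h1, h2⟩ := W.exists_dual_map_eq_bot_of_notMem hv inferInstance
  have h3 : ∀ x, (fun i => f (Pi.single i 1)) ⬝ᵥ x = f x := fun x => by
    conv_rhs => rw [← Finset.univ_sum_single x]
    rw [map_sum, dotProduct]
    refine Finset.sum_congr rfl fun i _ => ?_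
    have : (Pi.single i (x i) : ι → F) = x i • Pi.single i 1 := by rw [← Pi.single_smul]; simp
    rw [this, map_smul, smul_eq_mul, mul_comm]
  refine ⟨(f v)⁻¹ • fun i => f (Pi.single i 1), by rw [smul_dotProduct, h3]; simp [h1],
    fun w hw => ?_⟩
  have : f w = 0 := by
    have : f w ∈ W.map f := ⟨w, hw, rfl⟩
    rwa [h2, Submodule.mem_bot] at this
  rw [smul_dotProduct, h3, this, smul_zero]

omit [DecidableEq ι] in
lemma exists_notMem_of_finrank_lt {W : Submodule F (ι → F)}
    (h : Module.finrank F W < Fintype.card ι) : ∃ v, v ∉ W := by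
  by_contra! h1
  rw [Submodule.eq_top_iff'.mpr h1] at h
  simp at h

omit [Fintype ι] [DecidableEq ι] in
lemma finrank_span_singleton_le (w : ι → F) : Module.finrank F (Submodule.span F {w}) ≤ 1 := by
  simpa using finrank_span_le_card ({w} : Set (ι → F))

omit [DecidableEq ι] in
lemma finrank_sup_le' (U W : Submodule F (ι → F)) :
    Module.finrank F (U ⊔ W : Submodule F (ι → F)) ≤ Module.finrank F U + Module.finrank F W :=
  Submodule.finrank_add_le_finrank_add_finrank U W

omit [DecidableEq ι] in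
lemma finrank_le_of_injective {V : Type*} [AddCommGroup V] [Module F V] (L : V →ₗ[F] (ι → F))
    (hL : ∀ z, L z = 0 → z = 0) {U : Submodule F (ι → F)} (hU : ∀ z, L z ∈ U) :
    Module.finrank F V ≤ Module.finrank F U :=
  LinearMap.finrank_le_finrank_of_injective (f := L.codRestrict U hU)
    ((injective_iff_map_eq_zero _).mpr fun z hz => hL z (congrArg Subtype.val hz))

lemma scalar_of_forall_mem_span {X : Matrix ι ι F} (h : ∀ u, X *ᵥ u ∈ Submodule.span F {u}) :
    ∃ c : F, X = c • (1 : Matrix ι ι F) := by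
  have h1 : ∀ i j, i ≠ j → X i j = 0 := fun i j hij => by
    obtain ⟨c, hc⟩ := Submodule.mem_span_singleton.mp (h (Pi.single j 1))
    simpa [hij] using (congrFun hc i).symm
  have h2 : ∀ i j, X i i = X j j := fun i j => by
    by_cases hij : i = j
    · rw [hij]
    obtain ⟨c, hc⟩ := Submodule.mem_span_singleton.mp (h (Pi.single i 1 + Pi.single j 1))
    have h3 := congrFun hc i
    have h4 := congrFun hc j
    simp [Matrix.mulVec_add, hij, Ne.symm hij, h1 i j hij, h1 j i (Ne.symm hij)] at h3 h4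
    rw [← h3, ← h4]
  rcases isEmpty_or_nonempty ι with h0 | ⟨⟨i⟩⟩
  · exact ⟨0, Subsingleton.elim _ _⟩
  · refine ⟨X i i, ?_⟩
    ext a b
    by_cases hab : a = b
    · subst hab; simp [h2 a i]
    · simp [hab, h1 a b hab]

section small

variable {g : GL ι F} {U : Submodule F (ι → F)}

lemma centralizes_of_small {r : ℕ} {K : Subalgebra F (Matrix ι ι F)} (hK : IsFieldSubalgebra r K)
    (hg : g ∈ subalgebraNormalizer K) (hU : ∀ v, (g : Matrix ι ι F) *ᵥ v - v ∈ U)
    (hd : 2 * Module.finrank F U < Fintype.card ι) : ∀ k ∈ K, (g : Matrix ι ι F) * k = k * g := by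
  intro k hk
  by_contra hne
  have h1 : cj g k - k ∈ K := K.sub_mem ((mem_subalgebraNormalizer.mp hg k).mp hk) hk
  obtain ⟨y, -, hy⟩ := hK.inv _ h1 (fun h0 => hne ((cj_eq_iff _ _ _).mp (sub_eq_zero.mp h0)))
  have h2 : (⊤ : Submodule F (ι → F)) ≤ U ⊔ U.map (Matrix.toLin' k) := by
    intro v _
    set u := ((g⁻¹ : GL ι F) : Matrix ι ι F) *ᵥ (y *ᵥ v)
    have h3 : v = ((g : Matrix ι ι F) *ᵥ (k *ᵥ u) - k *ᵥ u) - k *ᵥ ((g : Matrix ι ι F) *ᵥ u - u) := by
      rw [← cj_mulVec, Matrix.mulVec_sub, mulVec_inv_mulVec, sub_sub_sub_cancel_right,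
        ← Matrix.sub_mulVec, Matrix.mulVec_mulVec, hy, Matrix.one_mulVec]
    rw [h3]
    exact Submodule.sub_mem _ (Submodule.mem_sup_left (hU _))
      (Submodule.mem_sup_right ⟨_, hU u, rfl⟩)
  have h4 := Submodule.finrank_mono h2
  have h5 := finrank_sup_le' U (U.map (Matrix.toLin' k))
  have h6 := Submodule.finrank_map_le (Matrix.toLin' k) U
  simp at h4
  omega

lemma le_finrank_of_centralizes {r : ℕ} {K : Subalgebra F (Matrix ι ι F)}
    (hK : IsFieldSubalgebra r K) (hc : ∀ k ∈ K, (g : Matrix ι ι F) * k = k * g)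
    (hU : ∀ v, (g : Matrix ι ι F) *ᵥ v - v ∈ U) {v : ι → F} (hv : (g : Matrix ι ι F) *ᵥ v ≠ v) :
    r ≤ Module.finrank F U := by
  rw [← hK.finrank_eq]
  let L : K →ₗ[F] (ι → F) :=
    { toFun := fun k => (k : Matrix ι ι F) *ᵥ ((g : Matrix ι ι F) *ᵥ v - v)
      map_add' := fun a b => by simp [Matrix.add_mulVec]
      map_smul' := fun c a => by simp [Matrix.smul_mulVec] }
  refine finrank_le_of_injective L (fun k hk => ?_) fun k => ?_
  · by_contra h0
    obtain ⟨y, hy, h1⟩ := hK.inv k k.2 (fun h => h0 (Subtype.ext h))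
    apply hv
    rw [← sub_eq_zero, ← Matrix.one_mulVec (_ - _), ← h1, hK.comm _ k.2 _ hy,
      ← Matrix.mulVec_mulVec]
    change y *ᵥ L k = 0
    rw [hk, Matrix.mulVec_zero]
  · change (k : Matrix ι ι F) *ᵥ _ ∈ U
    rw [Matrix.mulVec_sub, Matrix.mulVec_mulVec, ← hc k k.2, ← Matrix.mulVec_mulVec]
    exact hU _

/-- tensor product of vectors -/
def kronV {α β : Type} (u : α → F) (z : β → F) : α × β → F := fun p => u p.1 * z p.2

lemma kron_mulVec {α β : Type} [Fintype α] [Fintype β] (X : Matrix α α F) (Y : Matrix β β F)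
    (u : α → F) (z : β → F) : (X ⊗ₖ Y) *ᵥ kronV u z = kronV (X *ᵥ u) (Y *ᵥ z) := by
  ext p
  simp only [kronV, Matrix.mulVec, dotProduct, Fintype.sum_prod_type, Finset.sum_mul_sum,
    Matrix.kroneckerMap_apply]
  exact Finset.sum_congr rfl fun _ _ => Finset.sum_congr rfl fun _ _ => by ring

lemma mulVec_comp_eq_zero {κ : Type} {e : ι ≃ κ} {P : GL ι F} {c : κ → F}
    (h : (P : Matrix ι ι F) *ᵥ (c ∘ e) = 0) : c = 0 := by
  rw [mulVec_eq_zero_iff] at h
  funext k
  simpa using congrFun h (e.symm k)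

lemma scalar_of_small_kron {α β : Type} [Fintype α] [DecidableEq α] [Fintype β] [DecidableEq β]
    {e : ι ≃ α × β} {P : GL ι F} {x : GL α F} {y : GL β F}
    (h : (g : Matrix ι ι F) = trans e P ((x : Matrix α α F) ⊗ₖ (y : Matrix β β F)))
    (hU : ∀ v, (g : Matrix ι ι F) *ᵥ v - v ∈ U) (hd : Module.finrank F U < Fintype.card β) :
    ∃ c : F, (x : Matrix α α F) = c • 1 := by
  refine scalar_of_forall_mem_span fun u => ?_
  by_contra hu
  obtain ⟨ψ, h1, h2⟩ := exists_dot_of_notMem hu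
  have h3 := h2 u (Submodule.mem_span_singleton_self u)
  let L : (β → F) →ₗ[F] (ι → F) :=
    { toFun := fun z => (g : Matrix ι ι F) *ᵥ ((P : Matrix ι ι F) *ᵥ (kronV u z ∘ e)) -
        (P : Matrix ι ι F) *ᵥ (kronV u z ∘ e)
      map_add' := fun a b => by
        have : kronV u (a + b) ∘ e = kronV u a ∘ e + kronV u b ∘ e := by
          funext i; simp [kronV, mul_add]
        simp only [this, Matrix.mulVec_add]; abel
      map_smul' := fun c a => by
        have : kronV u (c • a) ∘ e = c • (kronV u a ∘ e) := by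
          funext i; simp [kronV, mul_left_comm]
        simp only [this, Matrix.mulVec_smul, smul_sub, RingHom.id_apply] }
  have := finrank_le_of_injective L (fun z hz => by
    change (g : Matrix ι ι F) *ᵥ _ - _ = 0 at hz
    rw [h, trans_mulVec, kron_mulVec, ← Matrix.mulVec_sub] at hz
    have h4 := mulVec_comp_eq_zero (c := kronV _ _ - kronV u z) hz
    rw [← mulVec_eq_zero_iff y]
    funext b
    have h5 : ψ ⬝ᵥ (((y : Matrix β β F) *ᵥ z) b • ((x : Matrix α α F) *ᵥ u) - z b • u) = 0 := by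
      rw [← dotProduct_zero ψ]; congr 1
      funext a
      simpa [kronV, mul_comm] using congrFun h4 (a, b)
    simpa [h1, h3] using h5) (fun z => hU _)
  simp at this
  omega

lemma scalar_of_mem_tensor {a b : ℕ} {e : ι ≃ Fin a × Fin b} {P : GL ι F}
    (hg : g ∈ tensorProductSubgroup a b e P) (hU : ∀ v, (g : Matrix ι ι F) *ᵥ v - v ∈ U)
    (ha : Module.finrank F U < a) (hb : Module.finrank F U < b) :
    ∃ c : F, (g : Matrix ι ι F) = c • 1 := by
  obtain ⟨x, y, h⟩ := mem_tensorProductSubgroup.mp hg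
  obtain ⟨c, hc⟩ := scalar_of_small_kron h hU (by simpa using hb)
  obtain ⟨d, hd⟩ := scalar_of_small_kron (h.trans (trans_swap e P _ _).symm) hU (by simpa using ha)
  exact ⟨c * d, by rw [h, hc, hd, Matrix.smul_kronecker, Matrix.kronecker_smul, smul_smul,
    Matrix.one_kronecker_one, map_smul, map_one]⟩

lemma eq_one_of_scalar_small {c : F} (h : (g : Matrix ι ι F) = c • 1)
    (hU : ∀ v, (g : Matrix ι ι F) *ᵥ v - v ∈ U) (hd : Module.finrank F U < Fintype.card ι) :
    g = 1 := by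
  obtain ⟨v, hv⟩ := exists_notMem_of_finrank_lt hd
  have h1 := hU v
  rw [h, Matrix.smul_mulVec, Matrix.one_mulVec] at h1
  have : c = 1 := by
    by_contra hc
    apply hv
    have := U.smul_mem (c - 1)⁻¹ h1
    rwa [show c • v - v = (c - 1) • v by rw [sub_smul, one_smul], smul_smul,
      inv_mul_cancel₀ (sub_ne_zero.mpr hc), one_smul] at this
  exact Units.ext (by rw [h, this, one_smul, Units.val_one])

end small

section pureV

variable {κ α : Type} [Fintype κ] [DecidableEq κ] [Fintype α] [DecidableEq α]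

/-- pure tensors -/
def pureV (x : κ → α → F) : (κ → α) → F := fun z => ∏ i, x i (z i)

lemma pureT_mulVec (X : κ → Matrix α α F) (x : κ → α → F) :
    pureT X *ᵥ pureV x = pureV fun i => X i *ᵥ x i := by
  ext z
  simp only [pureV, Matrix.mulVec, dotProduct, pureT_apply, Finset.prod_univ_sum,
    Fintype.piFinset_univ, Finset.prod_mul_distrib]

lemma permT_mulVec (π : Equiv.Perm κ) (x : κ → α → F) :
    permT F α π *ᵥ pureV x = pureV (x ∘ π.symm) := by
  ext z
  simp only [permT, Matrix.mulVec, dotProduct, Matrix.of_apply, ite_mul, one_mul, zero_mul,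
    Finset.sum_ite_eq', Finset.mem_univ, if_true, pureV]
  exact Fintype.prod_equiv π _ _ (by simp)

omit [Fintype α] [DecidableEq α] in
lemma pureV_eq_zero {x : κ → α → F} (h : pureV x = 0) : ∃ i, x i = 0 := by
  by_contra! h1
  choose z hz using fun i => Function.ne_iff.mp (h1 i)
  exact Finset.prod_ne_zero_iff.mpr (fun i _ => hz i) (congrFun h z)

omit [Fintype α] [DecidableEq α] in
lemma pureV_of_eq_zero {x : κ → α → F} {i : κ} (h : x i = 0) : pureV x = 0 := by
  ext z
  exact Finset.prod_eq_zero (Finset.mem_univ i) (by rw [h]; rfl)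

/-- pure tensors as a linear function of one slot -/
def pureL (x : κ → α → F) (k : κ) : (α → F) →ₗ[F] ((κ → α) → F) where
  toFun y := pureV (Function.update x k y)
  map_add' a b := by
    ext z
    simp only [pureV, Pi.add_apply]
    rw [← Finset.mul_prod_erase _ _ (Finset.mem_univ k),
      ← Finset.mul_prod_erase _ _ (Finset.mem_univ k),
      ← Finset.mul_prod_erase _ _ (Finset.mem_univ k)]
    have : ∀ y : α → F, ∏ j ∈ Finset.univ.erase k, Function.update x k y j (z j) =
        ∏ j ∈ Finset.univ.erase k, x j (z j) := fun y =>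
      Finset.prod_congr rfl fun j hj => by rw [Function.update_of_ne (Finset.ne_of_mem_erase hj)]
    simp only [this, Function.update_self, Pi.add_apply, add_mul]
  map_smul' c a := by
    ext z
    simp only [pureV, Pi.smul_apply, RingHom.id_apply, smul_eq_mul]
    rw [← Finset.mul_prod_erase _ _ (Finset.mem_univ k),
      ← Finset.mul_prod_erase _ _ (Finset.mem_univ k)]
    have : ∀ y : α → F, ∏ j ∈ Finset.univ.erase k, Function.update x k y j (z j) =
        ∏ j ∈ Finset.univ.erase k, x j (z j) := fun y =>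
      Finset.prod_congr rfl fun j hj => by rw [Function.update_of_ne (Finset.ne_of_mem_erase hj)]
    simp only [this, Function.update_self, Pi.smul_apply, smul_eq_mul, mul_assoc]

lemma permGL_mul (π ρ : Equiv.Perm κ) : permGL F α π * permGL F α ρ = permGL F α (π * ρ) := by
  refine Units.ext ?_
  ext x y
  change (permT F α π * permT F α ρ) x y = permT F α (π * ρ) x y
  rw [permT_mul]; rfl

lemma permGL_mul_pureGL (π : Equiv.Perm κ) (a : κ → GL α F) :
    permGL F α π * pureGL a = pureGL (a ∘ π.symm) * permGL F α π :=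
  Units.ext ((cj_eq_iff _ _ _).mp (cj_permGL π fun i => (a i : Matrix α α F)))

lemma pureGL_mul (a b : κ → GL α F) : pureGL a * pureGL b = pureGL (a * b) :=
  Units.ext (pureT.map_mul _ _).symm

lemma exists_eq_of_mem_wreath {m t : ℕ} {s : GL (Fin t → Fin m) F}
    (hs : s ∈ tensorWreathStandard m t F) :
    ∃ (a : Fin t → GL (Fin m) F) (π : Equiv.Perm (Fin t)), s = pureGL a * permGL F (Fin m) π := by
  have h1 : permGL F (Fin m) (1 : Equiv.Perm (Fin t)) = 1 := by
    refine Units.ext ?_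
    ext x y
    change permT F (Fin m) 1 x y = _
    simp [permT, Matrix.one_apply, eq_comm]
  have h2 : pureGL (1 : Fin t → GL (Fin m) F) = 1 := Units.ext pureT.map_one
  refine wreath_induction (p := fun s => ∃ (a : Fin t → GL (Fin m) F) (π : Equiv.Perm (Fin t)),
    s = pureGL a * permGL F (Fin m) π) (fun a => ⟨a, 1, by rw [h1, mul_one]⟩)
    (fun π => ⟨1, π, by rw [h2, one_mul]⟩) ?_ ?_ hs
  · rintro _ _ ⟨a, π, rfl⟩ ⟨b, ρ, rfl⟩
    exact ⟨a * (b ∘ π.symm), π * ρ, by
      rw [mul_assoc, ← mul_assoc (permGL _ _ _), permGL_mul_pureGL, ← pureGL_mul, ← permGL_mul]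
      simp only [mul_assoc]⟩
  · rintro _ ⟨a, π, rfl⟩
    refine ⟨a⁻¹ ∘ π, π⁻¹, ?_⟩
    have := permGL_mul_pureGL (F := F) π⁻¹ a⁻¹
    rw [inv_eq_iff_mul_eq_one, show (a⁻¹ ∘ π) = a⁻¹ ∘ (π⁻¹).symm from rfl, ← this, mul_assoc,
      ← mul_assoc (permGL _ _ _), permGL_mul, mul_inv_cancel, h1, one_mul, pureGL_mul,
      mul_inv_cancel, h2]

variable {g : GL ι F} {U : Submodule F (ι → F)} {e : ι ≃ (κ → α)} {P : GL ι F}
  {a : κ → GL α F} {π : Equiv.Perm κ}

lemma wreath_key
    (h : (g : Matrix ι ι F) = trans e P ((pureGL a * permGL F α π : GL (κ → α) F) : Matrix _ _ F))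
    {x : κ → α → F} (h0 : (g : Matrix ι ι F) *ᵥ ((P : Matrix ι ι F) *ᵥ (pureV x ∘ e)) -
      (P : Matrix ι ι F) *ᵥ (pureV x ∘ e) = 0) (i : κ) :
    x i ∈ Submodule.span F {(a i : Matrix α α F) *ᵥ x (π.symm i)} ∨ ∃ j, x j = 0 := by
  by_contra! h1
  obtain ⟨ψ, h2, h3⟩ := exists_dot_of_notMem h1.1
  rw [h, trans_mulVec, ← Matrix.mulVec_sub, Units.val_mul, ← Matrix.mulVec_mulVec] at h0
  have h4 := sub_eq_zero.mp (mulVec_comp_eq_zero (c := _ - pureV x) h0)
  change pureT _ *ᵥ (permT F α π *ᵥ _) = _ at h4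
  rw [permT_mulVec, pureT_mulVec] at h4
  have h5 := congrArg (fun v => embT i (Matrix.vecMulVec (x i) ψ) *ᵥ v) h4
  simp only [embT, pureT_mulVec] at h5
  rw [pureV_of_eq_zero (i := i) (by
    rw [Pi.mulSingle_eq_same, Matrix.vecMulVec_mulVec, Function.comp_apply,
      h3 _ (Submodule.mem_span_singleton_self _)]
    simp)] at h5
  obtain ⟨j, hj⟩ := pureV_eq_zero h5.symm
  by_cases hji : j = i
  · subst hji
    simp [Matrix.vecMulVec_mulVec, h2, h1.2 j] at hj
  · simp [hji, h1.2 j] at hj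

/-- the linear map measuring the commutator space on pure tensors -/
def wreathL (g : GL ι F) (e : ι ≃ (κ → α)) (P : GL ι F) (x : κ → α → F) (k : κ) :
    (α → F) →ₗ[F] (ι → F) :=
  (Matrix.toLin' (g : Matrix ι ι F) - LinearMap.id) ∘ₗ Matrix.toLin' (P : Matrix ι ι F) ∘ₗ
    LinearMap.funLeft F F e ∘ₗ pureL x k

omit [DecidableEq α] in
lemma wreathL_apply (x : κ → α → F) (k : κ) (y : α → F) : wreathL g e P x k y =
    (g : Matrix ι ι F) *ᵥ ((P : Matrix ι ι F) *ᵥ (pureV (Function.update x k y) ∘ e)) -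
      (P : Matrix ι ι F) *ᵥ (pureV (Function.update x k y) ∘ e) := rfl

lemma card_le_of_wreath
    (h : (g : Matrix ι ι F) = trans e P ((pureGL a * permGL F α π : GL (κ → α) F) : Matrix _ _ F))
    (hU : ∀ v, (g : Matrix ι ι F) *ᵥ v - v ∈ U) {x : κ → α → F} (hx : ∀ j, x j ≠ 0) {i k : κ}
    (hki : k ≠ i) (hki' : k ≠ π.symm i)
    (hi : x i ∉ Submodule.span F {(a i : Matrix α α F) *ᵥ x (π.symm i)}) :
    Fintype.card α ≤ Module.finrank F U := by
  have := finrank_le_of_injective (wreathL g e P x k) (fun y hy => by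
    rcases wreath_key h hy i with h1 | ⟨j, hj⟩
    · rw [Function.update_of_ne hki.symm, Function.update_of_ne hki'.symm] at h1
      exact absurd h1 hi
    · by_cases hjk : j = k
      · subst hjk; simpa using hj
      · rw [Function.update_of_ne hjk] at hj; exact absurd hj (hx j)) (fun y => hU _)
  simpa using this

lemma card_le_succ_of_wreath [Nonempty α]
    (h : (g : Matrix ι ι F) = trans e P ((pureGL a * permGL F α π : GL (κ → α) F) : Matrix _ _ F))
    (hU : ∀ v, (g : Matrix ι ι F) *ᵥ v - v ∈ U) {i : κ} (hi : π.symm i ≠ i) :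
    Fintype.card α ≤ Module.finrank F U + 1 := by
  let x : κ → α → F := fun _ _ => 1
  have hx : ∀ j, x j ≠ 0 := fun j h0 => one_ne_zero (congrFun h0 (Classical.arbitrary α))
  let L := wreathL g e P x i
  have h1 : LinearMap.ker L ≤ Submodule.span F {(a i : Matrix α α F) *ᵥ x (π.symm i)} := by
    intro y hy
    rcases wreath_key h hy i with h1 | ⟨j, hj⟩
    · rwa [Function.update_self, Function.update_of_ne hi] at h1
    · by_cases hjk : j = i
      · subst hjk; rw [Function.update_self] at hj; rw [hj]; exact zero_mem _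
      · rw [Function.update_of_ne hjk] at hj; exact absurd hj (hx j)
  have h2 : LinearMap.range L ≤ U := by rintro _ ⟨y, rfl⟩; exact hU _
  have h3 := L.finrank_range_add_finrank_ker
  have h4 := (Submodule.finrank_mono h1).trans (finrank_span_singleton_le _)
  have h5 := Submodule.finrank_mono h2
  simp at h3
  omega

lemma scalar_of_pure_small [Nonempty α] (ht : 2 ≤ Fintype.card κ)
    (h : (g : Matrix ι ι F) = trans e P ((pureGL a * permGL F α 1 : GL (κ → α) F) : Matrix _ _ F))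
    (hU : ∀ v, (g : Matrix ι ι F) *ᵥ v - v ∈ U) (hd : Module.finrank F U < Fintype.card α) :
    ∃ c : F, (g : Matrix ι ι F) = c • 1 := by
  have h1 : ∀ i, ∃ c : F, (a i : Matrix α α F) = c • 1 := by
    intro i
    obtain ⟨c, hc⟩ := scalar_of_forall_mem_span (X := (((a i)⁻¹ : GL α F) : Matrix α α F)) fun u => by
      by_contra hu
      obtain ⟨k, hk⟩ := Fintype.exists_ne_of_one_lt_card ht i
      have hu0 : (((a i)⁻¹ : GL α F) : Matrix α α F) *ᵥ u ≠ 0 := fun h0 => hu (h0 ▸ zero_mem _)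
      have := card_le_of_wreath h hU (x := fun _ => (((a i)⁻¹ : GL α F) : Matrix α α F) *ᵥ u)
        (fun _ => hu0) hk hk (by rwa [mulVec_inv_mulVec])
      omega
    obtain ⟨d, hd⟩ := mem_scalars_sc.mp (inv_mem (mem_scalars_of_eq_smul hc))
    exact ⟨d, by rw [← sc_coe, hd, inv_inv]⟩
  choose c hc using h1
  refine ⟨∏ i, c i, ?_⟩
  have h2 : permT F α (1 : Equiv.Perm κ) = 1 := by
    ext x y; simp [permT, Matrix.one_apply, eq_comm]
  rw [h, Units.val_mul]
  change trans e P (pureT _ * permT F α 1) = _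
  simp only [hc]
  rw [h2, mul_one, show (fun i => c i • (1 : Matrix α α F)) = fun i => c i • (1 : κ → _) i from rfl,
    pureT_smul, map_one, map_smul, map_one]

end pureV

lemma scalar_of_mem_wreath {g : GL ι F} {U : Submodule F (ι → F)} {m t : ℕ}
    {e : ι ≃ (Fin t → Fin m)} {P : GL ι F} (hg : g ∈ tensorWreathSubgroup m t e P)
    (hU : ∀ v, (g : Matrix ι ι F) *ᵥ v - v ∈ U) (ht : 2 ≤ t)
    (hd : Module.finrank F U + 1 < m ∨ (Module.finrank F U < m ∧ 2 ≤ m ∧ 3 ≤ t)) :
    ∃ c : F, (g : Matrix ι ι F) = c • 1 := by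
  obtain ⟨s, hs, h⟩ := (mem_map_trans e P _ g).mp hg
  obtain ⟨a, π, rfl⟩ := exists_eq_of_mem_wreath hs
  have : Nonempty (Fin m) := ⟨⟨0, by omega⟩⟩
  by_cases hπ : π = 1
  · subst hπ
    exact scalar_of_pure_small (by simpa using ht) h hU (by simp; omega)
  exfalso
  obtain ⟨i, hi⟩ : ∃ i, π.symm i ≠ i := by
    by_contra! h0
    exact hπ (by rw [← inv_eq_one]; exact Equiv.ext h0)
  rcases hd with hd | ⟨hd, hm, ht3⟩
  · have := card_le_succ_of_wreath h hU hi
    simp at this; omega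
  · obtain ⟨k, hk⟩ : ∃ k : Fin t, k ∉ ({i, π.symm i} : Finset (Fin t)) := by
      by_contra! h0
      have := Finset.card_le_card (fun k _ => h0 k : Finset.univ ⊆ ({i, π.symm i} : Finset (Fin t)))
      have h2 := Finset.card_le_two (a := i) (b := π.symm i)
      simp at this; omega
    simp only [Finset.mem_insert, Finset.mem_singleton, not_or] at hk
    obtain ⟨u, hu⟩ := exists_notMem_of_finrank_lt
      (W := Submodule.span F {(a i : Matrix (Fin m) (Fin m) F) *ᵥ fun _ => 1})
      ((finrank_span_singleton_le _).trans_lt (by simp; omega))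
    have := card_le_of_wreath h hU (x := Function.update (fun _ _ => 1) i u) (fun j => by
      by_cases hj : j = i
      · subst hj; rw [Function.update_self]; exact fun h0 => hu (h0 ▸ zero_mem _)
      · rw [Function.update_of_ne hj]
        exact fun h0 => one_ne_zero (congrFun h0 (Classical.arbitrary _))) hk.1 hk.2
      (by rwa [Function.update_self, Function.update_of_ne hi])
    simp at this; omega

omit [Fintype ι] [DecidableEq ι] in
lemma add_notMem_of_decomp {t : ℕ} {D : Fin t → Submodule F (ι → F)} (hD : iSupIndep D)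
    {i j : Fin t} (hij : i ≠ j) {v w : ι → F} (hv : v ∈ D i) (hw : w ∈ D j) (hv0 : v ≠ 0)
    (hw0 : w ≠ 0) (k : Fin t) : v + w ∉ D k := by
  intro h
  by_cases hk : k = i
  · subst hk
    apply hw0
    have h1 : w ∈ D k := by simpa using (D k).sub_mem h hv
    exact (Submodule.disjoint_def.mp (hD j)) w hw
      (Submodule.mem_iSup_of_mem k (Submodule.mem_iSup_of_mem hij h1))
  · apply hv0
    refine (Submodule.disjoint_def.mp (hD i)) v hv ?_
    have : v = (v + w) - w := by simp
    rw [this]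
    exact Submodule.sub_mem _ (Submodule.mem_iSup_of_mem k (Submodule.mem_iSup_of_mem hk h))
      (Submodule.mem_iSup_of_mem j (Submodule.mem_iSup_of_mem hij.symm hw))

lemma exists_mem_of_stab {t : ℕ} {D : Fin t → Submodule F (ι → F)} {g : GL ι F}
    (hg : g ∈ decompositionStabilizer D) {i : Fin t} {v : ι → F} (hv : v ∈ D i) :
    ∃ k, (g : Matrix ι ι F) *ᵥ v ∈ D k := by
  obtain ⟨π, hπ⟩ := hg
  exact ⟨π i, hπ i ▸ ⟨v, hv, rfl⟩⟩

omit [DecidableEq ι] in
lemma exists_ne_zero_of_decomp {t m : ℕ} {D : Fin t → Submodule F (ι → F)}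
    (hD : IsMDecomposition m D) (i : Fin t) : ∃ v ∈ D i, v ≠ 0 := by
  refine Submodule.exists_mem_ne_zero_of_ne_bot fun h => ?_
  have := hD.finrank_eq i
  have h2 := hD.pos
  rw [h, finrank_bot] at this
  omega

lemma eq_one_of_nilpotent {y : GL ι F} (h : IsNilpotent ((y : Matrix ι ι F) - 1)) {N : ℕ}
    (hN : (N : F) ≠ 0) (hy : y ^ N = 1) : y = 1 := by
  set M := (y : Matrix ι ι F) - 1 with hM
  have h1 : (∑ i ∈ Finset.range N, (y : Matrix ι ι F) ^ i) * M = 0 := by
    rw [hM, geom_sum_mul, ← Units.val_pow_eq_pow_val, hy, Units.val_one, sub_self]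
  have h2 : ∀ i, ∃ Z, Commute M Z ∧ (y : Matrix ι ι F) ^ i = 1 + M * Z := fun i =>
    ⟨∑ j ∈ Finset.range i, (y : Matrix ι ι F) ^ j, Commute.sum_right _ _ _ fun j _ =>
      ((Commute.refl _).sub_left (Commute.one_left _)).pow_right j, by
      rw [hM, mul_geom_sum, add_sub_cancel]⟩
  choose Z hZ hZ' using h2
  have h3 : IsUnit (∑ i ∈ Finset.range N, (y : Matrix ι ι F) ^ i) := by
    simp only [hZ', Finset.sum_add_distrib, Finset.sum_const, Finset.card_range, ← Finset.mul_sum]
    have hc : Commute M (∑ i ∈ Finset.range N, Z i) := Commute.sum_right _ _ _ fun i _ => hZ i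
    refine IsNilpotent.isUnit_add_left_of_commute (hc.isNilpotent_mul_right h) ?_ ?_
    · rw [nsmul_eq_mul, mul_one, ← map_natCast (algebraMap F (Matrix ι ι F))]
      exact (IsUnit.mk0 _ hN).map _
    · rw [nsmul_eq_mul, mul_one]; exact (Nat.cast_commute _ _).symm
  exact Units.ext (sub_eq_zero.mp (h3.mul_left_cancel (by rw [mul_zero]; exact h1)))

end Cfsg.Agent.H18
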